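import Cfsg.Agent.DS.Gen.Split
import Cfsg.Agent.ClassicalGeometry.OrthSemi
import Cfsg.Agent.DS.Cl.Grp
import Cfsg.Agent.H277.FC.SN
import Cfsg.Agent.S0264
import Cfsg.Agent.ClassicalGeometry.AutPSL.Main
import Cfsg.Agent.LieClassical.SympPerfect
import Cfsg.Agent.ClassicalGeometry.PSUAutMain
import Cfsg.Agent.LieClassical.HermPerfect
import Cfsg.Agent.FastGrp
import Cfsg.Agent.Prune
set_option linter.all false

section
prune_inst 0x7f00000000000000000000000000000000000000000000000000000000000000000000000000000000000000000000000000000000000000000000000000000000000000000000000000000000000000003fffffffffefffffffffffffffffbeffbdffffffff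

section
prune_inst 0xfdaafb3bfd79dfdfff7e7faededffdfdbb3fffe6fffdcbffe061ffab9f6f82cdc52bad8bfb13fe1fc7621490f87b53fbfffeffe26bdc7ffffd5ff49ffbff9fbde6b508519888940fbc2ff603f0778e7f000000000000000000000000000000000000000000

-- part: DS/Cl/Defs
section
prune_inst 0x10000000000000000000000000000000
set_option linter.all false
open scoped Cfsg.Agent.FastGrp

/-!
# S5881, classical groups: interface (helper56)

A classical group is the group of a finite ring with involution `(A, star)` without proper star-closed two-sided ideals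
(`SS A`): `A = M_n(K)` with the adjoint of a form, or `A = M_n(K) × M_n(K)ᵐᵒᵖ` with the swap (linear groups; the swap of
the two factors is the inverse-transpose automorphism).  `F : FR A` adds an element `l` with `l + star l = 1` and the form
parameter `L` (`Lmin = {a - star a}` or `Lmax = {x | star x = -x}`); the class `l + L` is the quadratic form (it matters
only for orthogonal groups in characteristic 2, where `L = Lmin`, `Q v = b (v, l v)`).
`F.Aut` is the projective semilinear conformal group, `F.Iso` the isometry group, `F.S` the image of its commutator group.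
See `notes/DS/classical.md`.
-/

set_option autoImplicit false

namespace Cfsg.Agent.DS.Cl

open Cfsg Cfsg.Agent.H936 Cfsg.Agent.DS

section defs

variable (A : Type) [Ring A] [StarRing A]

/-- the elements `a - star a` -/
def Lmin : AddSubgroup A where
  carrier := {x | ∃ a, x = a - star a}
  add_mem' := by
    rintro _ _ ⟨a, rfl⟩ ⟨b, rfl⟩
    exact ⟨a + b, by rw [star_add]; abel⟩
  zero_mem' := ⟨0, by simp⟩
  neg_mem' := by
    rintro _ ⟨a, rfl⟩
    exact ⟨-a, by rw [star_neg]; abel⟩

/-- the skew elements -/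
def Lmax : AddSubgroup A where
  carrier := {x | star x = -x}
  add_mem' := by
    intro a b (ha : star a = -a) (hb : star b = -b)
    show star (a + b) = -(a + b)
    rw [star_add, ha, hb]; abel
  zero_mem' := by simp
  neg_mem' := by
    intro a (ha : star a = -a)
    show star (-a) = - -a
    rw [star_neg, ha]

/-- a form structure on `A` -/
structure FR where
  /-- an element of trace one -/
  l : A
  /-- the form parameter -/
  L : AddSubgroup A
  l_add : l + star l = 1
  par : L = Lmin A ∨ L = Lmax A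

/-- `A` is star-simple (`Ideal A` = left ideals) -/
def SS : Prop :=
  Nontrivial A ∧ ∀ I : Ideal A, (∀ x ∈ I, ∀ a, x * a ∈ I) → (∀ x ∈ I, star x ∈ I) → I = ⊥ ∨ I = ⊤

omit [StarRing A] in
/-- conjugation by a unit -/
def cj : Aˣ →* RingAut A where
  toFun u :=
    { toFun := fun x => u * x * (u⁻¹ : Aˣ)
      invFun := fun x => (u⁻¹ : Aˣ) * x * u
      left_inv := fun x => by simp [mul_assoc]
      right_inv := fun x => by simp [mul_assoc]
      map_mul' := fun x y => by simp [mul_assoc]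
      map_add' := fun x y => by simp [mul_add, add_mul] }
  map_one' := by
    ext x
    change ((1 : Aˣ) : A) * x * (((1 : Aˣ)⁻¹ : Aˣ) : A) = x
    simp
  map_mul' u v := by
    ext x
    change ((u * v : Aˣ) : A) * x * (((u * v)⁻¹ : Aˣ) : A) = u * (v * x * ((v⁻¹ : Aˣ) : A)) * ((u⁻¹ : Aˣ) : A)
    simp [mul_assoc]

omit [StarRing A] in
/-- the automorphisms fixing the centre pointwise -/
def Lin : Subgroup (RingAut A) where
  carrier := {γ | ∀ c ∈ Subring.center A, γ c = c}
  mul_mem' := by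
    intro γ δ hγ hδ c hc
    change γ (δ c) = c
    rw [hδ c hc, hγ c hc]
  one_mem' := fun _ _ => rfl
  inv_mem' := by
    intro γ hγ c hc
    apply γ.injective
    change γ (γ.symm c) = γ c
    rw [γ.apply_symm_apply, hγ c hc]

/-- the automorphisms commuting with `star` -/
def SAut : Subgroup (RingAut A) where
  carrier := {γ | ∀ a, γ (star a) = star (γ a)}
  mul_mem' := by
    intro γ δ hγ hδ a
    change γ (δ (star a)) = star (γ (δ a))
    rw [hδ, hγ]
  one_mem' := fun _ => rfl
  inv_mem' := by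
    intro γ hγ a
    apply γ.injective
    change γ (γ.symm (star a)) = γ (star (γ.symm a))
    rw [hγ, γ.apply_symm_apply, γ.apply_symm_apply]

variable {A}

omit [StarRing A] in
theorem cj_apply (u : Aˣ) (x : A) : cj A u x = u * x * (u⁻¹ : Aˣ) := rfl

theorem Lmin_le_Lmax : Lmin A ≤ Lmax A := by
  rintro _ ⟨a, rfl⟩
  show star (a - star a) = -(a - star a)
  rw [star_sub, star_star, neg_sub]

namespace FR

variable (F : FR A)

theorem sub_star_mem (a : A) : a - star a ∈ F.L := by
  rcases F.par with h | h <;> rw [h]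
  · exact ⟨a, rfl⟩
  · exact Lmin_le_Lmax ⟨a, rfl⟩

theorem star_eq_neg {x : A} (hx : x ∈ F.L) : star x = -x := by
  rcases F.par with h | h <;> rw [h] at hx
  · exact Lmin_le_Lmax hx
  · exact hx

theorem conj_mem {x : A} (hx : x ∈ F.L) (a : A) : a * x * star a ∈ F.L := by
  rcases F.par with h | h <;> rw [h] at hx ⊢
  · obtain ⟨b, rfl⟩ := hx
    exact ⟨a * b * star a, by simp [mul_sub, sub_mul, mul_assoc]⟩
  · show star (a * x * star a) = -(a * x * star a)
    have hx' : star x = -x := hx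
    simp [hx', mul_assoc]

theorem map_mem {γ : RingAut A} (hγ : γ ∈ SAut A) {x : A} (hx : x ∈ F.L) : γ x ∈ F.L := by
  rcases F.par with h | h <;> rw [h] at hx ⊢
  · obtain ⟨b, rfl⟩ := hx
    exact ⟨γ b, by rw [map_sub, hγ]⟩
  · show star (γ x) = -γ x
    have hx' : star x = -x := hx
    rw [← hγ, hx', map_neg]

/-- the automorphisms of the form structure (projective semilinear conformal group) -/
def Aut : Subgroup (RingAut A) where
  carrier := {γ | γ ∈ SAut A ∧ γ F.l - F.l ∈ F.L}
  mul_mem' := by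
    rintro γ δ ⟨hγ, hγ'⟩ ⟨hδ, hδ'⟩
    refine ⟨mul_mem hγ hδ, ?_⟩
    have h := F.L.add_mem (F.map_mem hγ hδ') hγ'
    rw [map_sub, sub_add_sub_cancel] at h
    exact h
  one_mem' := ⟨one_mem _, by change F.l - F.l ∈ F.L; rw [sub_self]; exact F.L.zero_mem⟩
  inv_mem' := by
    rintro γ ⟨hγ, hγ'⟩
    refine ⟨inv_mem hγ, ?_⟩
    have h := F.L.neg_mem (F.map_mem (inv_mem hγ) hγ')
    rw [map_sub, neg_sub] at h
    have e : γ⁻¹ (γ F.l) = F.l := γ.symm_apply_apply _
    rwa [e] at h

/-- the isometry group -/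
def Iso : Subgroup Aˣ where
  carrier := {u | (u : A) * star (u : A) = 1 ∧ (u : A) * F.l * star (u : A) - F.l ∈ F.L}
  mul_mem' := by
    rintro u v ⟨hu, hu'⟩ ⟨hv, hv'⟩
    refine ⟨?_, ?_⟩
    · rw [Units.val_mul, star_mul, mul_assoc, ← mul_assoc (v : A), hv, one_mul, hu]
    · have h := F.L.add_mem (F.conj_mem hv' u) hu'
      have e : (u : A) * (v * F.l * star (v : A) - F.l) * star (u : A) + (u * F.l * star (u : A) - F.l) =
          ((u * v : Aˣ) : A) * F.l * star ((u * v : Aˣ) : A) - F.l := by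
        rw [Units.val_mul, star_mul]; noncomm_ring
      rwa [e] at h
  one_mem' := ⟨by simp, by simp⟩
  inv_mem' := by
    rintro u ⟨hu, hu'⟩
    have h1 : ((u⁻¹ : Aˣ) : A) = star (u : A) := by
      rw [← mul_one ((u⁻¹ : Aˣ) : A), ← hu, ← mul_assoc, Units.inv_mul, one_mul]
    have h2 : star (u : A) * u = 1 := by rw [← h1, Units.inv_mul]
    refine ⟨by rw [h1, star_star, h2], ?_⟩
    have h := F.L.neg_mem (F.conj_mem hu' (star (u : A)))
    have e : -(star (u : A) * (u * F.l * star (u : A) - F.l) * star (star (u : A))) =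
        star (u : A) * F.l * star (star (u : A)) - (star (u : A) * u) * F.l * (star (u : A) * u) := by
      rw [star_star]; noncomm_ring
    rw [e, h2, one_mul, mul_one] at h
    rwa [h1]

/-- the image of the commutator group of the isometry group: the simple classical group -/
def S : Subgroup (RingAut A) := (⁅F.Iso, F.Iso⁆ : Subgroup Aˣ).map (cj A)

/-- the commutator group of the isometry group and the centre generate `A` (absolute irreducibility) -/
def Span : Prop :=
  Subring.closure ((Subring.center A : Set A) ∪ ((fun u : Aˣ => (u : A)) '' (⁅F.Iso, F.Iso⁆ : Subgroup Aˣ))) = ⊤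

/-- the same involution with the maximal parameter -/
def max : FR A := ⟨F.l, Lmax A, F.l_add, Or.inr rfl⟩

end FR

/-- `M` is maximal among the subgroups of `F.Aut` not containing the simple group `F.S` -/
structure Ctx (F : FR A) (M : Subgroup (RingAut A)) : Prop where
  ss : SS A
  span : F.Span
  simple : IsSimpleGroup F.S
  noncomm : ¬ IsMulCommutative F.S
  le : M ≤ F.Aut
  not_le : ¬ F.S ≤ M
  max : ∀ M' : Subgroup (RingAut A), M ≤ M' → M' ≤ F.Aut → ¬ F.S ≤ M' → M' ≤ M

omit [StarRing A] in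
/-- the set `X` is invariant under `M` -/
def Inv (M : Subgroup (RingAut A)) (X : Set A) : Prop := ∀ γ ∈ M, ∀ x ∈ X, γ x ∈ X

omit [StarRing A] in
/-- `M` is irreducible: invariant left ideals are two-sided -/
def Irr (M : Subgroup (RingAut A)) : Prop := ∀ R : Ideal A, Inv M R → ∀ x ∈ R, ∀ a, x * a ∈ R

/-- a family of at least two non-zero orthogonal symmetric idempotents with sum `1` -/
structure Fr (D : Finset A) : Prop where
  two : 2 ≤ D.card
  ne : ∀ e ∈ D, e ≠ 0
  idem : ∀ e ∈ D, e * e = e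
  symm : ∀ e ∈ D, star e = e
  orth : ∀ e ∈ D, ∀ e' ∈ D, e ≠ e' → e * e' = 0
  sum : ∑ e ∈ D, e = 1

/-- a symmetric element of rank one -/
def Rk1 (s : A) : Prop := s ≠ 0 ∧ star s = s ∧ ∀ a, ∃ c ∈ Subring.center A, s * a * s = c * s

end defs

/-- `T` is the group `F.S` of a form ring, and the automorphisms in `Γ` are induced by `F.Aut` -/
def Model (T : Type) [Group T] (Γ : Set (MulAut T)) : Prop :=
  ∃ (A : Type) (_ : Ring A) (_ : StarRing A) (_ : Finite A) (F : FR A) (e : F.S ≃* T), SS A ∧ F.Span ∧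
    ∀ α ∈ Γ, ∃ γ ∈ F.Aut, ∀ s t : F.S, (t : RingAut A) = γ * s * γ⁻¹ → e t = α (e s)

/-! ### The boxes -/

/-- [B1] the key fact: `PS 5 (PΓX(V))` for every classical space -/
def BoxP5 : Prop := ∀ (A : Type) [Ring A] [StarRing A] [Finite A], SS A → ∀ F : FR A, PS 5 F.Aut

/-- [B2] non-central isometries -/
def BoxNC : Prop := ∀ (A : Type) [Ring A] [StarRing A] [Finite A], SS A → ∀ F : FR A, (∃ a b : A, a * b ≠ b * a) →
  ∃ u ∈ F.Iso, (u : A) ∉ Subring.center A

/-- [B3] symplectic groups in characteristic 2 are generated by transvections -/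
def BoxTV : Prop := ∀ (A : Type) [Ring A] [StarRing A] [Finite A], SS A → (2 : A) = 0 →
  (∀ c ∈ Subring.center A, star c = c) → (∃ l : A, l + star l = 1) →
  (∃ s : A, Rk1 s) ∧ ∀ u : Aˣ, (u : A) * star (u : A) = 1 → u ∈ Subgroup.closure {t : Aˣ | ∃ s, Rk1 s ∧ (t : A) = 1 + s}

/-- [C1p] parabolic subgroups -/
def BoxPar : Prop := ∀ (A : Type) [Ring A] [StarRing A] [Finite A] (F : FR A) (M : Subgroup (RingAut A)), Ctx F M →
  ∀ R : Ideal A, R ≠ ⊥ → Inv M R → (∀ x ∈ R, ∀ y ∈ R, x * star y = 0) → (∀ x ∈ R, x * F.l * star x ∈ F.L) →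
    (¬ ∀ x ∈ R, ∀ a, x * a ∈ R) → PS 9 M

/-- [C1n] non-singular points, orthogonal groups in characteristic 2 -/
def BoxNS : Prop := ∀ (A : Type) [Ring A] [StarRing A] [Finite A] (F : FR A) (M : Subgroup (RingAut A)), Ctx F M →
  ∀ R : Ideal A, R ≠ ⊥ → Inv M R → (∀ x ∈ R, ∀ y ∈ R, x * star y = 0) →
    (∀ x ∈ R, x * F.l * star x ∈ F.L → x = 0) → PS 9 M

/-- [C1, C2] orthogonal decompositions -/
def BoxIdem : Prop := ∀ (A : Type) [Ring A] [StarRing A] [Finite A] (F : FR A) (M : Subgroup (RingAut A)), Ctx F M →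
  ∀ D : Finset A, Fr D → Inv M D → PS 9 M

/-- [C2', C3] a commutative star-simple subring properly containing the centre -/
def BoxFld : Prop := ∀ (A : Type) [Ring A] [StarRing A] [Finite A] (F : FR A) (M : Subgroup (RingAut A)), Ctx F M →
  Irr M → (∀ D : Finset A, Fr D → ¬ Inv M D) →
  ∀ Z : Subring A, Subring.center A ≤ Z → ¬ Z ≤ Subring.center A → (∀ x ∈ Z, star x ∈ Z) →
    (∀ x ∈ Z, ∀ y ∈ Z, x * y = y * x) → Inv M Z → PS 9 M

/-- [C4, C7] tensor decompositions: commuting star-closed subrings with centre the centre of `A`, generating `A` -/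
def BoxTen : Prop := ∀ (A : Type) [Ring A] [StarRing A] [Finite A] (F : FR A) (M : Subgroup (RingAut A)), Ctx F M →
  Irr M → ∀ 𝓑 : Set (Subring A), 𝓑.Nontrivial → (∀ B ∈ 𝓑, Subring.center A ≤ B) → (∀ B ∈ 𝓑, ¬ B ≤ Subring.center A) →
    (∀ B ∈ 𝓑, ∀ x ∈ B, star x ∈ B) → (∀ B ∈ 𝓑, ∀ B' ∈ 𝓑, B ≠ B' → ∀ x ∈ B, ∀ y ∈ B', x * y = y * x) →
    Subring.closure (⋃ B ∈ 𝓑, (B : Set A)) = ⊤ →
    (∀ γ ∈ M, ∀ B ∈ 𝓑, B.map (γ : A →+* A) ∈ 𝓑) → PS 9 M

/-- [C6] normalizers of groups of symplectic type -/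
def BoxExt : Prop := ∀ (A : Type) [Ring A] [StarRing A] [Finite A] (F : FR A) (M N : Subgroup (RingAut A)), SS A →
  M ≤ F.Aut → N ≤ M → N ≤ F.Iso.map (cj A) → N ≠ ⊥ → (∀ x ∈ N, ∀ y ∈ N, x * y = y * x) →
  (∀ γ ∈ F.Aut, γ ∈ M ↔ ∀ x ∈ N, γ * x * γ⁻¹ ∈ N) →
  (∀ N' : Subgroup (RingAut A), N' ≤ N → (∀ γ ∈ M, ∀ x ∈ N', γ * x * γ⁻¹ ∈ N') → N' = ⊥ ∨ N' = N) →
  Subring.closure ((Subring.center A : Set A) ∪ {a | ∃ u ∈ F.Iso, cj A u ∈ N ∧ (u : A) = a}) = ⊤ → PS 9 M

/-- the theorem for form rings -/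
def BoxMain : Prop := Big → ∀ (A : Type) [Ring A] [StarRing A] [Finite A] (F : FR A) (M : Subgroup (RingAut A)),
  Ctx F M → PS 9 M

/-- from form rings to almost simple groups -/
def BoxRow : Prop := Big → ∀ (G : Type) [Group G] [Finite G] (S H : Subgroup G), Setup S H →
  Model S {α | ∃ g : G, ∀ s : S, ((α s : S) : G) = g * s * g⁻¹} → PS 9 H

/-- [M1] linear groups -/
def BoxModL : Prop := ∀ (F : Type) [Field F] [Fintype F] (n : ℕ), 2 ≤ n → (n = 2 → 4 ≤ Fintype.card F) →
  Model (Matrix.ProjectiveSpecialLinearGroup (Fin n) F) Set.univ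

/-- [M2] unitary groups -/
def BoxModU : Prop := ∀ (F : Type) [Field F] [Fintype F] (n q : ℕ), Fintype.card F = q ^ 2 → 3 ≤ n → ¬ (n = 3 ∧ q = 2) →
  Model (PSU n F q) Set.univ

/-- [M3] symplectic groups (all automorphisms unless `m = 2` and `q` is even) -/
def BoxModSp : Prop := ∀ (F : Type) [Field F] [Fintype F] (m : ℕ), 2 ≤ m → (m = 2 → 3 ≤ Fintype.card F) →
  Model (PSp m F) (Cfsg.Agent.ClassicalGeometry.SympAutSemi.Psi m F).range

/-- [M4] orthogonal groups -/
def BoxModO : Prop := ∀ (F V : Type) [Field F] [Finite F] [AddCommGroup V] [Module F V] [Finite V]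
  (Q : QuadraticForm F V), Cfsg.Agent.LieClassical.OrthTrans.Good Q →
  Model (↥(Cfsg.Agent.LieClassical.OrthCore.E Q) ⧸ Subgroup.center ↥(Cfsg.Agent.LieClassical.OrthCore.E Q))
    (Cfsg.Agent.ClassicalGeometry.OrthSemi.Psi Q).range

/-- [X1] `Sp₄(2^a)` (graph automorphisms) -/
def BoxB2 : Prop := Big → Row (fun T _ => ∃ (F : Type) (_ : Field F) (_ : Fintype F), 3 ≤ Fintype.card F ∧ (2 : F) = 0 ∧
  Nonempty (T ≃* PSp 2 F)) 9

/-- [X2] `PΩ₈⁺(q)` (triality) -/
def BoxD4 : Prop := Big → Row (fun T _ => ∃ (F : Type) (_ : Field F) (_ : Fintype F),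
  Nonempty (T ≃* POmega F (quadFormPlus 4 F))) 9

end Cfsg.Agent.DS.Cl
end

-- part: DS/Cl/Ring
section
prune_inst 0x10000000000000000000000000000000
set_option linter.all false
open scoped Cfsg.Agent.FastGrp

/-!
# Star-simple rings: ideals, central elements, matrix units, Skolem-Noether
-/

set_option autoImplicit false

namespace Cfsg.Agent.DS.Cl

open Cfsg Cfsg.Agent.H936 Cfsg.Agent.DS

variable {A : Type} [Ring A] [StarRing A]

omit [StarRing A] in
/-- a two-sided ideal -/
def Two (I : Ideal A) : Prop := ∀ x ∈ I, ∀ a, x * a ∈ I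

/-- the image of a two-sided ideal under `star` -/
def starI (I : Ideal A) (h : Two I) : Ideal A where
  carrier := {x | star x ∈ I}
  add_mem' := by
    intro a b (ha : star a ∈ I) (hb : star b ∈ I)
    show star (a + b) ∈ I
    rw [star_add]; exact I.add_mem ha hb
  zero_mem' := by show star (0 : A) ∈ I; rw [star_zero]; exact I.zero_mem
  smul_mem' := by
    intro c x (hx : star x ∈ I)
    show star (c * x) ∈ I
    rw [star_mul]; exact h _ hx _

theorem mem_starI {I : Ideal A} {h : Two I} {x : A} : x ∈ starI I h ↔ star x ∈ I := Iff.rfl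

theorem two_starI {I : Ideal A} (h : Two I) : Two (starI I h) := by
  intro x hx a
  rw [mem_starI, star_mul]
  exact I.mul_mem_left _ hx

omit [StarRing A] in
theorem cen_comm {c : A} (hc : c ∈ Subring.center A) (a : A) : a * c = c * a := Subring.mem_center_iff.1 hc a

theorem star_cen {c : A} (hc : c ∈ Subring.center A) : star c ∈ Subring.center A := by
  rw [Subring.mem_center_iff]
  intro g
  have h := congrArg star (cen_comm hc (star g))
  rw [star_mul, star_mul, star_star] at h
  exact h.symm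

omit [StarRing A] in
theorem map_cen (γ : RingAut A) {c : A} (hc : c ∈ Subring.center A) : γ c ∈ Subring.center A := by
  rw [Subring.mem_center_iff]
  intro g
  obtain ⟨g, rfl⟩ := γ.surjective g
  rw [← map_mul, ← map_mul, cen_comm hc]

omit [StarRing A] in
theorem two_span_cen {c : A} (hc : c ∈ Subring.center A) : Two (Ideal.span {c}) := by
  intro x hx a
  obtain ⟨b, rfl⟩ := Ideal.mem_span_singleton'.1 hx
  exact Ideal.mem_span_singleton'.2 ⟨b * a, by rw [mul_assoc, mul_assoc, cen_comm hc]⟩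

omit [StarRing A] in
theorem inv_cen {u : Aˣ} (hu : (u : A) ∈ Subring.center A) : ((u⁻¹ : Aˣ) : A) ∈ Subring.center A := by
  rw [Subring.mem_center_iff]
  intro g
  have h := cen_comm hu g
  calc g * ((u⁻¹ : Aˣ) : A) = ((u⁻¹ : Aˣ) : A) * ((u : A) * g) * ((u⁻¹ : Aˣ) : A) := by simp [← mul_assoc]
    _ = ((u⁻¹ : Aˣ) : A) * g := by rw [← h]; simp [mul_assoc]

/-- a central idempotent interchanged with its complement -/
structure Eps (ε : A) : Prop where
  cen : ε ∈ Subring.center A
  idem : ε * ε = ε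
  add : ε + star ε = 1

namespace Eps

variable {ε : A} (h : Eps ε)
include h

theorem star_eq : star ε = 1 - ε := by rw [← h.add]; abel

theorem ms : ε * star ε = 0 := by rw [h.star_eq, mul_sub, mul_one, h.idem, sub_self]

theorem sm : star ε * ε = 0 := by rw [h.star_eq, sub_mul, one_mul, h.idem, sub_self]

theorem st : Eps (star ε) :=
  ⟨star_cen h.cen, by rw [← star_mul, h.idem], by rw [star_star, add_comm, h.add]⟩

theorem comm (a : A) : a * ε = ε * a := cen_comm h.cen a

theorem ne_zero [Nontrivial A] : ε ≠ 0 := by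
  rintro rfl
  have := h.add
  simp at this

theorem ne_one [Nontrivial A] : ε ≠ 1 := by
  intro h1
  have h2 := h.st.ne_zero
  rw [h.star_eq, h1, sub_self] at h2
  exact h2 rfl

theorem split (a : A) : a = ε * a + star ε * a := by rw [← add_mul, h.add, one_mul]

theorem map {γ : RingAut A} (hγ : γ ∈ SAut A) : Eps (γ ε) :=
  ⟨map_cen γ h.cen, by rw [← map_mul, h.idem], by rw [← hγ, ← map_add, h.add, map_one]⟩

end Eps

/-- with a central element of trace one the two form parameters agree -/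
theorem Lmin_eq_Lmax {c : A} (hc : c ∈ Subring.center A) (h1 : c + star c = 1) : Lmin A = Lmax A := by
  refine le_antisymm Lmin_le_Lmax fun x hx => ?_
  have hx' : star x = -x := hx
  refine ⟨c * x, ?_⟩
  rw [star_mul, hx', neg_mul, sub_neg_eq_add, cen_comm (star_cen hc), ← add_mul, h1, one_mul]

theorem FR.L_eq (F : FR A) {c : A} (hc : c ∈ Subring.center A) (h1 : c + star c = 1) : F.L = Lmax A := by
  rcases F.par with h | h
  · rw [h, Lmin_eq_Lmax hc h1]
  · exact h

namespace SS

variable (h : SS A)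
include h

theorem nontrivial : Nontrivial A := h.1

theorem eq_bot_or_top {I : Ideal A} (hI : Two I) (hs : ∀ x ∈ I, star x ∈ I) : I = ⊥ ∨ I = ⊤ := h.2 I hI hs

/-- `I + I*` -/
theorem sup_star {I : Ideal A} (hI : Two I) (hne : I ≠ ⊥) : ∃ x ∈ I, ∃ y ∈ I, x + star y = 1 := by
  have h1 : Two (I ⊔ starI I hI) := by
    intro x hx a
    obtain ⟨y, hy, z, hz, rfl⟩ := Submodule.mem_sup.1 hx
    rw [add_mul]
    exact Submodule.add_mem_sup (hI y hy a) (two_starI hI z hz a)
  have h2 : ∀ x ∈ I ⊔ starI I hI, star x ∈ I ⊔ starI I hI := by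
    intro x hx
    obtain ⟨y, hy, z, hz, rfl⟩ := Submodule.mem_sup.1 hx
    rw [star_add, add_comm]
    exact Submodule.add_mem_sup hz (by rw [mem_starI, star_star]; exact hy)
  rcases h.eq_bot_or_top h1 h2 with h3 | h3
  · exact absurd (eq_bot_iff.2 (h3 ▸ le_sup_left)) hne
  · have h4 : (1 : A) ∈ I ⊔ starI I hI := by rw [h3]; trivial
    obtain ⟨y, hy, z, hz, hyz⟩ := Submodule.mem_sup.1 h4
    exact ⟨y, hy, star z, hz, by rw [star_star, hyz]⟩

/-- nil two-sided ideals vanish -/
theorem nil_eq_bot {J : Ideal A} (hJ : Two J) (hn : ∀ x ∈ J, IsNilpotent x) : J = ⊥ := by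
  by_contra hne
  have := h.nontrivial
  obtain ⟨x, hx, y, hy, hxy⟩ := h.sup_star hJ hne
  have h1 : IsUnit (1 - x) := (hn x hx).isUnit_one_sub
  have h2 : star y = 1 - x := by rw [← hxy]; abel
  have h3 : IsUnit y := by
    have h4 := (h2 ▸ h1 : IsUnit (star y)).star
    rwa [star_star] at h4
  exact (hn y hy).not_isUnit h3

theorem isUnit_of_cen {c : A} (hc : c ∈ Subring.center A) (hs : star c = c) (hne : c ≠ 0) : IsUnit c := by
  have h1 : ∀ x ∈ Ideal.span {c}, star x ∈ Ideal.span {c} := by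
    intro x hx
    obtain ⟨b, rfl⟩ := Ideal.mem_span_singleton'.1 hx
    exact Ideal.mem_span_singleton'.2 ⟨star b, by rw [star_mul, hs, cen_comm hc]⟩
  rcases h.eq_bot_or_top (two_span_cen hc) h1 with h2 | h2
  · exact absurd (Ideal.span_singleton_eq_bot.1 h2) hne
  · have h3 : (1 : A) ∈ Ideal.span {c} := by rw [h2]; trivial
    obtain ⟨b, hb⟩ := Ideal.mem_span_singleton'.1 h3
    exact ⟨⟨c, b, by rw [← cen_comm hc, hb], hb⟩, rfl⟩

theorem idem_symm {e : A} (hc : e ∈ Subring.center A) (hs : star e = e) (he : e * e = e) : e = 0 ∨ e = 1 := by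
  by_cases h0 : e = 0
  · exact Or.inl h0
  · right
    have h1 := h.isUnit_of_cen hc hs h0
    exact h1.mul_left_cancel (by rw [he, mul_one])

/-- central idempotents -/
theorem idem_cases {e : A} (hc : e ∈ Subring.center A) (he : e * e = e) : e = 0 ∨ e = 1 ∨ Eps e := by
  have hc' := star_cen hc
  have he' : star e * star e = star e := by rw [← star_mul, he]
  have h1 := h.idem_symm (Subring.mul_mem _ hc hc') (by rw [star_mul, star_star])
    (by rw [mul_assoc, ← mul_assoc (star e), cen_comm hc, mul_assoc, he', ← mul_assoc, he])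
  rcases h1 with h1 | h1
  · have h2 : star e * e = 0 := by rw [cen_comm hc, h1]
    rcases h.idem_symm (Subring.add_mem _ hc hc') (by rw [star_add, star_star, add_comm])
      (by rw [add_mul, mul_add, mul_add, he, he', h1, h2, add_zero, zero_add]) with h3 | h3
    · left
      have h4 := congrArg (e * ·) h3
      simpa [mul_add, he, h1] using h4
    · exact Or.inr (Or.inr ⟨hc, he, h3⟩)
  · right; left
    have h2 := congrArg (e * ·) h1
    simp only [← mul_assoc, he, mul_one] at h2
    rw [← h2, h1]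

/-- in the split case, `ε A` has no central idempotents except `0` and `ε` -/
theorem idem_eps {ε e : A} (hε : Eps ε) (hc : e ∈ Subring.center A) (he : e * e = e) : ε * e = 0 ∨ ε * e = ε := by
  have := h.nontrivial
  have h1 : ε * e * (ε * e) = ε * e := by
    rw [mul_assoc, ← mul_assoc e, hε.comm e, mul_assoc, he, ← mul_assoc, hε.idem]
  rcases h.idem_cases (Subring.mul_mem _ hε.cen hc) h1 with h2 | h2 | h2
  · exact Or.inl h2
  · exfalso
    have h3 := congrArg (star ε * ·) h2
    simp only [← mul_assoc, hε.sm, zero_mul, mul_one] at h3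
    exact hε.st.ne_zero h3.symm
  · right
    have h3 := congrArg (ε * ·) h2.add
    simp only [mul_add, star_mul, ← mul_assoc, hε.idem, mul_one] at h3
    rw [← hε.comm (star e), mul_assoc, hε.ms, mul_zero, add_zero] at h3
    exact h3

theorem eps_unique {ε ε' : A} (hε : Eps ε) (hε' : Eps ε') : ε' = ε ∨ ε' = star ε := by
  have := h.nontrivial
  rcases h.idem_eps hε hε'.cen hε'.idem with h1 | h1 <;> rcases h.idem_eps hε.st hε'.cen hε'.idem with h2 | h2
  · exact absurd (by rw [hε.split ε', h1, h2, add_zero]) hε'.ne_zero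
  · right; rw [hε.split ε', h1, h2, zero_add]
  · left; rw [hε.split ε', h1, h2, add_zero]
  · exact absurd (by rw [hε.split ε', h1, h2, hε.add]) hε'.ne_one

theorem map_eps {ε : A} (hε : Eps ε) {γ : RingAut A} (hγ : γ ∈ SAut A) : γ ε = ε ∨ γ ε = star ε :=
  h.eps_unique hε (hε.map hγ)

variable [Finite A]

theorem semisimple : IsSemisimpleRing A := by
  rw [IsArtinianRing.isSemisimpleRing_iff_jacobson]
  refine h.nil_eq_bot (fun x hx a => Ideal.mul_mem_right a _ hx) fun x hx => ?_
  obtain ⟨n, hn⟩ := IsArtinianRing.isNilpotent_jacobson_bot (R := A)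
  rw [Ideal.jacobson_bot] at hn
  refine ⟨n, ?_⟩
  have h1 : x ^ n ∈ Ring.jacobson A ^ n := Ideal.pow_mem_pow hx n
  rw [hn] at h1
  exact h1

/-- every left ideal is generated by an idempotent -/
theorem exists_idem (I : Ideal A) : ∃ e ∈ I, e * e = e ∧ ∀ x ∈ I, x * e = x := by
  have := h.semisimple
  obtain ⟨e, he, hI⟩ := IsSemisimpleRing.ideal_eq_span_idempotent I
  refine ⟨e, by rw [hI]; exact Ideal.mem_span_singleton_self e, he.eq, fun x hx => ?_⟩
  rw [hI] at hx
  obtain ⟨b, rfl⟩ := Ideal.mem_span_singleton'.1 hx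
  rw [mul_assoc, he.eq]

/-- von Neumann regularity -/
theorem regular (x : A) : ∃ y, x * y * x = x := by
  obtain ⟨e, he, -, h2⟩ := h.exists_idem (Ideal.span {x})
  obtain ⟨y, rfl⟩ := Ideal.mem_span_singleton'.1 he
  exact ⟨y, by rw [mul_assoc]; exact h2 x (Ideal.mem_span_singleton_self x)⟩

/-- a two-sided ideal is generated by a central idempotent -/
theorem exists_cen_idem {I : Ideal A} (hI : Two I) :
    ∃ e ∈ I, e ∈ Subring.center A ∧ e * e = e ∧ ∀ x ∈ I, x * e = x := by
  obtain ⟨e, he, hee, h2⟩ := h.exists_idem I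
  refine ⟨e, he, ?_, hee, h2⟩
  have h3 : ∀ a, e * a * e = e * a := fun a => h2 _ (hI e he a)
  let N : Ideal A :=
    { carrier := {x | e * x = 0 ∧ x * e = x}
      add_mem' := by
        rintro a b ⟨ha, ha'⟩ ⟨hb, hb'⟩
        exact ⟨by rw [mul_add, ha, hb, add_zero], by rw [add_mul, ha', hb']⟩
      zero_mem' := ⟨by simp, by simp⟩
      smul_mem' := by
        rintro c x ⟨hx, hx'⟩
        refine ⟨?_, by rw [smul_eq_mul, mul_assoc, hx']⟩
        rw [smul_eq_mul, ← mul_assoc, ← h3 c, mul_assoc, hx, mul_zero] }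
  have hN : N = ⊥ := by
    refine h.nil_eq_bot ?_ ?_
    · rintro x ⟨hx, hx'⟩ a
      exact ⟨by rw [← mul_assoc, hx, zero_mul], by rw [← hx', mul_assoc x, mul_assoc x, h3]⟩
    · rintro x ⟨hx, hx'⟩
      exact ⟨2, by rw [pow_two, ← hx', mul_assoc, ← mul_assoc e, hx, zero_mul, mul_zero]⟩
  rw [Subring.mem_center_iff]
  intro g
  have h4 : g * e - e * g ∈ N := by
    refine ⟨by rw [mul_sub, ← mul_assoc, h3, ← mul_assoc, hee, sub_self], ?_⟩
    rw [sub_mul, mul_assoc, hee, h3]
  rw [hN, Ideal.mem_bot, sub_eq_zero] at h4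
  exact h4

/-- two-sided ideals -/
theorem two_cases {I : Ideal A} (hI : Two I) : I = ⊥ ∨ I = ⊤ ∨ ∃ ε, Eps ε ∧ ∀ x, x ∈ I ↔ ε * x = x := by
  obtain ⟨e, he, hc, hee, h2⟩ := h.exists_cen_idem hI
  rcases h.idem_cases hc hee with h3 | h3 | h3
  · left
    rw [eq_bot_iff]
    intro x hx
    rw [← h2 x hx, h3, mul_zero]
    exact Ideal.zero_mem _
  · right; left
    rw [Ideal.eq_top_iff_one, ← h3]
    exact he
  · refine Or.inr (Or.inr ⟨e, h3, fun x => ⟨fun hx => by rw [← h3.comm, h2 x hx], fun hx => ?_⟩⟩)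
    rw [← hx]
    exact hI e he x

theorem simple_or_eps : IsSimpleRing A ∨ ∃ ε : A, Eps ε := by
  by_cases hε : ∃ ε : A, Eps ε
  · exact Or.inr hε
  left
  have := h.nontrivial
  refine IsSimpleRing.of_eq_bot_or_eq_top fun I => ?_
  rcases h.two_cases (I := I.asIdeal) (fun x hx a => I.mul_mem_right _ _ hx) with h1 | h1 | ⟨ε, h1, -⟩
  · left
    rw [eq_bot_iff]
    intro x hx
    have h2 : x ∈ I.asIdeal := hx
    rw [h1] at h2
    exact h2
  · right
    rw [eq_top_iff]
    intro x _
    have h2 : x ∈ I.asIdeal := by rw [h1]; trivial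
    exact h2
  · exact absurd ⟨ε, h1⟩ hε

/-- without `Eps`, two-sided ideals are trivial -/
theorem two_of_not_eps (hε : ¬ ∃ ε : A, Eps ε) {I : Ideal A} (hI : Two I) : I = ⊥ ∨ I = ⊤ := by
  rcases h.two_cases hI with h1 | h1 | ⟨ε, h1, -⟩
  · exact Or.inl h1
  · exact Or.inr h1
  · exact absurd ⟨ε, h1⟩ hε

/-- without `Eps`, non-zero central elements are units -/
theorem isUnit_of_not_eps (hε : ¬ ∃ ε : A, Eps ε) {c : A} (hc : c ∈ Subring.center A) (hne : c ≠ 0) : IsUnit c := by
  rcases h.two_of_not_eps hε (two_span_cen hc) with h2 | h2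
  · exact absurd (Ideal.span_singleton_eq_bot.1 h2) hne
  · have h3 : (1 : A) ∈ Ideal.span {c} := by rw [h2]; trivial
    obtain ⟨b, hb⟩ := Ideal.mem_span_singleton'.1 h3
    exact ⟨⟨c, b, by rw [← cen_comm hc, hb], hb⟩, rfl⟩

omit [Finite A] in
/-- in the split case a non-zero two-sided ideal inside `ε A` contains `ε` -/
theorem eps_mem {ε : A} (hε : Eps ε) {I : Ideal A} (hI : Two I) (hne : I ≠ ⊥) (hle : ∀ x ∈ I, ε * x = x) : ε ∈ I := by
  obtain ⟨x, hx, y, hy, hxy⟩ := h.sup_star hI hne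
  have h1 : ε * star y = 0 := by
    rw [← hle y hy, star_mul, ← mul_assoc, ← hε.comm, mul_assoc, hε.ms, mul_zero]
  have h2 := congrArg (ε * ·) hxy
  simp only [mul_add, h1, hle x hx, add_zero, mul_one] at h2
  exact h2 ▸ hx

omit [Finite A] in
/-- in the split case a non-zero central element of `ε A` is invertible in `ε A` -/
theorem eps_inv {ε c : A} (hε : Eps ε) (hc : c ∈ Subring.center A) (hne : ε * c ≠ 0) :
    ∃ d ∈ Subring.center A, d * c = ε := by
  have h0 : ε * c ∈ Subring.center A := Subring.mul_mem _ hε.cen hc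
  have h1 := h.isUnit_of_cen (c := ε * c + star (ε * c)) (Subring.add_mem _ h0 (star_cen h0))
    (by rw [star_add, star_star, add_comm]) (by
      intro h2
      have h3 := congrArg (ε * ·) h2
      simp only [mul_add, star_mul, ← mul_assoc, hε.idem, mul_zero] at h3
      rw [← hε.comm (star c), mul_assoc, hε.ms, mul_zero, add_zero] at h3
      exact hne h3)
  obtain ⟨u, hu⟩ := h1
  have hu' : (u : A) ∈ Subring.center A := hu ▸ Subring.add_mem _ h0 (star_cen h0)
  refine ⟨ε * (u⁻¹ : Aˣ), Subring.mul_mem _ hε.cen (inv_cen hu'), ?_⟩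
  have h2 : ε * (u : A) = ε * c := by
    rw [hu, mul_add, star_mul, ← mul_assoc, hε.idem, ← mul_assoc, ← hε.comm (star c), mul_assoc, hε.ms]
    simp
  calc ε * ((u⁻¹ : Aˣ) : A) * c = ((u⁻¹ : Aˣ) : A) * (ε * c) := by rw [← hε.comm, mul_assoc]
    _ = ε := by rw [← h2, ← hε.comm, ← mul_assoc, Units.inv_mul, one_mul]

end SS

end Cfsg.Agent.DS.Cl
end

-- part: DS/Cl/Basic
section
prune_inst 0x21400c400862020000180500100000044c00019000030000d84004440106d2022001064044801802001a24506800004000100080400800000000000000000421900000005000a00004000f001804100000000000000000000000000000041004200000000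
set_option linter.all false
open scoped Cfsg.Agent.FastGrp

-- part: DS/Cl/SN
section
/-!
# Matrix units and the Skolem-Noether theorem for finite star-simple rings
-/

set_option autoImplicit false

namespace Cfsg.Agent.DS.Cl

open Cfsg Cfsg.Agent.H936 Cfsg.Agent.DS

section mu

variable {A : Type} [Ring A] {n : ℕ}

/-- a system of matrix units -/
structure MU0 (E : Fin n → Fin n → A) : Prop where
  mul : ∀ i j k l, E i j * E k l = if j = k then E i l else 0
  sum : ∑ i, E i i = 1

/-- a system of matrix units whose centralizer is the centre -/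
structure MU (E : Fin n → Fin n → A) : Prop extends MU0 E where
  cen : ∀ a, (∀ i j, a * E i j = E i j * a) → a ∈ Subring.center A

/-- the coefficients of an element with respect to matrix units -/
def coef (E : Fin n → Fin n → A) (a : A) (i j : Fin n) : A := ∑ k, E k i * a * E j k

namespace MU0

variable {E : Fin n → Fin n → A} (h : MU0 E)
include h

theorem mul_eq (i j l : Fin n) : E i j * E j l = E i l := by rw [h.mul, if_pos rfl]

theorem coef_mul (a : A) (i j p q : Fin n) : coef E a i j * E p q = E p i * a * E j q := by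
  unfold coef
  rw [Finset.sum_mul, Finset.sum_eq_single p]
  · rw [mul_assoc _ (E j p), h.mul_eq]
  · intro k _ hk
    rw [mul_assoc _ (E j k), h.mul, if_neg hk, mul_zero]
  · intro hp; exact absurd (Finset.mem_univ p) hp

theorem mul_coef (a : A) (i j p q : Fin n) : E p q * coef E a i j = E p i * a * E j q := by
  unfold coef
  rw [Finset.mul_sum, Finset.sum_eq_single q]
  · rw [← mul_assoc, ← mul_assoc, h.mul_eq]
  · intro k _ hk
    rw [← mul_assoc, ← mul_assoc, h.mul, if_neg (Ne.symm hk), zero_mul, zero_mul]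
  · intro hp; exact absurd (Finset.mem_univ q) hp

theorem coef_comm (a : A) (i j p q : Fin n) : coef E a i j * E p q = E p q * coef E a i j := by
  rw [h.coef_mul, h.mul_coef]

theorem expand (a : A) : a = ∑ i, ∑ j, coef E a i j * E i j := by
  simp only [h.coef_mul]
  simp only [← Finset.mul_sum, h.sum, mul_one]
  rw [← Finset.sum_mul, h.sum, one_mul]

theorem map {B : Type} [Ring B] (f : A →+* B) : MU0 fun i j => f (E i j) where
  mul i j k l := by rw [← map_mul, h.mul]; split_ifs <;> simp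
  sum := by rw [← map_sum, h.sum, map_one]

theorem eq_zero {c : A} (hc : ∀ i j, c * E i j = E i j * c) {i j : Fin n} (h0 : c * E i j = 0) : c = 0 := by
  have h1 : ∀ k, c * E k k = 0 := by
    intro k
    rw [← h.mul_eq k i k, ← h.mul_eq i j k, ← mul_assoc, hc, mul_assoc, ← mul_assoc c, h0, zero_mul, mul_zero]
  rw [← mul_one c, ← h.sum, Finset.mul_sum]
  exact Finset.sum_eq_zero fun k _ => h1 k

theorem pos [Nontrivial A] : 0 < n := by
  rcases Nat.eq_zero_or_pos n with rfl | h1
  · have h2 := h.sum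
    simp at h2
  · exact h1

theorem ne_zero [Nontrivial A] (i j : Fin n) : E i j ≠ 0 := by
  intro h0
  have := h.eq_zero (c := 1) (by simp) (i := i) (j := j) (by rw [one_mul, h0])
  exact one_ne_zero this

end MU0

namespace MU

variable {E : Fin n → Fin n → A} (h : MU E)
include h

theorem coef_cen (a : A) (i j : Fin n) : coef E a i j ∈ Subring.center A := h.cen _ fun p q => h.coef_comm a i j p q

theorem map (γ : RingAut A) : MU fun i j => γ (E i j) where
  toMU0 := h.toMU0.map (γ : A →+* A)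
  cen a ha := by
    obtain ⟨a, rfl⟩ := γ.surjective a
    refine map_cen γ (h.cen a fun i j => γ.injective ?_)
    rw [map_mul, map_mul]
    exact ha i j

theorem ext {f g : A →+* A} (hc : ∀ c ∈ Subring.center A, f c = g c) (hE : ∀ i j, f (E i j) = g (E i j)) : f = g := by
  ext a
  rw [h.expand a]
  simp only [map_sum, map_mul, hE, hc _ (h.coef_cen a _ _)]

end MU

theorem exists_mu_simple (B : Type) [Ring B] [Finite B] [IsSimpleRing B] :
    ∃ (n : ℕ) (E : Fin n → Fin n → B), MU E := by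
  obtain ⟨n, hn, D, _, ⟨e⟩⟩ := IsSimpleRing.exists_ringEquiv_matrix_divisionRing B
  have hD : Finite D := by
    have h1 : Finite (Matrix (Fin n) (Fin n) D) := Finite.of_equiv _ e.toEquiv
    exact Finite.of_injective (fun d : D => (Matrix.scalar (Fin n) d)) fun _ _ hab => Matrix.scalar_inj.1 hab
  refine ⟨n, fun i j => e.symm (Matrix.single i j 1), ⟨fun i j k l => ?_, ?_⟩, fun a ha => ?_⟩
  · rw [← map_mul]
    split_ifs with hjk
    · subst hjk
      rw [Matrix.single_mul_single_same, mul_one]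
    · rw [Matrix.single_mul_single_of_ne _ _ _ _ hjk, map_zero]
  · rw [← map_sum, ← map_one e.symm]
    congr 1
    exact Matrix.sum_single_one
  · have h1 : e a ∈ Set.range (Matrix.scalar (Fin n)) := by
      refine Matrix.mem_range_scalar_iff_commute_single'.2 fun i j => ?_
      have h2 := congrArg e (ha i j)
      simp only [map_mul, RingEquiv.apply_symm_apply] at h2
      exact h2.symm
    obtain ⟨d, hd⟩ := h1
    rw [Subring.mem_center_iff]
    intro g
    apply e.injective
    rw [map_mul, map_mul, ← hd]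
    have hc : ∀ x y : D, x * y = y * x := fun x y => (littleWedderburn D).mul_comm x y
    exact ((Matrix.scalar_commute d (fun r => hc d r) (e g)).eq).symm

end mu

variable {A : Type} [Ring A] [StarRing A] [Finite A]

theorem SS.exists_mu (h : SS A) : ∃ (n : ℕ) (E : Fin n → Fin n → A), MU E := by
  rcases h.simple_or_eps with h1 | ⟨ε, hε⟩
  · exact exists_mu_simple A
  have := h.nontrivial
  have hi : IsIdempotentElem ε := hε.idem
  have hmem : ∀ x : hi.Corner, ε * x.1 = x.1 := fun x => ((Subsemigroup.mem_corner_iff hi).1 x.2).1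
  have hmk : ∀ x : A, ε * x ∈ Subsemigroup.corner ε := fun x =>
    (Subsemigroup.mem_corner_iff hi).2 ⟨by rw [← mul_assoc, hε.idem], by rw [hε.comm, ← mul_assoc, hε.idem]⟩
  let pr : A → hi.Corner := fun x => ⟨ε * x, hmk x⟩
  have hfin : Finite hi.Corner := inferInstanceAs (Finite (Subsemigroup.corner ε))
  have hnt : Nontrivial hi.Corner := ⟨⟨1, 0, fun h0 => hε.ne_zero (congrArg Subtype.val h0)⟩⟩
  have hs : IsSimpleRing hi.Corner := by
    refine IsSimpleRing.of_eq_bot_or_eq_top fun I => ?_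
    let J : Ideal A :=
      { carrier := {x | ∃ y ∈ I, y.1 = x}
        add_mem' := by
          rintro _ _ ⟨a, ha, rfl⟩ ⟨b, hb, rfl⟩
          exact ⟨a + b, I.add_mem ha hb, rfl⟩
        zero_mem' := ⟨0, I.zero_mem, rfl⟩
        smul_mem' := by
          rintro c _ ⟨a, ha, rfl⟩
          refine ⟨pr c * a, I.mul_mem_left _ _ ha, ?_⟩
          change ε * c * a.1 = c * a.1
          rw [← hε.comm, mul_assoc, hmem] }
    have hJ : Two J := by
      rintro _ ⟨a, ha, rfl⟩ c
      refine ⟨a * pr c, I.mul_mem_right _ _ ha, ?_⟩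
      change a.1 * (ε * c) = a.1 * c
      rw [← mul_assoc, hε.comm, hmem]
    by_cases hb : J = ⊥
    · left
      rw [eq_bot_iff]
      intro x hx
      have h2 : x.1 ∈ J := ⟨x, hx, rfl⟩
      rw [hb] at h2
      exact Subtype.ext h2
    · right
      obtain ⟨y, hy, hy'⟩ := h.eps_mem hε hJ hb (by rintro _ ⟨a, -, rfl⟩; exact hmem a)
      have h2 : y = 1 := Subtype.ext hy'
      exact (TwoSidedIdeal.one_mem_iff I).1 (h2 ▸ hy)
  obtain ⟨n, e, he⟩ := exists_mu_simple hi.Corner
  have hmul : ∀ i j k l, (e i j).1 * (e k l).1 = if j = k then (e i l).1 else 0 := by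
    intro i j k l
    have h2 := congrArg Subtype.val (he.mul i j k l)
    split_ifs at h2 ⊢ <;> exact h2
  have hsum : ∑ i, (e i i).1 = ε := by
    let f : hi.Corner →+ A := { toFun := Subtype.val, map_zero' := rfl, map_add' := fun _ _ => rfl }
    have h2 := congrArg f he.sum
    rw [map_sum] at h2
    exact h2
  have hx1 : ∀ x y : hi.Corner, x.1 * star y.1 = 0 := by
    intro x y
    rw [← hmem x, ← hmem y, star_mul, ← hε.comm, mul_assoc, ← mul_assoc ε, ← hε.comm, mul_assoc, hε.ms]
    simp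
  have hx2 : ∀ x y : hi.Corner, star x.1 * y.1 = 0 := by
    intro x y
    rw [← hmem x, ← hmem y, star_mul, mul_assoc, ← mul_assoc (star ε), hε.sm]
    simp
  have hcen : ∀ a : A, (∀ i j, a * (e i j).1 = (e i j).1 * a) → ε * a ∈ Subring.center A := by
    intro a ha
    have h2 := he.cen (pr a) fun i j => Subtype.ext (by
      change ε * a * (e i j).1 = (e i j).1 * (ε * a)
      rw [mul_assoc, ha, ← mul_assoc, ← mul_assoc, hε.comm])
    rw [Subring.mem_center_iff]
    intro g
    have h3 := congrArg Subtype.val (Subring.mem_center_iff.1 h2 (pr g))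
    change ε * g * (ε * a) = ε * a * (ε * g) at h3
    have e1 : ε * g * (ε * a) = g * (ε * a) := by rw [← hε.comm g, mul_assoc, ← mul_assoc ε ε, hε.idem]
    have e2 : ε * a * (ε * g) = ε * a * g := by
      rw [← mul_assoc, mul_assoc ε a ε, hε.comm a, ← mul_assoc, hε.idem]
    rw [← e1, h3, e2]
  refine ⟨n, fun i j => (e i j).1 + star (e j i).1, ⟨fun i j k l => ?_, ?_⟩, fun a ha => ?_⟩
  · rw [add_mul, mul_add, mul_add, hx1, hx2, ← star_mul, hmul, hmul, add_zero, zero_add]
    by_cases hjk : j = k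
    · subst hjk; simp
    · simp [hjk, Ne.symm hjk]
  · rw [Finset.sum_add_distrib, ← star_sum, hsum, hε.add]
  · have h0 : ∀ x : hi.Corner, ε * star x.1 = 0 := fun x => hx1 1 x
    have h1 : ∀ i j, a * (e i j).1 = (e i j).1 * a := by
      intro i j
      have h2 := congrArg (ε * ·) (ha i j)
      simp only [← mul_assoc, mul_add, hmem, h0, add_zero] at h2
      rw [← hε.comm a, mul_assoc, mul_assoc, hmem, h0, mul_zero, add_zero] at h2
      exact h2
    have h3 : ∀ i j, star a * (e i j).1 = (e i j).1 * star a := by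
      intro i j
      have h2 := congrArg star (ha j i)
      rw [star_mul, star_mul, star_add, star_star] at h2
      have h4 := congrArg (ε * ·) h2
      simp only [← mul_assoc, mul_add, hmem, h0, zero_add] at h4
      rw [← hε.comm (star a), mul_assoc, mul_assoc, hmem, h0, mul_zero, zero_add] at h4
      exact h4.symm
    have h5 := star_cen (hcen _ h3)
    rw [star_mul, star_star, hε.st.comm] at h5
    rw [hε.split a]
    exact Subring.add_mem _ (hcen a h1) h5

omit [StarRing A] [Finite A] in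
theorem exists_part {n m : ℕ} {E : Fin n → Fin n → A} {E' : Fin m → Fin m → A} (hE : MU0 E) (hE' : MU E')
    (o : Fin n) (o' : Fin m) {η : A}
    (hc : η ∈ Subring.center A) (hi : η * η = η) (h0 : η ≠ 0)
    (hu : ∀ c ∈ Subring.center A, η * c ≠ 0 → ∃ d ∈ Subring.center A, d * c = η) :
    ∃ x y, η * x = x ∧ η * y = y ∧ x * E o o = x ∧ E' o' o' * x = x ∧ E o o * y = y ∧ y * E' o' o' = y ∧
      x * y = η * E' o' o' := by
  have h1 : ∃ i, η * coef E' (E i i) o' o' ≠ 0 := by
    by_contra hcon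
    push Not at hcon
    apply h0
    refine hE'.eq_zero (fun i j => (cen_comm hc _).symm) (i := o') (j := o') ?_
    have h2 : E' o' o' = ∑ i, coef E' (E i i) o' o' * E' o' o' := by
      simp only [hE'.coef_mul]
      rw [← Finset.sum_mul, ← Finset.mul_sum, hE.sum, mul_one, hE'.mul_eq]
    rw [h2, Finset.mul_sum]
    exact Finset.sum_eq_zero fun i _ => by rw [← mul_assoc, hcon, zero_mul]
  obtain ⟨i, hi'⟩ := h1
  obtain ⟨d, hd, hdc⟩ := hu _ (hE'.coef_cen _ _ _) hi'
  refine ⟨η * (E' o' o' * E i o), η * d * (E o i * E' o' o'), by rw [← mul_assoc, hi], by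
    rw [← mul_assoc, ← mul_assoc η η, hi], ?_, ?_, ?_, ?_, ?_⟩
  · rw [mul_assoc, mul_assoc, hE.mul_eq]
  · rw [← mul_assoc, cen_comm hc, mul_assoc, ← mul_assoc (E' o' o'), hE'.mul_eq]
  · rw [← mul_assoc, cen_comm (Subring.mul_mem _ hc hd), mul_assoc, ← mul_assoc (E o o), hE.mul_eq]
  · rw [mul_assoc, mul_assoc (E o i), hE'.mul_eq]
  · have h3 : E' o' o' * E i o * (E o i * E' o' o') = coef E' (E i i) o' o' * E' o' o' := by
      rw [hE'.coef_mul, mul_assoc, ← mul_assoc (E i o), hE.mul_eq, mul_assoc]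
    calc η * (E' o' o' * E i o) * (η * d * (E o i * E' o' o'))
        = η * ((E' o' o' * E i o) * (η * d)) * (E o i * E' o' o') := by simp only [mul_assoc]
      _ = η * η * d * (E' o' o' * E i o * (E o i * E' o' o')) := by
        rw [cen_comm (Subring.mul_mem _ hc hd)]; simp only [mul_assoc]
      _ = η * E' o' o' := by rw [h3, hi, mul_assoc, ← mul_assoc d, hdc, ← mul_assoc, hi]

/-- two systems of matrix units of the same size are conjugate -/
theorem SS.conj_mu (h : SS A) {n : ℕ} {E E' : Fin n → Fin n → A} (hE : MU E) (hE' : MU E') :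
    ∃ u : Aˣ, ∀ i j, (u : A) * E i j = E' i j * u := by
  have := h.nontrivial
  let o : Fin n := ⟨0, hE.pos⟩
  have h1 : ∃ x y, x * E o o = x ∧ E' o o * x = x ∧ E o o * y = y ∧ y * E' o o = y ∧ x * y = E' o o := by
    by_cases hε : ∃ ε : A, Eps ε
    · obtain ⟨ε, hε⟩ := hε
      obtain ⟨x, y, a1, a2, a3, a4, a5, a6, a7⟩ := exists_part hE.toMU0 hE' o o hε.cen hε.idem hε.ne_zero
        fun c hc => h.eps_inv hε hc
      obtain ⟨x', y', b1, b2, b3, b4, b5, b6, b7⟩ := exists_part hE.toMU0 hE' o o hε.st.cen hε.st.idem hε.st.ne_zero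
        fun c hc => h.eps_inv hε.st hc
      refine ⟨x + x', y + y', by rw [add_mul, a3, b3], by rw [mul_add, a4, b4], by rw [mul_add, a5, b5],
        by rw [add_mul, a6, b6], ?_⟩
      have c1 : x * y' = 0 := by
        rw [← a1, ← b2, ← hε.comm, mul_assoc, ← mul_assoc ε, hε.ms, zero_mul, mul_zero]
      have c2 : x' * y = 0 := by
        rw [← b1, ← a2, ← hε.st.comm, mul_assoc, ← mul_assoc (star ε), hε.sm, zero_mul, mul_zero]
      rw [add_mul, mul_add, mul_add, c1, c2, a7, b7, add_zero, zero_add, ← add_mul, hε.add, one_mul]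
    · obtain ⟨x, y, -, -, a3, a4, a5, a6, a7⟩ := exists_part hE.toMU0 hE' o o (Subring.one_mem _) (one_mul 1)
        one_ne_zero fun c hc h0 => by
          rw [one_mul] at h0
          obtain ⟨u, rfl⟩ := h.isUnit_of_not_eps hε hc h0
          exact ⟨_, inv_cen hc, u.inv_mul⟩
      exact ⟨x, y, a3, a4, a5, a6, by rw [a7, one_mul]⟩
  obtain ⟨x, y, a3, a4, a5, a6, a7⟩ := h1
  have h2 : (∑ i, E' i o * x * E o i) * (∑ i, E i o * y * E' o i) = 1 := by
    rw [Finset.sum_mul, ← hE'.sum]
    refine Finset.sum_congr rfl fun i _ => ?_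
    rw [Finset.mul_sum, Finset.sum_eq_single i]
    · calc E' i o * x * E o i * (E i o * y * E' o i) = E' i o * (x * (E o i * E i o) * y) * E' o i := by
            simp only [mul_assoc]
        _ = E' i i := by rw [hE.mul_eq, a3, a7, hE'.mul_eq, hE'.mul_eq]
    · intro k _ hk
      calc E' i o * x * E o i * (E k o * y * E' o k) = E' i o * (x * (E o i * E k o) * y) * E' o k := by
            simp only [mul_assoc]
        _ = 0 := by rw [hE.mul, if_neg (Ne.symm hk)]; simp
    · intro hp; exact absurd (Finset.mem_univ i) hp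
  refine ⟨⟨_, _, h2, mul_eq_one_comm.1 h2⟩, fun i j => ?_⟩
  change (∑ i, E' i o * x * E o i) * E i j = E' i j * ∑ i, E' i o * x * E o i
  rw [Finset.sum_mul, Finset.mul_sum, Finset.sum_eq_single i, Finset.sum_eq_single j]
  · rw [mul_assoc _ (E o i), hE.mul_eq, ← mul_assoc, ← mul_assoc, hE'.mul_eq]
  · intro k _ hk
    rw [← mul_assoc, ← mul_assoc, hE'.mul, if_neg (Ne.symm hk)]; simp
  · intro hp; exact absurd (Finset.mem_univ j) hp
  · intro k _ hk
    rw [mul_assoc _ (E o k), hE.mul, if_neg hk, mul_zero]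
  · intro hp; exact absurd (Finset.mem_univ i) hp

/-- **Skolem-Noether** -/
theorem SS.sn (h : SS A) {γ : RingAut A} (hγ : γ ∈ Lin A) : ∃ u : Aˣ, γ = cj A u := by
  obtain ⟨n, E, hE⟩ := h.exists_mu
  obtain ⟨u, hu⟩ := h.conj_mu hE (hE.map γ)
  refine ⟨u, ?_⟩
  have h1 : (γ : A →+* A) = (cj A u : A →+* A) := by
    refine hE.ext (fun c hc => ?_) fun i j => ?_
    · change γ c = u * c * (u⁻¹ : Aˣ)
      rw [hγ c hc, cen_comm hc, mul_assoc, Units.mul_inv, mul_one]
    · change γ (E i j) = u * E i j * (u⁻¹ : Aˣ)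
      rw [hu, mul_assoc, Units.mul_inv, mul_one]
  ext a
  exact congrArg (fun f : A →+* A => f a) h1

end Cfsg.Agent.DS.Cl
end

-- part: DS/Cl/Basic
section
/-!
# The groups of a form ring: `Aut' ≤ Lin`, `Aut'' ≤ cj Iso`, `Aut''' ≤ S`
-/

set_option autoImplicit false

namespace Cfsg.Agent.DS.Cl

open Cfsg Cfsg.Agent.H936 Cfsg.Agent.DS
open scoped commutatorElement

variable {A : Type} [Ring A] [StarRing A]

section nostar

omit [StarRing A]

theorem ra_mul (γ δ : RingAut A) (a : A) : (γ * δ) a = γ (δ a) := rfl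

theorem ra_inv_apply (γ : RingAut A) (a : A) : γ⁻¹ (γ a) = a := γ.symm_apply_apply a

theorem ra_apply_inv (γ : RingAut A) (a : A) : γ (γ⁻¹ a) = a := γ.apply_symm_apply a

theorem ra_one (a : A) : (1 : RingAut A) a = a := rfl

/-- the action of an automorphism on units -/
def um (γ : RingAut A) : Aˣ →* Aˣ := Units.map (γ : A →* A)

theorem um_val (γ : RingAut A) (u : Aˣ) : ((um γ u : Aˣ) : A) = γ u := rfl

theorem um_inv_val (γ : RingAut A) (u : Aˣ) : (((um γ u)⁻¹ : Aˣ) : A) = γ (u⁻¹ : Aˣ) := rfl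

theorem conj_cj (γ : RingAut A) (u : Aˣ) : γ * cj A u * γ⁻¹ = cj A (um γ u) := by
  ext a
  rw [ra_mul, ra_mul, cj_apply, cj_apply, map_mul, map_mul, ra_apply_inv, um_val, um_inv_val]

theorem cj_eq_one_iff {u : Aˣ} : cj A u = 1 ↔ (u : A) ∈ Subring.center A := by
  constructor
  · intro h
    rw [Subring.mem_center_iff]
    intro g
    have h1 : cj A u g = g := by rw [h]; rfl
    rw [cj_apply] at h1
    conv_lhs => rw [← h1]
    simp
  · intro h
    ext a
    rw [cj_apply, ← cen_comm h, mul_assoc, Units.mul_inv, mul_one, ra_one]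

theorem cj_eq_iff {u v : Aˣ} : cj A u = cj A v ↔ ∃ z : Aˣ, (z : A) ∈ Subring.center A ∧ u = v * z := by
  constructor
  · intro h
    refine ⟨v⁻¹ * u, cj_eq_one_iff.1 (by rw [map_mul, map_inv, h, inv_mul_cancel]), by group⟩
  · rintro ⟨z, hz, rfl⟩
    rw [map_mul, cj_eq_one_iff.2 hz, mul_one]

theorem cj_mem_Lin (u : Aˣ) : cj A u ∈ Lin A := by
  intro c hc
  rw [cj_apply, cen_comm hc, mul_assoc, Units.mul_inv, mul_one]

theorem cj_mul_eq (u : Aˣ) (a : A) : cj A u a * u = u * a := by rw [cj_apply, mul_assoc, Units.inv_mul, mul_one]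

theorem cj_eq_of_mul {u : Aˣ} {a b : A} (h : (u : A) * a = b * u) : cj A u a = b := by
  rw [cj_apply, h, mul_assoc, Units.mul_inv, mul_one]

theorem units_comm {z : Aˣ} (hz : (z : A) ∈ Subring.center A) (g : Aˣ) : g * z = z * g :=
  Units.ext (cen_comm hz g)

theorem Lin_conj {γ : RingAut A} (hγ : γ ∈ Lin A) (δ : RingAut A) : δ * γ * δ⁻¹ ∈ Lin A := by
  intro c hc
  rw [ra_mul, ra_mul, hγ _ (map_cen _ hc), ra_apply_inv]

theorem commutator_mul_cen {g h z z' : Aˣ} (hz : (z : A) ∈ Subring.center A) (hz' : (z' : A) ∈ Subring.center A) :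
    ⁅g * z, h * z'⁆ = ⁅g, h⁆ := by
  have h1 : ∀ x, z * x * z⁻¹ = x := fun x => by rw [← units_comm hz x, mul_inv_cancel_right]
  have h2 : ∀ x, z' * x * z'⁻¹ = x := fun x => by rw [← units_comm hz' x, mul_inv_cancel_right]
  calc ⁅g * z, h * z'⁆ = g * (z * (h * z') * z⁻¹) * g⁻¹ * z'⁻¹ * h⁻¹ := by
        simp only [commutatorElement_def, mul_inv_rev, mul_assoc]
    _ = g * h * (z' * g⁻¹ * z'⁻¹) * h⁻¹ := by rw [h1]; simp only [mul_assoc]
    _ = ⁅g, h⁆ := by rw [h2, commutatorElement_def]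

/-- an automorphism centralizing the image of `W` fixes the commutator group of `W` -/
theorem fix_commutator {W : Subgroup Aˣ} {γ : RingAut A} (hγ : ∀ w ∈ W, γ * cj A w = cj A w * γ) :
    ∀ w ∈ ⁅W, W⁆, γ (w : Aˣ) = (w : Aˣ) := by
  have h1 : ⁅W, W⁆ ≤ (um γ).eqLocus (MonoidHom.id _) := by
    rw [Subgroup.commutator_le]
    intro g hg h hh
    have h2 : ∀ w ∈ W, ∃ z : Aˣ, (z : A) ∈ Subring.center A ∧ um γ w = w * z := by
      intro w hw
      rw [← cj_eq_iff, ← conj_cj, hγ w hw, mul_inv_cancel_right]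
    obtain ⟨z, hz, e⟩ := h2 g hg
    obtain ⟨z', hz', e'⟩ := h2 h hh
    change um γ ⁅g, h⁆ = ⁅g, h⁆
    rw [map_commutatorElement, e, e', commutator_mul_cen hz hz']
  intro w hw
  exact congrArg Units.val (h1 hw)

/-- a linear automorphism centralizing a perfect group fixes its lifts -/
theorem fix_of_comm {W : Subgroup Aˣ} (hp : W.map (cj A) ≤ ⁅W.map (cj A), W.map (cj A)⁆) {γ : RingAut A}
    (hl : γ ∈ Lin A) (hγ : ∀ w ∈ W, γ * cj A w = cj A w * γ) : ∀ w ∈ W, γ (w : Aˣ) = (w : Aˣ) := by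
  intro w hw
  have h1 := hp ⟨w, hw, rfl⟩
  rw [← Subgroup.map_commutator] at h1
  obtain ⟨w', hw', e⟩ := h1
  obtain ⟨z, hz, rfl⟩ := cj_eq_iff.1 e.symm
  rw [Units.val_mul, map_mul, fix_commutator hγ w' hw', hl _ hz]

theorem eq_one_of_fix {X : Set A} (hX : Subring.closure ((Subring.center A : Set A) ∪ X) = ⊤) {γ : RingAut A}
    (hl : γ ∈ Lin A) (hγ : ∀ x ∈ X, γ x = x) : γ = 1 := by
  have h1 : Subring.closure ((Subring.center A : Set A) ∪ X) ≤ (γ : A →+* A).eqLocus (RingHom.id A) := by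
    rw [Subring.closure_le]
    rintro x (hx | hx)
    · exact hl x hx
    · exact hγ x hx
  ext a
  exact h1 (hX ▸ Subring.mem_top a)

theorem cen_of_comm {X : Set A} (hX : Subring.closure ((Subring.center A : Set A) ∪ X) = ⊤) {a : A}
    (ha : ∀ x ∈ X, x * a = a * x) : a ∈ Subring.center A := by
  have h1 : Subring.closure ((Subring.center A : Set A) ∪ X) ≤ Subring.centralizer {a} := by
    rw [Subring.closure_le]
    rintro x (hx | hx)
    · intro y hy
      rw [Set.mem_singleton_iff.1 hy]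
      exact cen_comm hx a
    · intro y hy
      rw [Set.mem_singleton_iff.1 hy]
      exact (ha x hx).symm
  rw [Subring.mem_center_iff]
  intro g
  exact (h1 (hX ▸ Subring.mem_top g) a rfl).symm

/-- automorphisms of a finite field commute -/
theorem comm_on_dom [Finite A] (Z : Subring A) (hc : ∀ x ∈ Z, ∀ y ∈ Z, x * y = y * x)
    (hd : ∀ x ∈ Z, x ≠ 0 → IsUnit x) {γ δ : RingAut A} (hγ : ∀ z ∈ Z, γ z ∈ Z) (hδ : ∀ z ∈ Z, δ z ∈ Z) :
    ∀ z ∈ Z, γ (δ z) = δ (γ z) := by
  intro z hz
  by_cases h0 : z = 0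
  · simp [h0]
  have hnt : Nontrivial Z := ⟨⟨⟨z, hz⟩, 0, fun h => h0 (congrArg Subtype.val h)⟩⟩
  let : CommRing Z := { (inferInstance : Ring Z) with mul_comm := fun x y => Subtype.ext (hc x x.2 y y.2) }
  have : NoZeroDivisors Z := ⟨fun {x y} hxy => by
    by_cases hx : x = 0
    · exact Or.inl hx
    · right
      have h1 := hd x x.2 fun h => hx (Subtype.ext h)
      exact Subtype.ext (h1.mul_right_eq_zero.1 (congrArg Subtype.val hxy))⟩
  have : IsDomain Z := NoZeroDivisors.to_isDomain Z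
  let : Field Z := (Finite.isField_of_domain Z).toField
  obtain ⟨g, hg⟩ := IsCyclic.exists_monoid_generator (α := Zˣ)
  have h1 : ∀ x ∈ Z, x ≠ 0 → ∃ k : ℕ, x = ((g : Z) : A) ^ k := by
    intro x hx hx0
    obtain ⟨k, hk⟩ := hg (Units.mk0 (⟨x, hx⟩ : Z) fun h => hx0 (congrArg Subtype.val h))
    refine ⟨k, ?_⟩
    have h2 := congrArg (fun u : Zˣ => ((u : Z) : A)) hk
    simp only [Units.val_pow_eq_pow_val, Units.val_mk0] at h2
    exact h2.symm
  have hg0 : ((g : Z) : A) ≠ 0 := fun h => g.ne_zero (Subtype.ext h)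
  obtain ⟨k, rfl⟩ := h1 z hz h0
  obtain ⟨a, ha⟩ := h1 _ (hγ _ (g : Z).2) (by rwa [map_ne_zero_iff γ γ.injective])
  obtain ⟨b, hb⟩ := h1 _ (hδ _ (g : Z).2) (by rwa [map_ne_zero_iff δ δ.injective])
  simp only [map_pow, ha, hb, ← pow_mul]
  congr 1
  ring

end nostar

/-- the symmetric central elements -/
def C0 (A : Type) [Ring A] [StarRing A] : Subring A where
  carrier := {c | c ∈ Subring.center A ∧ star c = c}
  mul_mem' := by
    rintro a b ⟨ha, ha'⟩ ⟨hb, hb'⟩
    exact ⟨Subring.mul_mem _ ha hb, by rw [star_mul, ha', hb', cen_comm ha]⟩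
  one_mem' := ⟨Subring.one_mem _, star_one A⟩
  add_mem' := by
    rintro a b ⟨ha, ha'⟩ ⟨hb, hb'⟩
    exact ⟨Subring.add_mem _ ha hb, by rw [star_add, ha', hb']⟩
  zero_mem' := ⟨Subring.zero_mem _, star_zero A⟩
  neg_mem' := by
    rintro a ⟨ha, ha'⟩
    exact ⟨Subring.neg_mem _ ha, by rw [star_neg, ha']⟩

theorem Eps.cen_split {ε c : A} (hε : Eps ε) (hc : c ∈ Subring.center A) :
    ∃ c₁ ∈ C0 A, ∃ c₂ ∈ C0 A, c = ε * c₁ + star ε * c₂ := by
  have key : ∀ η : A, Eps η → η * c + star (η * c) ∈ C0 A ∧ η * (η * c + star (η * c)) = η * c := by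
    intro η hη
    have h0 := Subring.mul_mem _ hη.cen hc
    refine ⟨⟨Subring.add_mem _ h0 (star_cen h0), by rw [star_add, star_star, add_comm]⟩, ?_⟩
    rw [mul_add, star_mul, ← mul_assoc, hη.idem, ← mul_assoc, ← hη.comm (star c), mul_assoc, hη.ms, mul_zero,
      add_zero]
  exact ⟨_, (key ε hε).1, _, (key _ hε.st).1, by rw [(key ε hε).2, (key _ hε.st).2, ← hε.split]⟩

/-- `Aut (C, *)` is abelian -/
theorem SS.comm_cen [Finite A] (h : SS A) {γ δ : RingAut A} (hγ : γ ∈ SAut A) (hδ : δ ∈ SAut A) {c : A}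
    (hc : c ∈ Subring.center A) : γ (δ c) = δ (γ c) := by
  by_cases hε : ∃ ε : A, Eps ε
  · obtain ⟨ε, hε⟩ := hε
    have h0 : ∀ {γ : RingAut A}, γ ∈ SAut A → ∀ z ∈ C0 A, γ z ∈ C0 A := fun hγ z hz =>
      ⟨map_cen _ hz.1, by rw [← hγ, hz.2]⟩
    have h1 := comm_on_dom (C0 A) (fun x _ y hy => cen_comm hy.1 x) (fun x hx => h.isUnit_of_cen hx.1 hx.2)
      (h0 hγ) (h0 hδ)
    have h2 : γ (δ ε) = δ (γ ε) := by
      rcases h.map_eps hε hγ with e1 | e1 <;> rcases h.map_eps hε hδ with e2 | e2 <;>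
        simp only [e1, e2, hγ ε, hδ ε]
    obtain ⟨c₁, h₁, c₂, h₂, rfl⟩ := hε.cen_split hc
    simp only [map_add, map_mul, h1 _ h₁, h1 _ h₂, hγ ε, hδ ε, hγ (δ ε), hδ (γ ε), h2]
  · exact comm_on_dom (Subring.center A) (fun x _ y hy => cen_comm hy x) (fun x hx => h.isUnit_of_not_eps hε hx)
      (fun z => map_cen γ) (fun z => map_cen δ) c hc

theorem SS.commutator_SAut [Finite A] (h : SS A) : ⁅SAut A, SAut A⁆ ≤ Lin A := by
  rw [Subgroup.commutator_le]
  intro γ hγ δ hδ c hc
  rw [commutatorElement_def, ra_mul, ra_mul, ra_mul, h.comm_cen hγ hδ (map_cen _ (map_cen _ hc)), ra_apply_inv,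
    ra_apply_inv]

theorem cj_SAut_cen {g : Aˣ} (hg : cj A g ∈ SAut A) : star (g : A) * g ∈ Subring.center A := by
  rw [Subring.mem_center_iff]
  intro a
  have h1 := hg a
  rw [cj_apply, cj_apply, star_mul, star_mul] at h1
  have h2 := congrArg (fun x => star (star (g : A) * x * g)) h1
  have h3 : ((g⁻¹ : Aˣ) : A) * g = 1 := g.inv_mul
  have h4 : star (g : A) * star ((g⁻¹ : Aˣ) : A) = 1 := by rw [← star_mul, h3, star_one]
  simp only [← mul_assoc, h4, one_mul] at h2
  simp only [mul_assoc, h3, mul_one, star_mul, star_star] at h2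
  simp only [mul_assoc]
  exact h2

theorem cj_SAut_of_cen {g : Aˣ} (hg : star (g : A) * g ∈ Subring.center A) : cj A g ∈ SAut A := by
  intro a
  rw [cj_apply, cj_apply, star_mul, star_mul]
  have h3 : (g : A) * ((g⁻¹ : Aˣ) : A) = 1 := g.mul_inv
  have h4 : star ((g⁻¹ : Aˣ) : A) * star (g : A) = 1 := by rw [← star_mul, h3, star_one]
  have h5 := cen_comm hg (star a)
  calc (g : A) * star a * ((g⁻¹ : Aˣ) : A)
      = star ((g⁻¹ : Aˣ) : A) * (star (g : A) * g * star a) * ((g⁻¹ : Aˣ) : A) := by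
        simp only [← mul_assoc, h4, one_mul]
    _ = star ((g⁻¹ : Aˣ) : A) * (star a * star (g : A)) := by
        rw [← h5]; simp only [mul_assoc, h3, mul_one]

theorem star_eq_inv {u : Aˣ} (hu : (u : A) * star (u : A) = 1) : ((u⁻¹ : Aˣ) : A) = star (u : A) := by
  rw [← mul_one ((u⁻¹ : Aˣ) : A), ← hu, ← mul_assoc, Units.inv_mul, one_mul]

/-- the unit defined by a unitary element of a finite ring -/
noncomputable def mkU [Finite A] (x : A) (h : x * star x = 1) : Aˣ := ⟨x, star x, h, mul_eq_one_comm.1 h⟩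

theorem mkU_val [Finite A] (x : A) (h : x * star x = 1) : (mkU x h : A) = x := rfl

namespace FR

variable {F : FR A}

theorem Iso.inv_eq {u : Aˣ} (hu : u ∈ F.Iso) : ((u⁻¹ : Aˣ) : A) = star (u : A) := star_eq_inv hu.1

theorem Iso.ms {u : Aˣ} (hu : u ∈ F.Iso) : (u : A) * star (u : A) = 1 := hu.1

theorem Iso.sm {u : Aˣ} (hu : u ∈ F.Iso) : star (u : A) * u = 1 := by rw [← Iso.inv_eq hu, Units.inv_mul]

theorem Iso.cj_apply {u : Aˣ} (hu : u ∈ F.Iso) (a : A) : cj A u a = u * a * star (u : A) := by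
  rw [Cl.cj_apply, Iso.inv_eq hu]

theorem cj_mem_Aut {u : Aˣ} (hu : u ∈ F.Iso) : cj A u ∈ F.Aut :=
  ⟨cj_SAut_of_cen (by rw [Iso.sm hu]; exact Subring.one_mem _), by rw [Iso.cj_apply hu]; exact hu.2⟩

theorem mem_Iso_of_cj {u : Aˣ} (h1 : (u : A) * star (u : A) = 1) (h2 : cj A u ∈ F.Aut) : u ∈ F.Iso :=
  ⟨h1, by rw [← star_eq_inv h1]; exact h2.2⟩

theorem um_mem_Iso {γ : RingAut A} (hγ : γ ∈ F.Aut) {u : Aˣ} (hu : u ∈ F.Iso) : um γ u ∈ F.Iso := by
  refine mem_Iso_of_cj ?_ ?_
  · rw [um_val, ← hγ.1, ← map_mul, hu.1, map_one]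
  · rw [← conj_cj]
    exact mul_mem (mul_mem hγ (cj_mem_Aut hu)) (inv_mem hγ)

variable (F)

/-- the projective isometry group -/
def PI : Subgroup (RingAut A) := F.Iso.map (cj A)

theorem PI_le_Aut : F.PI ≤ F.Aut := by
  rintro _ ⟨u, hu, rfl⟩
  exact cj_mem_Aut hu

theorem PI_le_Lin : F.PI ≤ Lin A := by
  rintro _ ⟨u, -, rfl⟩
  exact cj_mem_Lin u

theorem S_eq : F.S = ⁅F.PI, F.PI⁆ := Subgroup.map_commutator _ _ _

theorem S_le_PI : F.S ≤ F.PI := by rw [S_eq]; exact dS_le F.PI 1

theorem S_le_Aut : F.S ≤ F.Aut := F.S_le_PI.trans F.PI_le_Aut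

theorem Aut_le_SAut : F.Aut ≤ SAut A := fun _ h => h.1

variable {F}

theorem conj_mem_PI {γ : RingAut A} (hγ : γ ∈ F.Aut) {s : RingAut A} (hs : s ∈ F.PI) : γ * s * γ⁻¹ ∈ F.PI := by
  obtain ⟨u, hu, rfl⟩ := hs
  exact ⟨um γ u, um_mem_Iso hγ hu, (conj_cj γ u).symm⟩

theorem um_mem_comm {γ : RingAut A} (hγ : γ ∈ F.Aut) {u : Aˣ} (hu : u ∈ ⁅F.Iso, F.Iso⁆) :
    um γ u ∈ ⁅F.Iso, F.Iso⁆ := by
  have h1 : F.Iso.map (um γ) ≤ F.Iso := by
    rintro _ ⟨v, hv, rfl⟩
    exact um_mem_Iso hγ hv
  have h2 : (⁅F.Iso, F.Iso⁆ : Subgroup Aˣ).map (um γ) ≤ ⁅F.Iso, F.Iso⁆ := by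
    rw [Subgroup.map_commutator]
    exact Subgroup.commutator_mono h1 h1
  exact h2 ⟨u, hu, rfl⟩

theorem conj_mem_S {γ : RingAut A} (hγ : γ ∈ F.Aut) {s : RingAut A} (hs : s ∈ F.S) : γ * s * γ⁻¹ ∈ F.S := by
  obtain ⟨u, hu, rfl⟩ := hs
  exact ⟨um γ u, um_mem_comm hγ hu, (conj_cj γ u).symm⟩

theorem comm_le_Iso : (⁅F.Iso, F.Iso⁆ : Subgroup Aˣ) ≤ F.Iso := dS_le F.Iso 1

/-- the commutator of two similitudes is an isometry -/
theorem commutator_mem_Iso {g h : Aˣ} (hg : cj A g ∈ F.Aut) (hh : cj A h ∈ F.Aut) : ⁅g, h⁆ ∈ F.Iso := by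
  refine mem_Iso_of_cj ?_ (by
    rw [map_commutatorElement]
    exact mul_mem (mul_mem (mul_mem hg hh) (inv_mem hg)) (inv_mem hh))
  have h1 : ∀ x : Aˣ, cj A x ∈ F.Aut → ∃ z : Aˣ, (z : A) ∈ Subring.center A ∧ star x = x⁻¹ * z := by
    intro x hx
    refine ⟨star x * x, cj_SAut_cen hx.1, ?_⟩
    rw [units_comm (z := star x * x) (cj_SAut_cen hx.1)]
    group
  obtain ⟨z, hz, e⟩ := h1 g hg
  obtain ⟨z', hz', e'⟩ := h1 h hh
  have h2 : star ⁅g, h⁆ = ⁅(star h)⁻¹, (star g)⁻¹⁆ := by
    simp only [commutatorElement_def, star_mul, star_inv, inv_inv, mul_assoc]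
  have h3 : ⁅g, h⁆ * star ⁅g, h⁆ = 1 := by
    rw [h2, e, e', mul_inv_rev, mul_inv_rev, inv_inv, inv_inv, ← units_comm (inv_cen hz), ← units_comm (inv_cen hz'),
      commutator_mul_cen (inv_cen hz') (inv_cen hz), ← commutatorElement_inv g h, mul_inv_cancel]
  exact congrArg Units.val h3

theorem dS_one_le [Finite A] (h : SS A) : dS F.Aut 1 ≤ Lin A :=
  (Subgroup.commutator_mono F.Aut_le_SAut F.Aut_le_SAut).trans h.commutator_SAut

theorem commutator_lin_le [Finite A] (h : SS A) : ⁅F.Aut ⊓ Lin A, F.Aut ⊓ Lin A⁆ ≤ F.PI := by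
  rw [Subgroup.commutator_le]
  rintro γ ⟨hγ, hγ'⟩ δ ⟨hδ, hδ'⟩
  obtain ⟨g, rfl⟩ := h.sn hγ'
  obtain ⟨k, rfl⟩ := h.sn hδ'
  exact ⟨⁅g, k⁆, commutator_mem_Iso hγ hδ, map_commutatorElement _ _ _⟩

theorem dS_two_le [Finite A] (h : SS A) : dS F.Aut 2 ≤ F.PI := by
  have h1 : dS F.Aut 1 ≤ F.Aut ⊓ Lin A := le_inf (dS_le _ _) (dS_one_le h)
  exact (Subgroup.commutator_mono h1 h1).trans (commutator_lin_le h)

theorem dS_three_le [Finite A] (h : SS A) : dS F.Aut 3 ≤ F.S := by
  rw [S_eq]
  exact Subgroup.commutator_mono (dS_two_le h) (dS_two_le h)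

/-- an invariant left ideal of `S` is two-sided -/
theorem two_of_S (hs : F.Span) {R : Ideal A} (hR : Inv F.S R) : Two R := by
  let T : Subring A :=
    { carrier := {a | ∀ x ∈ R, x * a ∈ R}
      mul_mem' := fun ha hb x hx => by rw [← mul_assoc]; exact hb _ (ha x hx)
      one_mem' := fun x hx => by rwa [mul_one]
      add_mem' := fun ha hb x hx => by rw [mul_add]; exact R.add_mem (ha x hx) (hb x hx)
      zero_mem' := fun x _ => by rw [mul_zero]; exact R.zero_mem
      neg_mem' := fun ha x hx => by rw [mul_neg]; exact R.neg_mem (ha x hx) }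
  have h1 : ⊤ ≤ T := by
    rw [← hs, Subring.closure_le]
    rintro a (ha | ⟨u, hu, rfl⟩) x hx
    · rw [cen_comm ha]; exact R.mul_mem_left _ hx
    · have h2 := hR (cj A u⁻¹) ⟨u⁻¹, inv_mem hu, rfl⟩ x hx
      have h3 := R.mul_mem_left u h2
      rw [Cl.cj_apply] at h3
      simpa [← mul_assoc] using h3
  exact fun x hx a => h1 (Subring.mem_top a) x hx

theorem cen_of_S (hs : F.Span) {a : A} (ha : ∀ s ∈ F.S, s a = a) : a ∈ Subring.center A := by
  refine cen_of_comm hs ?_
  rintro _ ⟨u, hu, rfl⟩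
  have h1 := cj_mul_eq u a
  rw [ha _ ⟨u, hu, rfl⟩] at h1
  exact h1.symm

/-- **the invariance lemma**: under an irreducible group, an invariant class of skew elements is trivial -/
theorem mem_L_of_inv [Finite A] (h : SS A) {M : Subgroup (RingAut A)} (hM : M ≤ SAut A) (hI : Irr M) {d : A}
    (hd : star d = -d) (hinv : ∀ γ ∈ M, γ d - d ∈ F.L) : d ∈ F.L := by
  have := h.nontrivial
  by_cases hε : ∃ ε : A, Eps ε
  · obtain ⟨ε, hε⟩ := hε
    rw [F.L_eq hε.cen hε.add]
    exact hd
  have hx : ∀ a b : A, a * d * star b + b * d * star a ∈ F.L := by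
    intro a b
    have h1 := F.sub_star_mem (a * d * star b)
    rw [star_mul, star_mul, star_star, hd] at h1
    convert h1 using 1
    noncomm_ring
  let R : Ideal A :=
    { carrier := {a | a * d * star a ∈ F.L}
      add_mem' := by
        intro a b (ha : a * d * star a ∈ F.L) (hb : b * d * star b ∈ F.L)
        show (a + b) * d * star (a + b) ∈ F.L
        convert F.L.add_mem (F.L.add_mem ha hb) (hx a b) using 1
        rw [star_add]; noncomm_ring
      zero_mem' := by show (0 : A) * d * star 0 ∈ F.L; simp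
      smul_mem' := by
        intro c a (ha : a * d * star a ∈ F.L)
        show (c * a) * d * star (c * a) ∈ F.L
        convert F.conj_mem ha c using 1
        rw [star_mul]; noncomm_ring }
  have hR : Two R := by
    refine hI R fun γ hγ a (ha : a * d * star a ∈ F.L) => ?_
    show γ a * d * star (γ a) ∈ F.L
    have h1 := F.map_mem (hM hγ) ha
    rw [map_mul, map_mul, hM hγ] at h1
    convert F.L.sub_mem h1 (F.conj_mem (hinv γ hγ) (γ a)) using 1
    noncomm_ring
  rcases h.two_of_not_eps hε hR with h1 | h1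
  · exfalso
    have h2 : Function.Injective fun a : A => a * d * star a := by
      intro a b (hab : a * d * star a = b * d * star b)
      have h3 : a - b ∈ R := by
        show (a - b) * d * star (a - b) ∈ F.L
        have h4 := F.sub_star_mem (a * d * star a)
        rw [star_mul, star_mul, star_star, hd] at h4
        convert F.L.sub_mem h4 (hx a b) using 1
        rw [star_sub]
        have e : (a - b) * d * (star a - star b) =
            a * d * star a + b * d * star b - (a * d * star b + b * d * star a) := by noncomm_ring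
        rw [e, ← hab]
        noncomm_ring
      rw [h1, Ideal.mem_bot, sub_eq_zero] at h3
      exact h3
    obtain ⟨a, ha⟩ := Finite.surjective_of_injective h2 F.l
    have h3 := F.l_add
    rw [← ha] at h3
    simp only [star_mul, star_star, hd] at h3
    rw [neg_mul, mul_neg, ← mul_assoc, add_neg_cancel] at h3
    exact zero_ne_one h3
  · have h2 : (1 : A) ∈ R := by rw [h1]; trivial
    have h3 : 1 * d * star 1 ∈ F.L := h2
    simpa using h3

end FR

namespace Ctx

variable {F : FR A} {M : Subgroup (RingAut A)} (h : Ctx F M)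
include h

theorem perfect : F.S ≤ ⁅F.S, F.S⁆ := perfect_of_simple h.simple h.noncomm

theorem eq_of_le {P : Subgroup (RingAut A)} (h1 : M ≤ P) (h2 : P ≤ F.Aut) (h3 : ¬ F.S ≤ P) : M = P :=
  le_antisymm h1 (h.max P h1 h2 h3)

theorem le_SAut : M ≤ SAut A := h.le.trans F.Aut_le_SAut

/-- a linear automorphism centralizing `S` is trivial -/
theorem eq_one_of_comm {γ : RingAut A} (hl : γ ∈ Lin A) (hγ : ∀ s ∈ F.S, γ * s = s * γ) : γ = 1 := by
  refine eq_one_of_fix h.span hl ?_
  rintro _ ⟨u, hu, rfl⟩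
  exact fix_of_comm (W := ⁅F.Iso, F.Iso⁆) h.perfect hl (fun w hw => hγ _ ⟨w, hw, rfl⟩) u hu

/-- a subgroup of `Lin` normalized by `S` and not containing it is trivial -/
theorem eq_one_of_norm {K : Subgroup (RingAut A)} (hl : K ≤ F.Aut ⊓ Lin A) (hK : ∀ s ∈ F.S, ∀ k ∈ K, s * k * s⁻¹ ∈ K)
    (h2 : ¬ F.S ≤ K) : ∀ k ∈ K, k = 1 := by
  intro k hk
  refine h.eq_one_of_comm (hl hk).2 fun s hs => ?_
  have h3 := inf_eq_bot_of_simple h.simple hK h2 (k * s * k⁻¹ * s⁻¹)
    (mul_mem (FR.conj_mem_S (hl hk).1 hs) (inv_mem hs))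
    (by
      have h4 := mul_mem hk (hK s hs _ (inv_mem hk))
      simpa [mul_assoc] using h4)
  rw [mul_inv_eq_one, mul_inv_eq_iff_eq_mul] at h3
  exact h3

end Ctx

end Cfsg.Agent.DS.Cl
end
end

-- part: DS/Cl/Blk
section
prune_inst 0x254044400862020000000512100000044c0001900003000018e00540010752200844264046801803008e04006000004000100080422000000a00000000000421800010001300ad0434008f807887180c00000000010000000000000000041004200000000
set_option linter.all false
open scoped Cfsg.Agent.FastGrp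

/-!
# Blocks of a form ring, the transfer lemma and the Levi lemma
-/

set_option autoImplicit false

namespace Cfsg.Agent.DS.Cl

open Cfsg Cfsg.Agent.H936 Cfsg.Agent.DS

/-- a star-closed subring with its own identity element -/
structure Blk (A : Type) [Ring A] [StarRing A] where
  /-- the elements -/
  car : NonUnitalSubring A
  /-- the identity -/
  e : A
  e_mem : e ∈ car
  e_mul : ∀ x ∈ car, e * x = x
  mul_e : ∀ x ∈ car, x * e = x
  star_mem : ∀ x ∈ car, star x ∈ car

variable {A : Type} [Ring A] [StarRing A]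

namespace Blk

variable (B : Blk A)

theorem idem : B.e * B.e = B.e := B.e_mul _ B.e_mem

theorem star_e : star B.e = B.e := by
  have h1 := B.e_mul _ (B.star_mem _ B.e_mem)
  have h2 := congrArg star h1
  rw [star_mul, star_star] at h2
  rw [← h1, h2]

/-- the block as a ring -/
def T : Type := B.car

instance instRingT : Ring B.T where
  __ : NonUnitalRing B.T := inferInstanceAs (NonUnitalRing B.car)
  one := ⟨B.e, B.e_mem⟩
  one_mul x := Subtype.ext (B.e_mul x.1 x.2)
  mul_one x := Subtype.ext (B.mul_e x.1 x.2)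

instance instStarRingT : StarRing B.T where
  star x := ⟨star x.1, B.star_mem x.1 x.2⟩
  star_involutive x := Subtype.ext (star_star x.1)
  star_mul x y := Subtype.ext (star_mul x.1 y.1)
  star_add x y := Subtype.ext (star_add x.1 y.1)

instance instFiniteT [Finite A] : Finite B.T := inferInstanceAs (Finite B.car)

/-- the inclusion -/
def val : B.T →+ A where
  toFun x := x.1
  map_zero' := rfl
  map_add' _ _ := rfl

/-- an element of the block -/
def mk' (x : A) (hx : x ∈ B.car) : B.T := ⟨x, hx⟩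

theorem val_mk' (x : A) (hx : x ∈ B.car) : B.val (B.mk' x hx) = x := rfl

theorem val_mem (x : B.T) : B.val x ∈ B.car := x.2

theorem val_inj : Function.Injective B.val := Subtype.val_injective

theorem val_mul (x y : B.T) : B.val (x * y) = B.val x * B.val y := rfl

theorem val_one : B.val 1 = B.e := rfl

theorem val_star (x : B.T) : B.val (star x) = star (B.val x) := rfl

theorem mem_center_iff {x : B.T} : x ∈ Subring.center B.T ↔ ∀ y ∈ B.car, y * B.val x = B.val x * y := by
  rw [Subring.mem_center_iff]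
  exact ⟨fun h y hy => congrArg B.val (h (B.mk' y hy)), fun h y => B.val_inj (h _ y.2)⟩

/-- the stabilizer of the block -/
def stab : Subgroup (RingAut A) where
  carrier := {γ | ∀ x, x ∈ B.car ↔ γ x ∈ B.car}
  mul_mem' := fun {γ δ} hγ hδ x => (hδ x).trans (hγ _)
  one_mem' := fun _ => Iff.rfl
  inv_mem' := fun {γ} hγ x => by
    rw [hγ (γ⁻¹ x), ra_apply_inv]

variable {B}

theorem mem_stab {K : Subgroup (RingAut A)} (h : Inv K B.car) : K ≤ B.stab := fun γ hγ x =>
  ⟨h γ hγ x, fun hx => by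
    have h1 := h _ (inv_mem hγ) _ hx
    rwa [ra_inv_apply] at h1⟩

theorem stab_e {γ : RingAut A} (hγ : γ ∈ B.stab) : γ B.e = B.e := by
  have h1 : γ⁻¹ B.e ∈ B.car := ((inv_mem hγ) _).1 B.e_mem
  have h2 := congrArg γ (B.e_mul _ h1)
  rw [map_mul, ra_apply_inv, B.mul_e _ ((hγ _).1 B.e_mem)] at h2
  exact h2

variable (B)

/-- restriction of automorphisms -/
def res : B.stab →* RingAut B.T where
  toFun γ :=
    { toFun := fun x => ⟨γ.1 x.1, (γ.2 _).1 x.2⟩
      invFun := fun x => ⟨γ.1⁻¹ x.1, ((inv_mem γ.2) _).1 x.2⟩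
      left_inv := fun x => Subtype.ext (ra_inv_apply γ.1 x.1)
      right_inv := fun x => Subtype.ext (ra_apply_inv γ.1 x.1)
      map_mul' := fun x y => Subtype.ext (map_mul γ.1 x.1 y.1)
      map_add' := fun x y => Subtype.ext (map_add γ.1 x.1 y.1) }
  map_one' := rfl
  map_mul' _ _ := rfl

theorem val_res (γ : B.stab) (x : B.T) : B.val (B.res γ x) = γ.1 (B.val x) := rfl

theorem res_SAut {γ : B.stab} (h : γ.1 ∈ SAut A) : B.res γ ∈ SAut B.T := fun x => B.val_inj (h (B.val x))

/-- star-simplicity of a block, in terms of the ambient ring -/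
theorem ss_of (h0 : B.e ≠ 0) (h : ∀ I : AddSubgroup A, (∀ x ∈ I, x ∈ B.car) → (∀ x ∈ I, ∀ a ∈ B.car, a * x ∈ I) →
    (∀ x ∈ I, star x ∈ I) → I = ⊥ ∨ B.e ∈ I) : SS B.T := by
  refine ⟨⟨⟨1, 0, fun h1 => h0 (congrArg B.val h1)⟩⟩, fun I _ hs => ?_⟩
  rcases h (I.toAddSubgroup.map B.val) (by rintro _ ⟨x, -, rfl⟩; exact B.val_mem x)
    (by rintro _ ⟨x, hx, rfl⟩ a ha; exact ⟨B.mk' a ha * x, I.mul_mem_left _ hx, rfl⟩)
    (by rintro _ ⟨x, hx, rfl⟩; exact ⟨star x, hs x hx, rfl⟩) with h1 | ⟨x, hx, h1⟩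
  · left
    rw [eq_bot_iff]
    intro x hx
    have h2 : B.val x ∈ I.toAddSubgroup.map B.val := ⟨x, hx, rfl⟩
    rw [h1] at h2
    exact B.val_inj h2
  · right
    rw [Ideal.eq_top_iff_one, ← B.val_inj (h1.trans B.val_one.symm)]
    exact hx

theorem ss_elim (h : SS B.T) (I : AddSubgroup A) (h1 : ∀ x ∈ I, x ∈ B.car) (h2 : ∀ x ∈ I, ∀ a ∈ B.car, a * x ∈ I)
    (h3 : ∀ x ∈ I, star x ∈ I) : I = ⊥ ∨ B.e ∈ I := by
  let J : Ideal B.T :=
    { carrier := {x | B.val x ∈ I}
      add_mem' := fun ha hb => I.add_mem ha hb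
      zero_mem' := I.zero_mem
      smul_mem' := fun c x hx => h2 _ hx _ c.2 }
  rcases h.2 J (fun x hx a => by
      have h4 := h3 _ (h2 _ (h3 _ hx) _ (B.star_mem _ a.2))
      rw [star_mul, star_star, star_star] at h4
      exact h4) (fun x hx => h3 _ hx) with h4 | h4
  · left
    rw [eq_bot_iff]
    intro x hx
    have h5 : B.mk' x (h1 x hx) ∈ J := hx
    rw [h4] at h5
    exact congrArg B.val h5
  · right
    have h5 : (1 : B.T) ∈ J := by rw [h4]; trivial
    exact h5

/-- a star-closed subring as a block -/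
def ofSubring (Z : Subring A) (hs : ∀ x ∈ Z, star x ∈ Z) : Blk A where
  car := Z.toNonUnitalSubring
  e := 1
  e_mem := Z.one_mem
  e_mul x _ := one_mul x
  mul_e x _ := mul_one x
  star_mem := hs

/-- the corner of a symmetric idempotent -/
def corner (f : A) (hf : f * f = f) (hs : star f = f) : Blk A where
  car :=
    { carrier := {x | f * x = x ∧ x * f = x}
      add_mem' := by
        rintro a b ⟨ha, ha'⟩ ⟨hb, hb'⟩
        exact ⟨by rw [mul_add, ha, hb], by rw [add_mul, ha', hb']⟩
      zero_mem' := ⟨mul_zero f, zero_mul f⟩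
      mul_mem' := by
        rintro a b ⟨ha, -⟩ ⟨-, hb'⟩
        exact ⟨by rw [← mul_assoc, ha], by rw [mul_assoc, hb']⟩
      neg_mem' := by
        rintro a ⟨ha, ha'⟩
        exact ⟨by rw [mul_neg, ha], by rw [neg_mul, ha']⟩ }
  e := f
  e_mem := ⟨hf, hf⟩
  e_mul _ hx := hx.1
  mul_e _ hx := hx.2
  star_mem := by
    rintro x ⟨h1, h2⟩
    exact ⟨by rw [← hs, ← star_mul, h2], by rw [← hs, ← star_mul, h1]⟩

theorem corner_mem {f : A} (hf : f * f = f) (hs : star f = f) (a : A) : f * a * f ∈ (corner f hf hs).car :=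
  ⟨by rw [← mul_assoc, ← mul_assoc, hf], by rw [mul_assoc, hf]⟩

theorem ss_corner (h : SS A) {f : A} (hf : f * f = f) (hs : star f = f) (h0 : f ≠ 0) : SS (corner f hf hs).T := by
  refine ss_of _ h0 fun I h1 h2 h3 => ?_
  have h2' : ∀ x ∈ I, ∀ a ∈ (corner f hf hs).car, x * a ∈ I := fun x hx a ha => by
    have h4 := h3 _ (h2 _ (h3 _ hx) _ ((corner f hf hs).star_mem _ ha))
    rwa [star_mul, star_star, star_star] at h4
  let J : Ideal A :=
    { carrier := {z | ∀ a b, f * a * z * b * f ∈ I}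
      add_mem' := fun {x y} hx hy a b => by
        rw [mul_add, add_mul, add_mul]; exact I.add_mem (hx a b) (hy a b)
      zero_mem' := fun a b => by simp
      smul_mem' := fun c x hx a b => by
        have h4 := hx (a * c) b
        simpa only [smul_eq_mul, mul_assoc] using h4 }
  rcases h.eq_bot_or_top (I := J) (fun x hx c a b => by
      have h4 := hx a (c * b)
      simpa only [mul_assoc] using h4) (fun x hx a b => by
      have h4 := h3 _ (hx (star b) (star a))
      simpa only [star_mul, star_star, hs, mul_assoc] using h4) with h4 | h4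
  · left
    rw [eq_bot_iff]
    intro x hx
    have h5 : x ∈ J := fun a b => by
      have h6 := h2' _ (h2 _ hx _ (corner_mem hf hs a)) _ (corner_mem hf hs b)
      obtain ⟨h7, h8⟩ := h1 x hx
      have e : f * a * f * x * (f * b * f) = f * a * (f * x * f) * b * f := by simp only [mul_assoc]
      rwa [e, h7, h8] at h6
    rw [h4] at h5
    exact h5
  · right
    have h5 : (1 : A) ∈ J := by rw [h4]; trivial
    have h6 := h5 1 1
    simp only [mul_one, hf] at h6
    exact h6

end Blk

/-- the automorphisms fixing a set pointwise -/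
def Fix {A : Type} [Ring A] (X : Set A) : Subgroup (RingAut A) where
  carrier := {γ | ∀ x ∈ X, γ x = x}
  mul_mem' := fun {γ δ} hγ hδ x hx => by rw [ra_mul, hδ x hx, hγ x hx]
  one_mem' := fun _ _ => rfl
  inv_mem' := fun {γ} hγ x hx => by
    apply γ.injective
    rw [ra_apply_inv, hγ x hx]

/-- a block with a form structure compatible with `F` -/
structure BD (F : FR A) extends Blk A where
  /-- the element of trace one of the block -/
  l : A
  l_mem : l ∈ car
  l_add : l + star l = e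
  ret : F.L = Lmax A ∨ ∀ a, a - star a ∈ car → ∃ b ∈ car, a - star a = b - star b
  ss : e = 0 ∨ SS toBlk.T

namespace BD

variable {F : FR A} (B : BD F)

/-- the form structure of the block -/
def fr : FR B.toBlk.T where
  l := B.toBlk.mk' B.l B.l_mem
  L := F.L.comap B.toBlk.val
  l_add := B.toBlk.val_inj B.l_add
  par := by
    have hmax : F.L = Lmax A → F.L.comap B.toBlk.val = Lmax B.toBlk.T := fun h => by
      ext x
      rw [h]
      exact ⟨fun h1 => B.toBlk.val_inj h1, fun h1 => congrArg B.toBlk.val h1⟩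
    rcases B.ret with h | h
    · exact Or.inr (hmax h)
    rcases F.par with h1 | h1
    · left
      ext x
      rw [h1]
      constructor
      · rintro ⟨a, ha⟩
        obtain ⟨b, hb, hab⟩ := h a (ha ▸ B.toBlk.val_mem x)
        exact ⟨B.toBlk.mk' b hb, B.toBlk.val_inj (ha.trans hab)⟩
      · rintro ⟨a, rfl⟩
        exact ⟨B.toBlk.val a, rfl⟩
    · exact Or.inr (hmax h1)

theorem res_mem {γ : B.toBlk.stab} (h : γ.1 ∈ SAut A) (hl : γ.1 B.l - B.l ∈ F.L) : B.toBlk.res γ ∈ B.fr.Aut :=
  ⟨B.toBlk.res_SAut h, hl⟩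

theorem key [Finite A] (hP5 : BoxP5) : PS 5 B.fr.Aut ∧ dS B.fr.Aut 2 ≤ B.fr.PI := by
  rcases B.ss with h | h
  · have h1 : Subsingleton B.toBlk.T := subsingleton_of_zero_eq_one (B.toBlk.val_inj h.symm)
    have h2 : Subsingleton (RingAut B.toBlk.T) := ⟨fun γ δ => RingEquiv.ext fun _ => Subsingleton.elim _ _⟩
    exact ⟨ps_of_bot (Subsingleton.elim _ _), (Subsingleton.elim _ _).le⟩
  · exact ⟨hP5 _ h _, FR.dS_two_le h⟩

end BD

/-- **the transfer lemma** -/
theorem transfer [Finite A] (hP5 : BoxP5) {F : FR A} {ι : Type} [Finite ι] (B : ι → BD F) {K : Subgroup (RingAut A)}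
    (hK : K ≤ SAut A) (hst : ∀ i, Inv K (B i).car) (hl : ∀ γ ∈ K, ∀ i, γ (B i).l - (B i).l ∈ F.L)
    (hlift : ∀ i, ∀ u ∈ (B i).car, u * star u = (B i).e → star u * u = (B i).e →
      u * (B i).l * star u - (B i).l ∈ F.L →
      ∃ γ ∈ K, (∀ x ∈ (B i).car, γ x = u * x * star u) ∧ ∀ j, j ≠ i → ∀ x ∈ (B j).car, γ x = x)
    {a : ℕ} (hker : PS a ↥(K ⊓ Fix (⋃ i, ((B i).car : Set A)))) : PS (a + 5) K := by
  classical
  let ρ : K →* ∀ i, RingAut (B i).toBlk.T :=
    MonoidHom.pi fun i => (B i).toBlk.res.comp (Subgroup.inclusion (Blk.mem_stab (hst i)))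
  have hρ : ∀ (γ : K) i x, (B i).toBlk.val (ρ γ i x) = γ.1 ((B i).toBlk.val x) := fun _ _ _ => rfl
  refine ps_ext' ρ ?_ ?_
  · refine ps_of_map_inj K.subtype_injective ?_
    suffices e : ρ.ker.map K.subtype = K ⊓ Fix (⋃ i, ((B i).car : Set A)) by rwa [e]
    ext γ
    constructor
    · rintro ⟨γ, hγ, rfl⟩
      refine ⟨γ.2, fun x hx => ?_⟩
      obtain ⟨i, hi⟩ := Set.mem_iUnion.1 hx
      have h1 := hρ γ i ((B i).toBlk.mk' x hi)
      rw [(MonoidHom.mem_ker).1 hγ] at h1
      exact h1.symm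
    · rintro ⟨hγ, hγ'⟩
      refine ⟨⟨γ, hγ⟩, ?_, rfl⟩
      rw [SetLike.mem_coe, MonoidHom.mem_ker]
      funext i
      ext x
      apply (B i).toBlk.val_inj
      rw [hρ]
      exact hγ' _ (Set.mem_iUnion.2 ⟨i, (B i).toBlk.val_mem x⟩)
  · have h1 : PS 5 (Subgroup.pi Set.univ fun i => (B i).fr.Aut) := ps_pi fun i => ((B i).key hP5).1
    refine ps_down h1 ?_ ?_
    · refine (dS_anti _ (show 2 ≤ 5 by norm_num)).trans ((dS_pi_le _ _).trans ?_)
      intro x hx
      refine Subgroup.pi_mem_of_mulSingle_mem x fun i => ?_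
      obtain ⟨u, hu, hux⟩ := ((B i).key hP5).2 (hx i trivial)
      obtain ⟨γ, hγ, h2, h3⟩ := hlift i _ ((B i).toBlk.val_mem u) (congrArg (B i).toBlk.val hu.1)
        (congrArg (B i).toBlk.val (FR.Iso.sm hu)) hu.2
      refine ⟨⟨γ, hγ⟩, funext fun j => ?_⟩
      ext y
      apply (B j).toBlk.val_inj
      rw [hρ]
      by_cases hj : j = i
      · subst hj
        rw [Pi.mulSingle_eq_same, ← hux, FR.Iso.cj_apply hu]
        exact h2 _ ((B j).toBlk.val_mem y)
      · rw [Pi.mulSingle_eq_of_ne hj]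
        exact h3 j hj _ ((B j).toBlk.val_mem y)
    · rintro _ ⟨γ, rfl⟩ i -
      exact (B i).res_mem (γ := ⟨γ.1, Blk.mem_stab (hst i) γ.2⟩) (hK γ.2) (hl γ.1 γ.2 i)

/-- an orthogonal family of blocks -/
structure Levi {F : FR A} {ι : Type} [Fintype ι] (B : ι → BD F) : Prop where
  orth : ∀ i j, i ≠ j → (B i).e * (B j).e = 0
  sum : ∑ i, (B i).e = 1
  l_sub : F.l - ∑ i, (B i).l ∈ F.L
  cent : ∀ i g, (∀ x ∈ (B i).car, g * x = x * g) → g * (B i).e ∈ (B i).car

namespace Levi

variable {F : FR A} {ι : Type} [Fintype ι] {B : ι → BD F} (h : Levi B)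
include h

theorem mul_eq_zero {i j : ι} (hij : i ≠ j) {x y : A} (hx : x ∈ (B i).car) (hy : y ∈ (B j).car) : x * y = 0 := by
  rw [← (B i).mul_e x hx, ← (B j).e_mul y hy, mul_assoc, ← mul_assoc (B i).e, h.orth i j hij, zero_mul, mul_zero]

theorem up_conj_ne {i j : ι} (hij : j ≠ i) {u x : A} (hu : u ∈ (B i).car) (hx : x ∈ (B j).car) :
    (u + (1 - (B i).e)) * x * star (u + (1 - (B i).e)) = x := by
  rw [star_add, star_sub, star_one, (B i).star_e, add_mul, sub_mul, one_mul, h.mul_eq_zero hij.symm hu hx,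
    h.mul_eq_zero hij.symm (B i).e_mem hx, sub_zero, zero_add, mul_add, mul_sub, mul_one,
    h.mul_eq_zero hij hx ((B i).star_mem u hu), h.mul_eq_zero hij hx (B i).e_mem, sub_zero, zero_add]

omit [Fintype ι] h in
theorem up_conj_eq {i : ι} {u x : A} (hx : x ∈ (B i).car) :
    (u + (1 - (B i).e)) * x * star (u + (1 - (B i).e)) = u * x * star u := by
  rw [star_add, star_sub, star_one, (B i).star_e, add_mul, sub_mul, one_mul, (B i).e_mul x hx, sub_self, add_zero,
    mul_add, mul_sub, mul_one, mul_assoc u x (B i).e, (B i).mul_e x hx, sub_self, add_zero]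

omit [Fintype ι] h in
theorem up_mul_star {i : ι} {u : A} (hu : u ∈ (B i).car) (h1 : u * star u = (B i).e) :
    (u + (1 - (B i).e)) * star (u + (1 - (B i).e)) = 1 := by
  rw [star_add, star_sub, star_one, (B i).star_e, add_mul, mul_add, mul_add, h1, mul_sub, mul_one, (B i).mul_e u hu,
    sub_mul, one_mul, (B i).e_mul _ ((B i).star_mem u hu), sub_mul, one_mul, mul_sub, mul_one, (B i).idem]
  abel

theorem up_mem [Finite A] {i : ι} {u : A} (hu : u ∈ (B i).car) (h1 : u * star u = (B i).e)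
    (h2 : u * (B i).l * star u - (B i).l ∈ F.L) : mkU _ (up_mul_star hu h1) ∈ F.Iso := by
  classical
  refine ⟨up_mul_star hu h1, ?_⟩
  rw [mkU_val]
  set v := u + (1 - (B i).e) with hv
  have h3 : v * (∑ j, (B j).l) * star v - ∑ j, (B j).l = u * (B i).l * star u - (B i).l := by
    rw [Finset.mul_sum, Finset.sum_mul, ← Finset.sum_sub_distrib, Finset.sum_eq_single i]
    · rw [hv, up_conj_eq (B i).l_mem]
    · intro j _ hj
      rw [hv, h.up_conj_ne hj hu (B j).l_mem, sub_self]
    · intro hi; exact absurd (Finset.mem_univ i) hi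
  have h4 := F.L.add_mem (F.L.sub_mem (F.conj_mem h.l_sub v) h.l_sub) (h3 ▸ h2)
  convert h4 using 1
  noncomm_ring

theorem l_inv {γ : RingAut A} (hγ : γ ∈ F.Aut) (hst : ∀ i, γ ∈ (B i).stab) (i : ι) : γ (B i).l - (B i).l ∈ F.L := by
  classical
  have h1 : ∑ j, (γ (B j).l - (B j).l) ∈ F.L := by
    have h2 := F.L.add_mem (F.L.sub_mem hγ.2 (F.map_mem hγ.1 h.l_sub)) h.l_sub
    convert h2 using 1
    rw [Finset.sum_sub_distrib, map_sub, map_sum]
    abel
  have h3 := F.conj_mem h1 (B i).e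
  have h4 : ∀ j, γ (B j).l - (B j).l ∈ (B j).car := fun j => sub_mem ((hst j _).1 (B j).l_mem) (B j).l_mem
  rw [(B i).star_e, Finset.mul_sum, Finset.sum_mul, Finset.sum_eq_single i, (B i).e_mul _ (h4 i),
    (B i).mul_e _ (h4 i)] at h3
  · exact h3
  · intro j _ hj
    rw [h.mul_eq_zero hj.symm (B i).e_mem (h4 j), zero_mul]
  · intro hi; exact absurd (Finset.mem_univ i) hi

theorem fix_lin {γ : RingAut A} (hγ : γ ∈ Fix (⋃ i, ((B i).car : Set A))) : γ ∈ Lin A := by
  intro c hc
  have h1 : ∀ i, γ c * (B i).e = c * (B i).e := fun i => by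
    have h2 := hγ _ (Set.mem_iUnion.2 ⟨i, h.cent i c fun x _ => (cen_comm hc x).symm⟩)
    rwa [map_mul, hγ _ (Set.mem_iUnion.2 ⟨i, (B i).e_mem⟩)] at h2
  rw [← mul_one (γ c), ← h.sum, Finset.mul_sum, Finset.sum_congr rfl fun i _ => h1 i, ← Finset.mul_sum, h.sum, mul_one]

theorem fix_comm [Finite A] (hA : SS A) : ∀ γ ∈ Fix (⋃ i, ((B i).car : Set A)), ∀ δ ∈ Fix (⋃ i, ((B i).car : Set A)),
    γ * δ = δ * γ := by
  intro γ hγ δ hδ
  obtain ⟨g, rfl⟩ := hA.sn (h.fix_lin hγ)
  obtain ⟨k, rfl⟩ := hA.sn (h.fix_lin hδ)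
  have h1 : ∀ {g : Aˣ}, cj A g ∈ Fix (⋃ i, ((B i).car : Set A)) → ∀ i, ∀ x ∈ (B i).car, (g : A) * x = x * g :=
    fun {g} hg i x hx => by rw [← cj_mul_eq, hg x (Set.mem_iUnion.2 ⟨i, hx⟩)]
  rw [← map_mul, ← map_mul]
  congr 1
  apply Units.ext
  rw [Units.val_mul, Units.val_mul, ← mul_one ((g : A) * k), ← mul_one ((k : A) * g), ← h.sum, Finset.mul_sum,
    Finset.mul_sum]
  refine Finset.sum_congr rfl fun i _ => ?_
  rw [mul_assoc, h1 hγ i _ (h.cent i k (h1 hδ i)), mul_assoc, ← h1 hγ i _ (B i).e_mem, mul_assoc]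

/-- **the Levi lemma** -/
theorem ps [Finite A] (hP5 : BoxP5) (hA : SS A) {K : Subgroup (RingAut A)} (hK : K ≤ F.Aut)
    (hst : ∀ i, Inv K (B i).car)
    (hup : ∀ u ∈ F.Iso, ∀ i, (u : A) - (1 - (B i).e) ∈ (B i).car → cj A u ∈ K) : PS 6 K := by
  refine transfer hP5 B (hK.trans F.Aut_le_SAut) hst
    (fun γ hγ i => h.l_inv (hK hγ) (fun j => Blk.mem_stab (hst j) hγ) i) (fun i u hu h1 _ h3 => ?_) (a := 1)
    (ps_of_comm fun γ hγ δ hδ => h.fix_comm hA γ hγ.2 δ hδ.2)
  have h4 := h.up_mem hu h1 h3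
  refine ⟨_, hup _ h4 i (by rw [mkU_val, add_sub_cancel_right]; exact hu), fun x hx => ?_, fun j hj x hx => ?_⟩
  · rw [FR.Iso.cj_apply h4, mkU_val, up_conj_eq hx]
  · rw [FR.Iso.cj_apply h4, mkU_val, h.up_conj_ne hj hu hx]

end Levi

/-- the corner of a symmetric idempotent, with its form -/
def BD.corner (hA : SS A) (F : FR A) (f : A) (hf : f * f = f) (hs : star f = f) : BD F where
  toBlk := Blk.corner f hf hs
  l := f * F.l * f
  l_mem := Blk.corner_mem hf hs _
  l_add := by
    change _ = f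
    rw [star_mul, star_mul, hs, ← mul_assoc, ← add_mul, ← mul_add, F.l_add, mul_one, hf]
  ret := Or.inr fun a ha => ⟨f * a * f, Blk.corner_mem hf hs a, by
    obtain ⟨h1, h2⟩ := ha
    rw [star_mul, star_mul, hs, ← mul_assoc, ← sub_mul, ← mul_sub, h1, h2]⟩
  ss := by
    by_cases h0 : f = 0
    · exact Or.inl h0
    · exact Or.inr (Blk.ss_corner hA hf hs h0)

theorem BD.corner_cent (hA : SS A) (F : FR A) (f : A) (hf : f * f = f) (hs : star f = f) (g : A)
    (hg : ∀ x ∈ (BD.corner hA F f hf hs).car, g * x = x * g) :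
    g * (BD.corner hA F f hf hs).e ∈ (BD.corner hA F f hf hs).car := by
  have h1 : g * f = f * g := hg f ⟨hf, hf⟩
  change f * (g * f) = g * f ∧ g * f * f = g * f
  exact ⟨by rw [h1, ← mul_assoc, hf], by rw [mul_assoc, hf]⟩

end Cfsg.Agent.DS.Cl
end

-- part: DS/Cl/ModBase
section
prune_inst 0x24504c00084000000018001012000020080000000000000000800504090100002004004000000003009200c00000000000000080422000000a00040000040401108010044002a000000086000000000000000000010000000000000000000000200000000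
set_option linter.all false
open scoped Cfsg.Agent.FastGrp

/-!
# S5881, classical groups: tools for the models (helper12)

* `model_of` : a model from an embedding of a group `K` onto the commutator group of the isometry group;
* `HF K V` : non-degenerate reflexive sesquilinear forms; `h.EB` : the endomorphism ring with the adjoint involution;
* `HF.ss`, `HF.span_top`, `HF.semi` : star-simplicity, generation by rank one maps, semisimilitudes.
-/

set_option autoImplicit false

namespace Cfsg.Agent.DS.Cl.Fwd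

open Cfsg Cfsg.Agent.DS.Cl

section general

variable {A : Type} [Ring A] [StarRing A]

theorem mem_Aut_max {F : FR A} (hF : F.L = Lmax A) {γ : RingAut A} (hγ : γ ∈ SAut A) : γ ∈ F.Aut := by
  refine ⟨hγ, ?_⟩
  rw [hF]
  show star (γ F.l - F.l) = -(γ F.l - F.l)
  have h1 : star F.l = 1 - F.l := by rw [← F.l_add]; abel
  rw [star_sub, ← hγ, h1, map_sub, map_one]
  abel

theorem mem_Iso_max {F : FR A} (hF : F.L = Lmax A) {u : Aˣ} (hu : (u : A) * star (u : A) = 1) : u ∈ F.Iso := by
  refine ⟨hu, ?_⟩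
  rw [hF]
  show star ((u : A) * F.l * star (u : A) - F.l) = -((u : A) * F.l * star (u : A) - F.l)
  have h1 : star F.l = 1 - F.l := by rw [← F.l_add]; abel
  rw [star_sub, star_mul, star_mul, star_star, h1, sub_mul, one_mul, mul_sub, hu, ← mul_assoc]
  abel

/-- **a model from an embedding** -/
theorem model_of [Finite A] (F : FR A) (hss : SS A) (hspan : F.Span) {K : Type} [Group K] (φ : K →* Aˣ)
    (hinj : Function.Injective φ) (hr : φ.range = ⁅F.Iso, F.Iso⁆) (Γ : Set (MulAut (K ⧸ Subgroup.center K)))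
    (hΓ : ∀ β ∈ Γ, ∃ γ ∈ F.Aut, ∀ k : K, ∃ k' : K,
      β (QuotientGroup.mk k) = QuotientGroup.mk k' ∧ γ (φ k : A) = φ k') :
    Model (K ⧸ Subgroup.center K) Γ := by
  have hmem : ∀ k : K, cj A (φ k) ∈ F.S := fun k => ⟨φ k, by rw [← hr]; exact ⟨k, rfl⟩, rfl⟩
  let f : K →* F.S := ((cj A).comp φ).codRestrict F.S hmem
  have hf : Function.Surjective f := by
    rintro ⟨_, u, hu, rfl⟩
    rw [← hr] at hu
    obtain ⟨k, rfl⟩ := hu
    exact ⟨k, rfl⟩
  have hker : Subgroup.center K = f.ker := by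
    ext k
    rw [MonoidHom.mem_ker, Subgroup.mem_center_iff]
    constructor
    · intro hk
      apply Subtype.ext
      change cj A (φ k) = 1
      have h1 : ∀ x : A, (φ k : A) * x = x * φ k := by
        intro x
        have hx : x ∈ Subring.closure ((Subring.center A : Set A) ∪
            ((fun u : Aˣ => (u : A)) '' (⁅F.Iso, F.Iso⁆ : Subgroup Aˣ))) := by
          rw [hspan]; trivial
        have h2 : Subring.closure ((Subring.center A : Set A) ∪
            ((fun u : Aˣ => (u : A)) '' (⁅F.Iso, F.Iso⁆ : Subgroup Aˣ))) ≤ Subring.centralizer {(φ k : A)} := by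
          rw [Subring.closure_le]
          rintro y (hy | ⟨u, hu, rfl⟩)
          · intro z hz
            rw [Set.mem_singleton_iff.1 hz]
            exact (Subring.mem_center_iff.1 hy) _
          · intro z hz
            rw [Set.mem_singleton_iff.1 hz]
            rw [← hr] at hu
            obtain ⟨g, rfl⟩ := hu
            rw [← Units.val_mul, ← Units.val_mul, ← map_mul, ← map_mul, hk g]
        exact h2 hx _ rfl
      ext x
      rw [cj_apply, h1, mul_assoc, Units.mul_inv, mul_one]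
      rfl
    · intro hk g
      have h1 : cj A (φ k) = 1 := congrArg Subtype.val hk
      have h2 : (φ k : A) * φ g * ((φ k)⁻¹ : Aˣ) = φ g := by
        rw [← cj_apply, h1]
        rfl
      apply hinj
      apply Units.ext
      rw [map_mul, map_mul, Units.val_mul, Units.val_mul]
      calc (φ g : A) * φ k = (φ k : A) * φ g * ((φ k)⁻¹ : Aˣ) * φ k := by rw [h2]
        _ = φ k * φ g := by rw [mul_assoc, Units.inv_mul, mul_one]
  let e : (K ⧸ Subgroup.center K) ≃* F.S :=
    (QuotientGroup.quotientMulEquivOfEq hker).trans (QuotientGroup.quotientKerEquivOfSurjective f hf)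
  have he : ∀ k : K, e.symm (f k) = QuotientGroup.mk k := fun k => by
    rw [MulEquiv.symm_apply_eq]
    rfl
  refine ⟨A, inferInstance, inferInstance, inferInstance, F, e.symm, hss, hspan, fun β hβ => ?_⟩
  obtain ⟨γ, hγ, h⟩ := hΓ β hβ
  refine ⟨γ, hγ, fun s t hst => ?_⟩
  obtain ⟨k, rfl⟩ := hf s
  obtain ⟨k', h1, h2⟩ := h k
  have h3 : t = f k' := by
    apply Subtype.ext
    rw [hst]
    change γ * cj A (φ k) * γ⁻¹ = cj A (φ k')
    ext x
    have h4 : γ (((φ k)⁻¹ : Aˣ) : A) = ((φ k')⁻¹ : Aˣ) := by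
      have h5 : (φ k' : A) * γ (((φ k)⁻¹ : Aˣ) : A) = 1 := by
        rw [← h2, ← map_mul, Units.mul_inv, map_one]
      exact (Units.eq_inv_of_mul_eq_one_left h5)
    change γ (cj A (φ k) (γ.symm x)) = _
    rw [cj_apply, cj_apply, map_mul, map_mul, h2, h4, RingEquiv.apply_symm_apply]
  rw [h3, he, he, h1]

/-- the commutator group of the range -/
theorem comm_range {H B : Type*} [Group H] [Group B] (ψ : H →* B) :
    ⁅ψ.range, ψ.range⁆ = (commutator H).map ψ := by
  rw [commutator_def, Subgroup.map_commutator, ← MonoidHom.range_eq_map]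

end general

/-- a non-degenerate reflexive sesquilinear form, linear in the first variable -/
structure HF (K V : Type) [Field K] [AddCommGroup V] [Module K V] where
  /-- the involution of the field -/
  τ : K →+* K
  /-- the sign -/
  ε : K
  /-- the form -/
  b : V → V → K
  add_left : ∀ u u' v, b (u + u') v = b u v + b u' v
  smul_left : ∀ (c : K) u v, b (c • u) v = c * b u v
  swap : ∀ u v, b v u = ε * τ (b u v)
  τ_τ : ∀ c, τ (τ c) = c
  nondeg : ∀ v, (∀ u, b u v = 0) → v = 0

namespace HF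

variable {K V : Type} [Field K] [AddCommGroup V] [Module K V] (h : HF K V)

theorem add_right (u v v' : V) : h.b u (v + v') = h.b u v + h.b u v' := by
  rw [h.swap (v + v') u, h.swap v u, h.swap v' u, h.add_left, map_add, mul_add]

theorem smul_right (c : K) (u v : V) : h.b u (c • v) = h.τ c * h.b u v := by
  rw [h.swap (c • v) u, h.swap v u, h.smul_left, map_mul]
  ring

theorem zero_left (v : V) : h.b 0 v = 0 := by
  have := h.smul_left 0 0 v
  rwa [zero_smul, zero_mul] at this

theorem zero_right (v : V) : h.b v 0 = 0 := by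
  rw [h.swap 0 v, h.zero_left, map_zero, mul_zero]

theorem sub_left (u u' v : V) : h.b (u - u') v = h.b u v - h.b u' v := by
  rw [eq_sub_iff_add_eq, ← h.add_left, sub_add_cancel]

theorem sub_right (u v v' : V) : h.b u (v - v') = h.b u v - h.b u v' := by
  rw [eq_sub_iff_add_eq, ← h.add_right, sub_add_cancel]

theorem ext_right {v v' : V} (H : ∀ u, h.b u v = h.b u v') : v = v' := by
  rw [← sub_eq_zero]
  exact h.nondeg _ fun u => by rw [h.sub_right, H, sub_self]

theorem exists_ne {v : V} (hv : v ≠ 0) : ∃ u, h.b u v ≠ 0 := by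
  by_contra H
  push Not at H
  exact hv (h.nondeg v H)

theorem ne_swap {u v : V} (H : h.b u v ≠ 0) : h.b v u ≠ 0 := by
  intro h0
  apply H
  rw [h.swap v u, h0, map_zero, mul_zero]

/-- the linear form of a vector -/
def lin (w : V) : V →ₗ[K] K where
  toFun u := h.b u w
  map_add' u u' := h.add_left u u' w
  map_smul' c u := h.smul_left c u w

/-- the rank one maps -/
def ro (u v : V) : Module.End K V := (h.lin v).smulRight u

theorem ro_apply (u v x : V) : h.ro u v x = h.b x v • u := rfl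

theorem ro_mul (u v u' v' : V) : h.ro u v * h.ro u' v' = h.b u' v • h.ro u v' := by
  ext x
  rw [Module.End.mul_apply, ro_apply, ro_apply, LinearMap.smul_apply, ro_apply, h.smul_left, smul_smul, mul_comm]

variable [Finite K] [Finite V]

theorem exists_rep (f : V →ₗ[K] K) : ∃ w, ∀ u, h.b u w = f u := by
  have : Module.Finite K V := Module.Finite.of_finite
  have hfin : Finite (Module.Dual K V) := Finite.of_injective _ DFunLike.coe_injective
  have hinj : Function.Injective (h.lin : V → Module.Dual K V) := fun v v' H =>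
    h.ext_right fun u => LinearMap.congr_fun H u
  have hcard : Nat.card (Module.Dual K V) ≤ Nat.card V := by
    rw [Module.natCard_eq_pow_finrank (K := K) (V := Module.Dual K V), Module.natCard_eq_pow_finrank (K := K) (V := V),
      Subspace.dual_finrank_eq]
  obtain ⟨w, hw⟩ := (hinj.bijective_of_nat_card_le hcard).2 f
  exact ⟨w, fun u => LinearMap.congr_fun hw u⟩

/-- the rank one maps span -/
theorem eq_top_of_ro (S : AddSubgroup (Module.End K V)) (H : ∀ u v, h.ro u v ∈ S) (a : Module.End K V) : a ∈ S := by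
  have : Module.Finite K V := Module.Finite.of_finite
  let e := Module.finBasis K V
  choose f hf using fun i => h.exists_rep (e.coord i)
  have h1 : a = ∑ i, h.ro (a (e i)) (f i) := by
    ext x
    rw [LinearMap.sum_apply]
    conv_lhs => rw [← e.sum_repr x, map_sum]
    refine Finset.sum_congr rfl fun i _ => ?_
    rw [ro_apply, hf, map_smul]
    rfl
  rw [h1]
  exact S.sum_mem fun i _ => H _ _

/-- the adjoint -/
noncomputable def adj (a : Module.End K V) : Module.End K V where
  toFun y := (h.exists_rep ((h.lin y).comp a)).choose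
  map_add' y y' := h.ext_right fun u => by
    rw [h.add_right, (h.exists_rep _).choose_spec, (h.exists_rep _).choose_spec, (h.exists_rep _).choose_spec]
    exact h.add_right _ _ _
  map_smul' c y := h.ext_right fun u => by
    rw [RingHom.id_apply, h.smul_right, (h.exists_rep _).choose_spec, (h.exists_rep _).choose_spec]
    exact h.smul_right _ _ _

theorem b_adj (a : Module.End K V) (u y : V) : h.b u (h.adj a y) = h.b (a u) y :=
  (h.exists_rep ((h.lin y).comp a)).choose_spec u

theorem adj_b (a : Module.End K V) (u y : V) : h.b (h.adj a u) y = h.b u (a y) := by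
  rw [h.swap y (h.adj a u), h.b_adj, ← h.swap]

theorem adj_adj (a : Module.End K V) : h.adj (h.adj a) = a :=
  LinearMap.ext fun y => h.ext_right fun u => by rw [h.b_adj, h.adj_b]

theorem adj_mul (a a' : Module.End K V) : h.adj (a * a') = h.adj a' * h.adj a :=
  LinearMap.ext fun y => h.ext_right fun u => by
    rw [Module.End.mul_apply, h.b_adj, h.b_adj, h.b_adj, Module.End.mul_apply]

theorem adj_add (a a' : Module.End K V) : h.adj (a + a') = h.adj a + h.adj a' :=
  LinearMap.ext fun y => h.ext_right fun u => by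
    rw [LinearMap.add_apply, h.add_right, h.b_adj, h.b_adj, h.b_adj, LinearMap.add_apply, h.add_left]

/-- the endomorphism ring with the adjoint involution -/
def EB (_h : HF K V) : Type := Module.End K V

instance EB.instRingFwd : Ring h.EB := inferInstanceAs (Ring (Module.End K V))

instance EB.instFiniteFwd : Finite h.EB :=
  (Finite.of_injective (fun a : Module.End K V => (a : V → V)) DFunLike.coe_injective : Finite (Module.End K V))

noncomputable instance EB.instStarRingFwd : StarRing h.EB where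
  star a := h.adj a
  star_involutive a := h.adj_adj a
  star_mul a a' := h.adj_mul a a'
  star_add a a' := h.adj_add a a'

/-- the element of `h.EB` of an endomorphism -/
def eb (a : Module.End K V) : h.EB := a

/-- the endomorphism of an element of `h.EB` -/
def ap (a : h.EB) : Module.End K V := a

omit [Finite K] [Finite V] in
theorem ap_eb (a : Module.End K V) : h.ap (h.eb a) = a := rfl

omit [Finite K] [Finite V] in
theorem ap_mul (a a' : h.EB) (v : V) : h.ap (a * a') v = h.ap a (h.ap a' v) := rfl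

omit [Finite K] [Finite V] in
theorem ap_one (v : V) : h.ap 1 v = v := rfl

omit [Finite K] [Finite V] in
theorem ap_add (a a' : h.EB) (v : V) : h.ap (a + a') v = h.ap a v + h.ap a' v := rfl

omit [Finite K] [Finite V] in
theorem ap_sub (a a' : h.EB) (v : V) : h.ap (a - a') v = h.ap a v - h.ap a' v := rfl

omit [Finite K] [Finite V] in
theorem ap_ext {a a' : h.EB} (H : ∀ v, h.ap a v = h.ap a' v) : a = a' := LinearMap.ext H

theorem b_star (a : h.EB) (u y : V) : h.b u (h.ap (star a) y) = h.b (h.ap a u) y := h.b_adj a u y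

theorem star_b (a : h.EB) (u y : V) : h.b (h.ap (star a) u) y = h.b u (h.ap a y) := h.adj_b a u y

omit [Finite K] [Finite V] in
theorem smul_mem_center (c : K) : h.eb (c • 1) ∈ Subring.center h.EB := by
  rw [Subring.mem_center_iff]
  intro g
  apply h.ap_ext
  intro v
  rw [ap_mul, ap_mul, ap_eb, LinearMap.smul_apply, LinearMap.smul_apply, map_smul]
  rfl

omit [Finite K] [Finite V] in
theorem eb_smul (c : K) (a : Module.End K V) : h.eb (c • a) = h.eb (c • 1) * h.eb a := rfl

/-- star-simplicity -/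
theorem ss [Nontrivial V] : SS h.EB := by
  refine ⟨inferInstanceAs (Nontrivial (Module.End K V)), fun I hI _ => ?_⟩
  by_cases h0 : I = ⊥
  · exact Or.inl h0
  right
  obtain ⟨x, hx, hx0⟩ := Submodule.exists_mem_ne_zero_of_ne_bot h0
  obtain ⟨v, hv⟩ : ∃ v, h.ap x v ≠ 0 := by
    by_contra H
    push Not at H
    exact hx0 (h.ap_ext H)
  obtain ⟨w, hw⟩ := h.exists_ne hv
  have hw' := h.ne_swap hw
  rw [Ideal.eq_top_iff_one]
  refine h.eq_top_of_ro I.toAddSubgroup (fun u y => ?_) 1
  have h1 := hI _ (I.mul_mem_left (h.eb ((h.b (h.ap x v) w)⁻¹ • h.ro u w)) hx) (h.eb (h.ro v y))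
  have h2 : h.eb ((h.b (h.ap x v) w)⁻¹ • h.ro u w) * x * h.eb (h.ro v y) = h.eb (h.ro u y) := by
    apply h.ap_ext
    intro z
    rw [ap_mul, ap_mul, ap_eb, ap_eb, ap_eb, ro_apply, ro_apply, map_smul, LinearMap.smul_apply, ro_apply,
      h.smul_left, smul_smul]
    congr 1
    field_simp
  rw [h2] at h1
  exact h1

/-- generation by rank one maps -/
theorem span_top (R : Subring h.EB) (hc : ∀ c : K, h.eb (c • 1) ∈ R) (X : Set V) (hne : X.Nonempty)
    (h0 : ∀ x ∈ X, x ≠ 0) (hro : ∀ x ∈ X, h.eb (h.ro x x) ∈ R)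
    (hX : ∀ x ∈ X, ∀ v, h.b v x ≠ 0 → ∃ c : K, v + c • x ∈ X ∧ h.b (v + c • x) x ≠ 0) : R = ⊤ := by
  have hsm : ∀ (c : K) (a : Module.End K V), h.eb a ∈ R → h.eb (c • a) ∈ R := fun c a ha => by
    rw [eb_smul]
    exact R.mul_mem (hc c) ha
  -- a subspace containing `x` and the `y ∈ X` not orthogonal to `x` is everything
  have key : ∀ x ∈ X, ∀ P : V → Prop, (∀ u v, P u → P v → P (u - v)) → (∀ c : K, P (c • x)) →
      (∀ y ∈ X, h.b y x ≠ 0 → P y) → ∀ v, P v := by
    intro x hx P hsub hPx hP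
    have h1 : ∀ v, h.b v x ≠ 0 → P v := by
      intro v hv
      obtain ⟨c, hc1, hc2⟩ := hX x hx v hv
      have := hsub _ _ (hP _ hc1 hc2) (hPx c)
      rwa [add_sub_cancel_right] at this
    intro v
    by_cases hv : h.b v x = 0
    · obtain ⟨w, hw⟩ := h.exists_ne (h0 x hx)
      have := hsub _ _ (h1 (v + w) (by rwa [h.add_left, hv, zero_add])) (h1 w hw)
      rwa [add_sub_cancel_right] at this
    · exact h1 v hv
  have h2 : ∀ x ∈ X, ∀ v, h.eb (h.ro x v) ∈ R := by
    intro x hx
    refine key x hx _ (fun u v hu hv => ?_) (fun c => ?_) (fun y hy hyx => ?_)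
    · have e : h.eb (h.ro x (u - v)) = h.eb (h.ro x u) - h.eb (h.ro x v) := by
        apply h.ap_ext
        intro z
        rw [ap_sub, ap_eb, ap_eb, ap_eb, ro_apply, ro_apply, ro_apply, h.sub_right, sub_smul]
      rw [e]
      exact R.sub_mem hu hv
    · have e : h.ro x (c • x) = h.τ c • h.ro x x := by
        ext z
        rw [LinearMap.smul_apply, ro_apply, ro_apply, h.smul_right, smul_smul]
      rw [e]
      exact hsm _ _ (hro x hx)
    · have e : h.ro x y = (h.b y x)⁻¹ • (h.ro x x * h.ro y y) := by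
        rw [ro_mul, smul_smul, inv_mul_cancel₀ hyx, one_smul]
      rw [e]
      exact hsm _ _ (R.mul_mem (hro x hx) (hro y hy))
  obtain ⟨x, hx⟩ := hne
  have h3 : ∀ v u, h.eb (h.ro u v) ∈ R := by
    intro v
    refine key x hx _ (fun u u' hu hu' => ?_) (fun c => ?_) (fun y hy _ => h2 y hy v)
    · have e : h.eb (h.ro (u - u') v) = h.eb (h.ro u v) - h.eb (h.ro u' v) := by
        apply h.ap_ext
        intro z
        rw [ap_sub, ap_eb, ap_eb, ap_eb, ro_apply, ro_apply, ro_apply, smul_sub]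
      rw [e]
      exact R.sub_mem hu hu'
    · have e : h.ro (c • x) v = c • h.ro x v := by
        ext z
        rw [LinearMap.smul_apply, ro_apply, ro_apply, smul_comm]
      rw [e]
      exact hsm _ _ (h2 x hx v)
  rw [eq_top_iff]
  intro a _
  exact h.eq_top_of_ro R.toAddSubgroup (fun u v => h3 v u) a

/-- unitary elements are isometries -/
theorem unit_iff (u : h.EBˣ) : (u : h.EB) * star (u : h.EB) = 1 ↔
    ∀ x y, h.b (h.ap u x) (h.ap u y) = h.b x y := by
  constructor
  · intro H x y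
    have h1 : star (u : h.EB) * u = 1 := by
      have h2 : star (u : h.EB) = (u⁻¹ : h.EBˣ) := Units.eq_inv_of_mul_eq_one_left H
      rw [h2, Units.inv_mul]
    rw [← h.b_star, ← ap_mul, h1, ap_one]
  · intro H
    have h1 : star (u : h.EB) * u = 1 := h.ap_ext fun y => h.ext_right fun x => by
      rw [ap_mul, h.b_star, H, ap_one]
    have h2 : star (u : h.EB) = (u⁻¹ : h.EBˣ) := Units.eq_inv_of_mul_eq_one_right h1
    rw [h2, Units.mul_inv]

omit [Finite K] [Finite V] in
/-- conjugation by a semilinear bijection -/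
def conjE (g : Equiv.Perm V) (σ : K ≃+* K) (ha : ∀ u v, g (u + v) = g u + g v)
    (hs : ∀ (c : K) v, g (c • v) = σ c • g v) (a : Module.End K V) : Module.End K V where
  toFun v := g (a (g.symm v))
  map_add' u v := by
    have e : g.symm (u + v) = g.symm u + g.symm v := g.injective (by
      rw [ha, g.apply_symm_apply, g.apply_symm_apply, g.apply_symm_apply])
    rw [e, map_add, ha]
  map_smul' c v := by
    have e : g.symm (c • v) = σ.symm c • g.symm v := g.injective (by
      rw [hs, g.apply_symm_apply, g.apply_symm_apply, σ.apply_symm_apply])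
    rw [e, map_smul, hs, σ.apply_symm_apply]
    rfl

omit [Finite K] [Finite V] in
/-- the ring automorphism of a semilinear bijection -/
def semiAut (g : Equiv.Perm V) (σ : K ≃+* K) (ha : ∀ u v, g (u + v) = g u + g v)
    (hs : ∀ (c : K) v, g (c • v) = σ c • g v) : RingAut h.EB where
  toFun a := h.eb (conjE g σ ha hs (h.ap a))
  invFun a := h.eb (conjE g.symm σ.symm
    (fun u v => g.injective (by rw [ha, g.apply_symm_apply, g.apply_symm_apply, g.apply_symm_apply]))
    (fun c v => g.injective (by rw [hs, g.apply_symm_apply, g.apply_symm_apply, σ.apply_symm_apply])) (h.ap a))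
  left_inv a := h.ap_ext fun v => by
    change g.symm (g (h.ap a (g.symm (g v)))) = _
    rw [g.symm_apply_apply, g.symm_apply_apply]
  right_inv a := h.ap_ext fun v => by
    change g (g.symm (h.ap a (g (g.symm v)))) = _
    rw [g.apply_symm_apply, g.apply_symm_apply]
  map_mul' a a' := h.ap_ext fun v => by
    change g (h.ap a (h.ap a' (g.symm v))) = g (h.ap a (g.symm (g (h.ap a' (g.symm v)))))
    rw [g.symm_apply_apply]
  map_add' a a' := h.ap_ext fun v => ha _ _

omit [Finite K] [Finite V] in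
theorem ap_semiAut (g : Equiv.Perm V) (σ : K ≃+* K) (ha : ∀ u v, g (u + v) = g u + g v)
    (hs : ∀ (c : K) v, g (c • v) = σ c • g v) (a : h.EB) (v : V) :
    h.ap (h.semiAut g σ ha hs a) (g v) = g (h.ap a v) := by
  change g (h.ap a (g.symm (g v))) = _
  rw [g.symm_apply_apply]

/-- semisimilitudes commute with the involution -/
theorem semiAut_mem (g : Equiv.Perm V) (σ : K ≃+* K) (ha : ∀ u v, g (u + v) = g u + g v)
    (hs : ∀ (c : K) v, g (c • v) = σ c • g v) {c : K} (hb : ∀ u v, h.b (g u) (g v) = c * σ (h.b u v)) :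
    h.semiAut g σ ha hs ∈ SAut h.EB := by
  intro a
  apply h.ap_ext
  intro v
  obtain ⟨v, rfl⟩ := g.surjective v
  apply h.ext_right
  intro u
  obtain ⟨u, rfl⟩ := g.surjective u
  rw [ap_semiAut, hb, h.b_star, h.b_star, ap_semiAut, hb]

/-- bilinear forms are represented -/
theorem exists_op (hτ : ∀ c, h.τ c = c) (β : V →ₗ[K] V →ₗ[K] K) : ∃ a : h.EB, ∀ u v, h.b u (h.ap a v) = β u v := by
  choose f hf using fun v => h.exists_rep (β.flip v)
  refine ⟨h.eb ⟨⟨f, fun v v' => h.ext_right fun u => ?_⟩, fun c v => h.ext_right fun u => ?_⟩, fun u v => hf v u⟩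
  · rw [h.add_right, hf, hf, hf, map_add, LinearMap.add_apply]
  · change h.b u (f (c • v)) = h.b u (c • f v)
    rw [h.smul_right, hτ, hf, hf, map_smul, LinearMap.smul_apply, smul_eq_mul]

end HF

/-- an alternating form is `β - βᵀ` -/
theorem exists_half {K V : Type} [Field K] [AddCommGroup V] [Module K V] [Module.Finite K V]
    (B : V →ₗ[K] V →ₗ[K] K) (hB : ∀ v, B v v = 0) : ∃ β : V →ₗ[K] V →ₗ[K] K, ∀ u v, β u v - β v u = B u v := by
  let e := Module.finBasis K V
  let β : V →ₗ[K] V →ₗ[K] K := e.constr K fun i => e.constr K fun j => if i < j then B (e i) (e j) else 0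
  have hβ : ∀ i j, β (e i) (e j) = if i < j then B (e i) (e j) else 0 := fun i j => by
    simp only [β, Module.Basis.constr_basis]
  have hsw : ∀ u v, B u v = -B v u := fun u v => by
    have h1 := hB (u + v)
    simp only [map_add, LinearMap.add_apply, hB] at h1
    linear_combination h1
  have h1 : β - β.flip = B := by
    refine e.ext fun i => e.ext fun j => ?_
    rw [LinearMap.sub_apply, LinearMap.sub_apply, LinearMap.flip_apply, hβ, hβ]
    rcases lt_trichotomy i j with h | h | h
    · rw [if_pos h, if_neg h.not_gt, sub_zero]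
    · rw [h, if_neg (lt_irrefl _), sub_zero, hB]
    · rw [if_neg h.not_gt, if_pos h, zero_sub, ← hsw]
  exact ⟨β, fun u v => by rw [← h1]; rfl⟩

end Cfsg.Agent.DS.Cl.Fwd
end

-- part: DS/Cl/Mod
section
prune_inst 0x20504800282002000818051002000020480000000000400020a0010601018000a04100000a800403009a94507808004000100080002800000000300000060421900052044642a3042c0089000000000000000000000000000000000000000004200000000
set_option linter.all false
open scoped Cfsg.Agent.FastGrp

/-!
# Models of finite star-simple rings (helper54)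

`exists_model` : a finite star-simple ring is `End V × (End V)ᵐᵒᵖ` with the swap (`ModL`), or `End V` with the adjoint
with respect to a non-degenerate hermitian (`ModU`), symmetric or skew-symmetric (`ModB`) form, `V = Fin n → K`.
-/

set_option autoImplicit false

namespace Cfsg.Agent.DS.Cl

open Module

/-- linear groups -/
def ModL (A : Type) [Ring A] [StarRing A] : Prop :=
  ∃ (K : Type) (_ : Field K) (_ : Fintype K) (n : ℕ) (π : A →+* End K (Fin n → K)), 0 < n ∧
    Function.Bijective fun a => (π a, π (star a))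

/-- unitary groups -/
def ModU (A : Type) [Ring A] [StarRing A] : Prop :=
  ∃ (K : Type) (_ : Field K) (_ : Fintype K) (n : ℕ) (e : A ≃+* End K (Fin n → K)) (σ : K →+* K)
    (b : (Fin n → K) →ₛₗ[σ] (Fin n → K) →ₗ[K] K), 0 < n ∧ σ ≠ RingHom.id K ∧ (∀ c, σ (σ c) = c) ∧ b.IsSymm ∧
      b.SeparatingLeft ∧ ∀ a v w, b (e a v) w = b v (e (star a) w)

/-- symplectic and orthogonal groups -/
def ModB (A : Type) [Ring A] [StarRing A] : Prop :=
  ∃ (K : Type) (_ : Field K) (_ : Fintype K) (n : ℕ) (e : A ≃+* End K (Fin n → K))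
    (b : LinearMap.BilinForm K (Fin n → K)), 0 < n ∧ ((∀ v w, b w v = b v w) ∨ ∀ v w, b w v = -b v w) ∧
      b.SeparatingLeft ∧ ∀ a v w, b (e a v) w = b v (e (star a) w)

/-- A finite simple ring is a matrix ring over a finite field. -/
theorem exists_end_of_simple (B : Type) [Ring B] [Finite B] [IsSimpleRing B] :
    ∃ (K : Type) (_ : Field K) (_ : Fintype K) (n : ℕ), 0 < n ∧ Nonempty (B ≃+* End K (Fin n → K)) := by
  obtain ⟨n, hn, D, hD, ⟨e⟩⟩ := IsSimpleRing.exists_ringEquiv_matrix_divisionRing B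
  have hfin : Finite (Matrix (Fin n) (Fin n) D) := Finite.of_equiv B e.toEquiv
  have hD' : Finite D := Finite.of_surjective (fun x : Matrix (Fin n) (Fin n) D => x 0 0) fun x =>
    ⟨Matrix.of fun _ _ => x, rfl⟩
  let _ : Field D := littleWedderburn D
  exact ⟨D, inferInstance, Fintype.ofFinite D, n, Nat.pos_of_neZero n,
    ⟨e.trans (Matrix.toLinAlgEquiv' (n := Fin n) (R := D)).toRingEquiv⟩⟩

/-- A finite star-simple ring is simple or the product of a simple ring and its opposite. -/
theorem SS.simple_or {A : Type} [Ring A] [StarRing A] [Finite A] (h : SS A) :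
    IsSimpleRing A ∨ ∃ (B : Type) (_ : Ring B) (_ : Finite B) (_ : IsSimpleRing B) (π : A →+* B),
      Function.Bijective fun a => (π a, π (star a)) := by
  have := h.1
  have hfin : Finite (Ideal A) := Finite.of_injective (fun I : Ideal A => (I : Set A)) SetLike.coe_injective
  obtain ⟨M, ⟨hM2, hMt⟩, hmax⟩ := WellFounded.has_min (wellFounded_gt (α := Ideal A))
    {I : Ideal A | I.IsTwoSided ∧ I ≠ ⊤} ⟨⊥, inferInstance, bot_ne_top⟩
  have hmax' : ∀ I : Ideal A, I.IsTwoSided → M ≤ I → I = M ∨ I = ⊤ := by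
    intro I hI hMI
    by_cases ht : I = ⊤
    · exact Or.inr ht
    · exact Or.inl (eq_of_le_of_not_lt hMI (hmax I ⟨hI, ht⟩)).symm
  let M' : Ideal A :=
    { carrier := {x | star x ∈ M}
      add_mem' := fun {a b} ha hb => by
        show star (a + b) ∈ M
        rw [star_add]
        exact M.add_mem ha hb
      zero_mem' := by
        show star (0 : A) ∈ M
        rw [star_zero]
        exact M.zero_mem
      smul_mem' := fun c x hx => by
        show star (c * x) ∈ M
        rw [star_mul]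
        exact M.mul_mem_right _ hx }
  have hM' : ∀ x, x ∈ M' ↔ star x ∈ M := fun _ => Iff.rfl
  have hM'2 : M'.IsTwoSided := ⟨fun {a} b ha => by
    rw [hM', star_mul]
    exact M.mul_mem_left _ ha⟩
  have hinf : ∀ x, x ∈ M → star x ∈ M → x = 0 := by
    rcases h.2 (M ⊓ M') (fun x hx a => ⟨M.mul_mem_right a hx.1, M'.mul_mem_right a hx.2⟩)
      (fun x hx => ⟨hx.2, (hM' _).2 (by rw [star_star]; exact hx.1)⟩) with h1 | h1
    · intro x hx hx'
      have h2 : x ∈ M ⊓ M' := ⟨hx, hx'⟩
      rwa [h1] at h2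
    · exact absurd (top_le_iff.1 (h1 ▸ inf_le_left)) hMt
  have hsup2 : (M ⊔ M').IsTwoSided := ⟨fun {a} b ha => by
    obtain ⟨x, hx, y, hy, rfl⟩ := Submodule.mem_sup.1 ha
    rw [add_mul]
    exact Submodule.add_mem_sup (M.mul_mem_right _ hx) (M'.mul_mem_right _ hy)⟩
  rcases hmax' (M ⊔ M') hsup2 le_sup_left with h1 | h1
  · left
    have h2 : M = ⊥ := by
      rw [eq_bot_iff]
      intro x hx
      have h3 : star x ∈ M := h1 ▸ Submodule.mem_sup_right ((hM' _).2 (by rwa [star_star]))
      exact hinf x hx h3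
    rw [isSimpleRing_iff_isTwoSided_imp]
    refine ⟨inferInstance, fun I hI => ?_⟩
    rw [← h2]
    exact hmax' I hI (h2 ▸ bot_le)
  · right
    have hnt : Nontrivial (A ⧸ M) := Ideal.Quotient.nontrivial_iff.2 hMt
    have hs : IsSimpleRing (A ⧸ M) := by
      rw [isSimpleRing_iff_isTwoSided_imp]
      refine ⟨hnt, fun I hI => ?_⟩
      have h2 : M ≤ I.comap (Ideal.Quotient.mk M) := by
        intro x hx
        rw [Ideal.mem_comap, Ideal.Quotient.eq_zero_iff_mem.2 hx]
        exact I.zero_mem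
      rcases hmax' (I.comap (Ideal.Quotient.mk M)) inferInstance h2 with h3 | h3
      · left
        rw [eq_bot_iff]
        intro y hy
        obtain ⟨x, rfl⟩ := Ideal.Quotient.mk_surjective y
        have h4 : x ∈ I.comap (Ideal.Quotient.mk M) := hy
        rw [h3] at h4
        exact Ideal.Quotient.eq_zero_iff_mem.2 h4
      · right
        rw [eq_top_iff]
        intro y _
        obtain ⟨x, rfl⟩ := Ideal.Quotient.mk_surjective y
        have h4 : x ∈ I.comap (Ideal.Quotient.mk M) := by rw [h3]; trivial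
        exact h4
    refine ⟨A ⧸ M, inferInstance, Finite.of_surjective _ Ideal.Quotient.mk_surjective, hs, Ideal.Quotient.mk M, ?_, ?_⟩
    · intro a a' haa
      have h2 : a - a' ∈ M := Ideal.Quotient.eq.1 (congrArg Prod.fst haa)
      have h3 : star a - star a' ∈ M := Ideal.Quotient.eq.1 (congrArg Prod.snd haa)
      rw [← star_sub] at h3
      exact sub_eq_zero.1 (hinf _ h2 h3)
    · rintro ⟨x, y⟩
      obtain ⟨x, rfl⟩ := Ideal.Quotient.mk_surjective x
      obtain ⟨y, rfl⟩ := Ideal.Quotient.mk_surjective y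
      have h2 : (1 : A) ∈ M ⊔ M' := by rw [h1]; trivial
      obtain ⟨m, hm, m', hm', hmm⟩ := Submodule.mem_sup.1 h2
      have h3 : Ideal.Quotient.mk M m = 0 := Ideal.Quotient.eq_zero_iff_mem.2 hm
      have h4 : Ideal.Quotient.mk M (star m') = 0 := Ideal.Quotient.eq_zero_iff_mem.2 hm'
      have h5 : Ideal.Quotient.mk M m' = 1 := by
        rw [← map_one (Ideal.Quotient.mk M), ← hmm, map_add, h3, zero_add]
      have h6 : Ideal.Quotient.mk M (star m) = 1 := by
        rw [← map_one (Ideal.Quotient.mk M), ← star_one, ← hmm, star_add, map_add, h4, add_zero]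
      refine ⟨x * m' + star y * m, Prod.ext ?_ ?_⟩
      · simp only [map_add, map_mul, h3, h5, mul_one, mul_zero, add_zero]
      · simp only [star_add, star_mul, star_star, map_add, map_mul, h4, h6, one_mul, zero_mul, zero_add]

section form

variable {K V : Type} [Field K] [AddCommGroup V] [Module K V] [FiniteDimensional K V] [Nontrivial V]

/-- An involution of `End V` is the adjoint with respect to a sesquilinear form. -/
theorem exists_form (f : End K V → End K V) (hadd : ∀ X Y, f (X + Y) = f X + f Y)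
    (hmul : ∀ X Y, f (X * Y) = f Y * f X) (hff : ∀ X, f (f X) = X) :
    ∃ (σ : K →+* K) (b : V →ₛₗ[σ] V →ₗ[K] K) (c : K), (∀ x, σ (σ x) = x) ∧ c * σ c = 1 ∧ b.SeparatingLeft ∧
      (∀ v w, σ (b w v) = c * b v w) ∧ ∀ X v w, b (X v) w = b v (f X w) := by
  let f' : Equiv.Perm (End K V) := ⟨f, f, hff, hff⟩
  obtain ⟨σ, g, hg, hX⟩ := H277.FC.stmtSNcor K V (Module.finrank_pos (R := K) (M := V)) f'
    ⟨hadd, Or.inr hmul⟩ hmul
  have hX' : ∀ X v w, g (X v) w = g v (f X w) := hX
  have hsep : ∀ x y : V, (∀ v, g v x = g v y) → x = y := by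
    intro x y h
    rw [← sub_eq_zero, ← Module.forall_dual_apply_eq_zero_iff K]
    intro φ
    obtain ⟨v, rfl⟩ := g.surjective φ
    rw [map_sub, h, sub_self]
  have hfa : ∀ a : K, f (a • (1 : End K V)) = σ a • (1 : End K V) := by
    intro a
    ext w
    refine hsep _ _ fun v => ?_
    rw [← hX']
    simp only [hg, _root_.LinearMap.smul_apply, _root_.Module.End.one_apply, _root_.smul_eq_mul, _root_.map_smul]
  have hσ : ∀ a, σ (σ a) = a := by
    intro a
    apply H277.FC.smul_one_inj (V := V)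
    rw [← hfa, ← hfa, hff]
  let b : V →ₛₗ[(σ : K →+* K)] V →ₗ[K] K :=
    { toFun := g
      map_add' := fun v w => map_add g v w
      map_smul' := hg }
  -- the transposed form
  let c : V → Dual K V := fun v =>
    { toFun := fun w => σ (g w v)
      map_add' := fun w w' => by rw [map_add, LinearMap.add_apply, map_add]
      map_smul' := fun a w => by rw [hg, LinearMap.smul_apply, smul_eq_mul, map_mul, hσ]; rfl }
  have hc : ∀ v w, c v w = σ (g w v) := fun _ _ => rfl
  let T : End K V :=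
    { toFun := fun v => g.symm (c v)
      map_add' := fun v v' => by
        rw [← map_add]
        congr 1
        ext w
        rw [LinearMap.add_apply, hc, hc, hc, map_add, map_add]
      map_smul' := fun a v => by
        apply g.injective
        rw [RingHom.id_apply, hg, g.apply_symm_apply, g.apply_symm_apply]
        ext w
        rw [LinearMap.smul_apply, hc, hc, map_smul, smul_eq_mul, map_mul, smul_eq_mul] }
  have hT : ∀ v w, g (T v) w = σ (g w v) := by
    intro v w
    change g (g.symm (c v)) w = _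
    rw [g.apply_symm_apply, hc]
  obtain ⟨μ, hμ⟩ := H277.FC.exists_smul_one T fun Y => by
    ext v
    apply g.injective
    ext w
    rw [End.mul_apply, End.mul_apply, hT, hX', hT, hX', hff]
  have h1 : ∀ v w, σ (g w v) = σ μ * g v w := by
    intro v w
    rw [← hT, hμ, LinearMap.smul_apply, End.one_apply, hg, LinearMap.smul_apply, smul_eq_mul]
  refine ⟨σ, b, σ μ, hσ, ?_, ?_, h1, hX'⟩
  · obtain ⟨w, hw⟩ := exists_ne (0 : V)
    obtain ⟨φ, hφ⟩ := H277.FC.exists_dual_one (K := K) hw
    obtain ⟨v, rfl⟩ := g.surjective φ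
    have h2 := h1 w v
    have h3 := congrArg σ h2
    rw [hσ, map_mul, h1, hφ, mul_one] at h3
    change σ μ * σ (σ μ) = 1
    rw [mul_comm]
    exact h3.symm
  · intro v hv
    apply g.injective
    rw [map_zero]
    ext w
    exact hv w

end form

/-- **Models.** -/
theorem exists_model {A : Type} [Ring A] [StarRing A] [Finite A] (h : SS A) : ModL A ∨ ModU A ∨ ModB A := by
  rcases h.simple_or with hs | ⟨B, _, _, _, π, hπ⟩
  · right
    obtain ⟨K, _, _, n, hn, ⟨e⟩⟩ := exists_end_of_simple A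
    have : Nonempty (Fin n) := ⟨⟨0, hn⟩⟩
    obtain ⟨σ, b, c, hσ, hc, hsep, hb, hadj⟩ := exists_form (K := K) (V := Fin n → K)
      (fun X => e (star (e.symm X))) (fun X Y => by simp only [map_add, star_add])
      (fun X Y => by simp only [map_mul, star_mul]) (fun X => by simp only [_root_.RingEquiv.symm_apply_apply, _root_.star_star, _root_.RingEquiv.apply_symm_apply])
    have hadj' : ∀ a v w, b (e a v) w = b v (e (star a) w) := fun a v w => by simpa only [_root_.RingEquiv.symm_apply_apply] using hadj (e a) v w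
    by_cases hσ1 : σ = RingHom.id K
    · right
      subst hσ1
      refine ⟨K, inferInstance, inferInstance, n, e, b, hn, ?_, hsep, hadj'⟩
      rcases mul_self_eq_one_iff.1 hc with h1 | h1
      · left
        intro v w
        have h2 := hb v w
        rwa [h1, one_mul] at h2
      · right
        intro v w
        have h2 := hb v w
        rwa [h1, neg_one_mul] at h2
    · left
      obtain ⟨x, hx⟩ : ∃ x, x + σ x * c ≠ 0 := by
        by_contra hcon
        push Not at hcon
        apply hσ1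
        have h1 := hcon 1
        rw [map_one, one_mul] at h1
        have h2 : c = -1 := eq_neg_of_add_eq_zero_right h1
        ext x
        have h3 := hcon x
        rw [h2, mul_neg_one, add_neg_eq_zero] at h3
        exact h3.symm
      refine ⟨K, inferInstance, inferInstance, n, e, σ, (x + σ x * c) • b, hn, hσ1, hσ, ⟨fun v w => ?_⟩, ?_, ?_⟩
      · simp only [LinearMap.smul_apply, smul_eq_mul, map_mul, map_add, hσ, hb]
        linear_combination (x * b w v) * hc
      · intro v hv
        refine hsep v fun w => ?_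
        have h1 := hv w
        simp only [LinearMap.smul_apply, smul_eq_mul] at h1
        exact (mul_eq_zero.1 h1).resolve_left hx
      · intro a v w
        simp only [LinearMap.smul_apply, smul_eq_mul, hadj']
  · left
    obtain ⟨K, _, _, n, hn, ⟨e⟩⟩ := exists_end_of_simple B
    refine ⟨K, inferInstance, inferInstance, n, (e : B →+* _).comp π, hn, ?_⟩
    exact (e.bijective.prodMap e.bijective).comp hπ

end Cfsg.Agent.DS.Cl
end

-- part: DS/Cl/Inv
section
prune_inst 0x10000000000000000000000000000000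
set_option linter.all false
open scoped Cfsg.Agent.FastGrp

/-!
# Invariant subrings of an irreducible group
-/

set_option autoImplicit false

namespace Cfsg.Agent.DS.Cl

open Cfsg Cfsg.Agent.H936 Cfsg.Agent.DS

theorem cen_idem_of_semisimple {R : Type} [Ring R] [IsSemisimpleRing R] {I : Ideal R} (hI : Two I) :
    ∃ e ∈ I, e ∈ Subring.center R ∧ e * e = e ∧ ∀ x ∈ I, x * e = x := by
  have key : ∀ J : Ideal R, ∃ e ∈ J, e * e = e ∧ ∀ x ∈ J, x * e = x := fun J => by
    obtain ⟨e, he, hJ⟩ := IsSemisimpleRing.ideal_eq_span_idempotent J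
    refine ⟨e, by rw [hJ]; exact Ideal.mem_span_singleton_self e, he.eq, fun x hx => ?_⟩
    rw [hJ] at hx
    obtain ⟨b, rfl⟩ := Ideal.mem_span_singleton'.1 hx
    rw [mul_assoc, he.eq]
  obtain ⟨e, he, hee, h2⟩ := key I
  refine ⟨e, he, ?_, hee, h2⟩
  have h3 : ∀ a, e * a * e = e * a := fun a => h2 _ (hI e he a)
  let N : Ideal R :=
    { carrier := {x | e * x = 0 ∧ x * e = x}
      add_mem' := by
        rintro a b ⟨ha, ha'⟩ ⟨hb, hb'⟩
        exact ⟨by rw [mul_add, ha, hb, add_zero], by rw [add_mul, ha', hb']⟩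
      zero_mem' := ⟨by simp, by simp⟩
      smul_mem' := by
        rintro c x ⟨hx, hx'⟩
        refine ⟨?_, by rw [smul_eq_mul, mul_assoc, hx']⟩
        rw [smul_eq_mul, ← mul_assoc, ← h3 c, mul_assoc, hx, mul_zero] }
  obtain ⟨f, ⟨hf1, hf2⟩, hff, h4⟩ := key N
  have hf0 : f = 0 := by rw [← hff]; nth_rewrite 1 [← hf2]; rw [mul_assoc, hf1, mul_zero]
  rw [Subring.mem_center_iff]
  intro g
  have h5 : g * e - e * g ∈ N := by
    refine ⟨by rw [mul_sub, ← mul_assoc, h3, ← mul_assoc, hee, sub_self], ?_⟩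
    rw [sub_mul, mul_assoc, hee, h3]
  have h6 := h4 _ h5
  rw [hf0, mul_zero, eq_comm, sub_eq_zero] at h6
  exact h6

variable {A : Type} [Ring A] [StarRing A] [Finite A]

/-- the atoms of the symmetric idempotents of a commutative subring form a frame -/
theorem exists_frame (Z : Subring A) (hc : ∀ x ∈ Z, ∀ y ∈ Z, x * y = y * x) {e : A} (he : e ∈ Z) (hs : star e = e)
    (hi : e * e = e) (h0 : e ≠ 0) (h1 : e ≠ 1) :
    ∃ D : Finset A, Fr D ∧ (∀ d ∈ D, d ∈ Z) ∧ ∀ M : Subgroup (RingAut A), M ≤ SAut A → Inv M Z → Inv M D := by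
  classical
  have := Fintype.ofFinite A
  let P : A → Prop := fun x => x ∈ Z ∧ star x = x ∧ x * x = x
  have hPmul : ∀ x y, P x → P y → P (x * y) := by
    rintro x y ⟨a1, a2, a3⟩ ⟨b1, b2, b3⟩
    refine ⟨Z.mul_mem a1 b1, by rw [star_mul, a2, b2, hc x a1 y b1], ?_⟩
    rw [mul_assoc, ← mul_assoc y, ← hc x a1 y b1, mul_assoc, b3, ← mul_assoc, a3]
  have hPc : ∀ x, P x → P (1 - x) := by
    rintro x ⟨a1, a2, a3⟩
    exact ⟨Z.sub_mem Z.one_mem a1, by rw [star_sub, star_one, a2], by rw [mul_sub, mul_one, sub_mul, one_mul, a3]; simp⟩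
  let At : A → Prop := fun x => P x ∧ x ≠ 0 ∧ ∀ y, P y → x * y = 0 ∨ x * y = x
  have hAt : ∀ x, P x → x ≠ 0 → ∃ f, At f ∧ f * x = f := by
    intro x hx hx0
    obtain ⟨f, hf⟩ := (Set.toFinite {f | P f ∧ f ≠ 0 ∧ f * x = f}).exists_minimalFor (fun f => {a | f * a = a}) _
      ⟨x, hx, hx0, hx.2.2⟩
    obtain ⟨⟨f1, f2, f3⟩, f4⟩ := hf
    refine ⟨f, ⟨f1, f2, fun y hy => ?_⟩, f3⟩
    by_cases hfy : f * y = 0
    · exact Or.inl hfy
    right
    have h5 := f4 (j := f * y) ⟨hPmul _ _ f1 hy, hfy, by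
      rw [mul_assoc, hc y hy.1 x hx.1, ← mul_assoc, f3]⟩ (fun a (ha : f * y * a = a) => by
        show f * a = a
        rw [← ha, ← mul_assoc, ← mul_assoc, f1.2.2])
    have h6 : f * y * f = f := h5 f1.2.2
    rwa [mul_assoc, hc y hy.1 f f1.1, ← mul_assoc, f1.2.2] at h6
  let D : Finset A := Finset.univ.filter At
  have hD : ∀ x, x ∈ D ↔ At x := fun x => by simp [D]
  have horth : ∀ x ∈ D, ∀ y ∈ D, x ≠ y → x * y = 0 := by
    intro x hx y hy hxy
    obtain ⟨x1, -, x3⟩ := (hD x).1 hx
    obtain ⟨y1, -, y3⟩ := (hD y).1 hy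
    rcases x3 y y1 with h | h
    · exact h
    rcases y3 x x1 with h' | h'
    · rw [hc x x1.1 y y1.1, h']
    · exact absurd (by rw [← h, hc x x1.1 y y1.1, h']) hxy
  have hmul : ∀ x ∈ D, x * ∑ y ∈ D, y = x := by
    intro x hx
    rw [Finset.mul_sum, Finset.sum_eq_single x (fun y hy hyx => horth x hx y hy hyx.symm) (fun h => absurd hx h)]
    exact ((hD x).1 hx).1.2.2
  refine ⟨D, ⟨?_, fun x hx => ((hD x).1 hx).2.1, fun x hx => ((hD x).1 hx).1.2.2, fun x hx => ((hD x).1 hx).1.2.1,
    horth, ?_⟩, fun x hx => ((hD x).1 hx).1.1, ?_⟩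
  · obtain ⟨f, hf, hfe⟩ := hAt e ⟨he, hs, hi⟩ h0
    obtain ⟨g, hg, hge⟩ := hAt (1 - e) (hPc e ⟨he, hs, hi⟩) (sub_ne_zero.2 h1.symm)
    refine Finset.one_lt_card.2 ⟨f, (hD f).2 hf, g, (hD g).2 hg, ?_⟩
    rintro rfl
    rw [mul_sub, mul_one, hfe, sub_self] at hge
    exact hf.2.1 hge.symm
  · by_contra hne
    have h2 : P (∑ y ∈ D, y) := by
      refine ⟨Z.sum_mem fun y hy => ((hD y).1 hy).1.1, ?_, ?_⟩
      · rw [star_sum]
        exact Finset.sum_congr rfl fun y hy => ((hD y).1 hy).1.2.1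
      · rw [Finset.sum_mul]
        exact Finset.sum_congr rfl hmul
    obtain ⟨f, hf, hfe⟩ := hAt _ (hPc _ h2) (sub_ne_zero.2 (Ne.symm hne))
    rw [mul_sub, mul_one, hmul f ((hD f).2 hf), sub_self] at hfe
    exact hf.2.1 hfe.symm
  · intro M hM hZ γ hγ x hx
    have hP : ∀ γ ∈ M, ∀ x, P x → P (γ x) := by
      rintro γ hγ x ⟨a1, a2, a3⟩
      exact ⟨hZ γ hγ x a1, by rw [← hM hγ, a2], by rw [← map_mul, a3]⟩
    obtain ⟨x1, x2, x3⟩ := (hD x).1 hx
    refine (hD _).2 ⟨hP γ hγ x x1, by rwa [map_ne_zero_iff γ γ.injective], fun y hy => ?_⟩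
    rcases x3 _ (hP _ (inv_mem hγ) y hy) with h | h
    · left
      rw [← ra_apply_inv γ y, ← map_mul, h, map_zero]
    · right
      conv_lhs => rw [← ra_apply_inv γ y, ← map_mul, h]

/-- a subring whose radical generates a two-sided ideal is semisimple -/
theorem semisimple_of_two (h : SS A) {B : Subring A} (hs : ∀ x ∈ B, star x ∈ B)
    (h0 : Two (Ideal.span ((Blk.ofSubring B hs).val '' (Ring.jacobson (Blk.ofSubring B hs).T)))) :
    IsSemisimpleRing (Blk.ofSubring B hs).T := by
  set B' := Blk.ofSubring B hs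
  rw [IsArtinianRing.isSemisimpleRing_iff_jacobson]
  set J := Ring.jacobson B'.T
  obtain ⟨n, hn⟩ := IsArtinianRing.isNilpotent_jacobson_bot (R := B'.T)
  rw [Ideal.jacobson_bot] at hn
  let I : ℕ → Ideal A := fun k => Ideal.span (B'.val '' (J ^ k : Ideal B'.T))
  have h1 : Two (I 1) := by
    simp only [I, Submodule.pow_one]
    exact h0
  have h2 : ∀ k, ∀ w ∈ I k, ∀ z ∈ I 1, z * w ∈ I (k + 1) := by
    intro k w hw
    induction hw using Submodule.span_induction with
    | mem w hw =>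
      obtain ⟨y, hy, rfl⟩ := hw
      intro z hz
      induction hz using Submodule.span_induction with
      | mem z hz =>
        obtain ⟨x, hx, rfl⟩ := hz
        refine Ideal.subset_span ⟨x * y, ?_, rfl⟩
        rw [Submodule.pow_one] at hx
        rw [Ideal.IsTwoSided.pow_succ]
        exact Ideal.mul_mem_mul hx hy
      | zero => rw [zero_mul]; exact (I _).zero_mem
      | add x y _ _ hx hy => rw [add_mul]; exact (I _).add_mem hx hy
      | smul a x _ hx => rw [smul_eq_mul, mul_assoc]; exact (I _).mul_mem_left _ hx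
    | zero => intro z _; rw [mul_zero]; exact (I _).zero_mem
    | add x y _ _ hx hy => intro z hz; rw [mul_add]; exact (I _).add_mem (hx z hz) (hy z hz)
    | smul a x _ hx => intro z hz; rw [smul_eq_mul, ← mul_assoc]; exact hx _ (h1 z hz a)
  have h3 : ∀ x ∈ I 1, ∀ k, x ^ k ∈ I k := by
    intro x hx k
    induction k with
    | zero =>
      refine Ideal.subset_span ⟨1, ?_, by rw [pow_zero]; rfl⟩
      rw [Submodule.pow_zero, Ideal.one_eq_top]
      trivial
    | succ k ih => rw [pow_succ']; exact h2 k _ ih x hx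
  have h4 : I 1 = ⊥ := h.nil_eq_bot h1 fun x hx => ⟨n, by
    have h5 := h3 x hx n
    have h6 : I n = ⊥ := by
      rw [Ideal.span_eq_bot]
      rintro _ ⟨y, hy, rfl⟩
      rw [hn] at hy
      rw [(Ideal.mem_bot).1 hy, map_zero]
    rwa [h6] at h5⟩
  rw [eq_bot_iff]
  intro y hy
  have h5 : B'.val y ∈ I 1 := Ideal.subset_span ⟨y, by rwa [Submodule.pow_one], rfl⟩
  rw [h4] at h5
  exact B'.val_inj h5

/-- invariant subrings are semisimple -/
theorem semisimple_of_inv (h : SS A) {M : Subgroup (RingAut A)} (hI : Irr M) {B : Subring A}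
    (hs : ∀ x ∈ B, star x ∈ B) (hB : Inv M B) : IsSemisimpleRing (Blk.ofSubring B hs).T := by
  refine semisimple_of_two h hs ?_
  set B' := Blk.ofSubring B hs
  have hst : M ≤ B'.stab := Blk.mem_stab hB
  refine hI _ fun γ hγ x hx => ?_
  induction hx using Submodule.span_induction with
  | mem x hx =>
    obtain ⟨y, hy, rfl⟩ := hx
    exact Ideal.subset_span ⟨B'.res ⟨γ, hst hγ⟩ y,
      Ring.le_comap_jacobson (f := (B'.res ⟨γ, hst hγ⟩ : B'.T →+* B'.T)) hy, rfl⟩
  | zero => rw [map_zero]; exact Ideal.zero_mem _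
  | add x y _ _ hx hy => rw [map_add]; exact Ideal.add_mem _ hx hy
  | smul a x _ hx => rw [smul_eq_mul, map_mul]; exact Ideal.mul_mem_left _ _ hx

/-- star-closed ideals of a semisimple ring -/
theorem ss_of_idem {R : Type} [Ring R] [StarRing R] [IsSemisimpleRing R] [Nontrivial R]
    (h : ∀ e ∈ Subring.center R, star e = e → e * e = e → e = 0 ∨ e = 1) : SS R := by
  refine ⟨inferInstance, fun I hI2 hIs => ?_⟩
  obtain ⟨e, he, hc, hee, h2⟩ := cen_idem_of_semisimple (I := I) hI2
  have h3 : star e = e := by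
    have h4 := h2 _ (hIs e he)
    have h5 := congrArg star h4
    rw [star_mul, star_star] at h5
    rw [← h4, h5]
  rcases h e hc h3 hee with h0 | h1
  · left
    rw [eq_bot_iff]
    intro x hx
    rw [← h2 x hx, h0, mul_zero]
    exact Ideal.zero_mem _
  · right
    rw [Ideal.eq_top_iff_one, ← h1]
    exact he

/-- the centre of a subring -/
def cenOf {A : Type} [Ring A] (B : Subring A) : Subring A := B ⊓ Subring.centralizer (B : Set A)

omit [StarRing A] [Finite A] in
theorem inv_centralizer {M : Subgroup (RingAut A)} {X : Set A} (h : Inv M X) : Inv M (Subring.centralizer X) := by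
  intro γ hγ x hx y hy
  have h1 := congrArg γ (hx _ (h _ (inv_mem hγ) y hy))
  rwa [map_mul, map_mul, ra_apply_inv] at h1

omit [StarRing A] [Finite A] in
theorem inv_cenOf {M : Subgroup (RingAut A)} {B : Subring A} (h : Inv M B) : Inv M (cenOf B) := fun γ hγ x hx =>
  ⟨h γ hγ x hx.1, inv_centralizer h γ hγ x hx.2⟩

omit [Finite A] in
theorem star_centralizer {X : Set A} (hs : ∀ x ∈ X, star x ∈ X) :
    ∀ x ∈ Subring.centralizer X, star x ∈ Subring.centralizer X := by
  intro x hx y hy
  have h1 := congrArg star (hx _ (hs y hy))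
  rw [star_mul, star_mul, star_star] at h1
  exact h1.symm

/-- without invariant frame, invariant subrings are star-simple -/
theorem ss_of_inv (h : SS A) {M : Subgroup (RingAut A)} (hM : M ≤ SAut A) (hI : Irr M)
    (hD : ∀ D : Finset A, Fr D → ¬ Inv M D) {B : Subring A} (hs : ∀ x ∈ B, star x ∈ B) (hB : Inv M B) :
    SS (Blk.ofSubring B hs).T := by
  have := h.nontrivial
  have hss := semisimple_of_inv h hI hs hB
  set B' := Blk.ofSubring B hs
  have hnt : Nontrivial B'.T := ⟨⟨1, 0, fun h1 => one_ne_zero (congrArg B'.val h1)⟩⟩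
  refine ss_of_idem fun e hc h3 hee => ?_
  by_contra hcon
  obtain ⟨h0, h1⟩ := not_or.1 hcon
  obtain ⟨D, hD1, -, hD2⟩ := exists_frame (cenOf B) (fun x hx y hy => hy.2 x hx.1) (e := B'.val e)
    ⟨B'.val_mem e, B'.mem_center_iff.1 hc⟩ (congrArg B'.val h3) (congrArg B'.val hee)
    (fun h4 => h0 (B'.val_inj h4)) (fun h4 => h1 (B'.val_inj h4))
  exact hD D hD1 (hD2 M hM (inv_cenOf hB))

omit [Finite A] in
theorem Blk.isUnit_val {B : Subring A} {hs : ∀ x ∈ B, star x ∈ B} {x : (Blk.ofSubring B hs).T} (h : IsUnit x) :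
    ∃ y ∈ B, (Blk.ofSubring B hs).val x * y = 1 ∧ y * (Blk.ofSubring B hs).val x = 1 := by
  obtain ⟨u, rfl⟩ := h
  exact ⟨_, (Blk.ofSubring B hs).val_mem (u⁻¹ : (Blk.ofSubring B hs).Tˣ),
    congrArg (Blk.ofSubring B hs).val u.mul_inv, congrArg (Blk.ofSubring B hs).val u.inv_mul⟩

omit [Finite A] in
/-- a star-simple ring with a non-symmetric central element has a central element of trace one -/
theorem SS.exists_trace_one (h : SS A) {z : A} (hz : z ∈ Subring.center A) (hne : star z ≠ z) :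
    ∃ c ∈ Subring.center A, c + star c = 1 := by
  have ht : z - star z ∈ Subring.center A := Subring.sub_mem _ hz (star_cen hz)
  have hts : star (z - star z) = -(z - star z) := by rw [star_sub, star_star, neg_sub]
  have h0 : (z - star z) * (z - star z) ≠ 0 := by
    intro h1
    have h2 := h.nil_eq_bot (two_span_cen ht) fun x hx => by
      obtain ⟨b, rfl⟩ := Ideal.mem_span_singleton'.1 hx
      refine ⟨2, ?_⟩
      rw [pow_two, mul_assoc, ← mul_assoc (z - star z), ← cen_comm ht, mul_assoc, h1, mul_zero, mul_zero]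
    rw [Ideal.span_singleton_eq_bot, sub_eq_zero] at h2
    exact hne h2.symm
  obtain ⟨u, hu⟩ := h.isUnit_of_cen (Subring.mul_mem _ ht ht) (by rw [star_mul, hts, neg_mul_neg]) h0
  have hu' : (u : A) ∈ Subring.center A := hu ▸ Subring.mul_mem _ ht ht
  have hus : star (u : A) = u := by rw [hu, star_mul, hts, neg_mul_neg]
  have hus' : star ((u⁻¹ : Aˣ) : A) = (u⁻¹ : Aˣ) := by
    have h3 : star ((u⁻¹ : Aˣ) : A) * u = 1 := by rw [← hus, ← star_mul, Units.mul_inv, star_one]
    rw [← mul_one (star _), ← u.mul_inv, ← mul_assoc, h3, one_mul]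
  refine ⟨(u⁻¹ : Aˣ) * (z - star z) * z, Subring.mul_mem _ (Subring.mul_mem _ (inv_cen hu') ht) hz, ?_⟩
  rw [star_mul, star_mul, hus', hts, cen_comm (inv_cen hu'), cen_comm (Subring.mul_mem _ (inv_cen hu')
    (Subring.neg_mem _ ht)), mul_neg, neg_mul, ← sub_eq_add_neg, ← mul_sub, mul_assoc, ← hu, Units.inv_mul]

end Cfsg.Agent.DS.Cl
end

-- part: DS/Cl/NC
section
prune_inst 0x25104c402862020000180010120000204000000000030000a0a0050601018002804106000a000001809814406800004000100180422800000a00000000060401100010044002030008008e000080000000000000010000000000000000000004200000000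
set_option linter.all false
open scoped Cfsg.Agent.FastGrp

/-!
# S5881, classical groups: non-central isometries (`BoxNC`, helper93)
-/

set_option autoImplicit false

namespace Cfsg.Agent.DS.Cl.NCTV

open Module Cfsg.Agent.DS.Cl

variable {A : Type} [Ring A] [StarRing A]

/-- `1 - s` is an isometry when `s l s* - s* ∈ L` -/
theorem iso_of [Finite A] (F : FR A) {s : A} (h : s * F.l * star s - star s ∈ F.L) :
    ∃ u ∈ F.Iso, (u : A) = 1 - s := by
  have h1 := F.star_eq_neg h
  rw [star_sub, star_star, star_mul, star_mul, star_star, ← mul_assoc] at h1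
  have hl : star F.l = 1 - F.l := eq_sub_of_add_eq' F.l_add
  have h2 : s * star s = s + star s := by
    rw [hl] at h1
    calc s * star s = (s * (1 - F.l) * star s - s) + (s * F.l * star s - star s) + (s + star s) := by noncomm_ring
      _ = s + star s := by rw [h1, neg_add_cancel, zero_add]
  have h3 : (1 - s) * star (1 - s) = 1 := by
    rw [star_sub, star_one]
    calc (1 - s) * (1 - star s) = 1 - (s + star s) + s * star s := by noncomm_ring
      _ = 1 := by rw [h2, sub_add_cancel]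
  obtain ⟨u, hu⟩ : IsUnit (1 - s) := IsUnit.of_mul_eq_one _ h3
  refine ⟨u, ⟨by rw [hu, h3], ?_⟩, hu⟩
  have h4 := F.L.sub_mem h (F.sub_star_mem (s * F.l))
  rw [star_mul, hl] at h4
  rw [hu, star_sub, star_one]
  convert h4 using 1
  noncomm_ring

section form

variable {K V : Type} [Field K] [AddCommGroup V] [Module K V] {σ : K →+* K}

/-- the rank one operator `w ↦ c * b v w • v` -/
def rk (b : V →ₛₗ[σ] V →ₗ[K] K) (c : K) (v : V) : End K V := c • (b v).smulRight v

theorem rk_apply (b : V →ₛₗ[σ] V →ₗ[K] K) (c : K) (v w : V) : rk b c v w = (c * b v w) • v := by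
  rw [rk, LinearMap.smul_apply, LinearMap.smulRight_apply, smul_smul]

theorem rk_mul (b : V →ₛₗ[σ] V →ₗ[K] K) (c d : K) (v : V) (x : End K V) :
    rk b c v * x * rk b d v = rk b (c * d * b v (x v)) v := by
  ext w
  simp only [Module.End.mul_apply, rk_apply, map_smul, smul_smul]
  congr 1
  ring

theorem ext_right {b : V →ₛₗ[σ] V →ₗ[K] K} (hb : b.SeparatingLeft) {ε : K} (hε : ε ≠ 0)
    (hs : ∀ v w, σ (b v w) = ε * b w v) {x y : V} (h : ∀ w, b w x = b w y) : x = y := by
  rw [← sub_eq_zero]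
  refine hb _ fun w => ?_
  have h1 := hs w (x - y)
  rw [map_sub, h, sub_self, map_zero] at h1
  exact (mul_eq_zero.1 h1.symm).resolve_left hε

theorem star_rk {b : V →ₛₗ[σ] V →ₗ[K] K} (hb : b.SeparatingLeft) {ε : K} (hε : ε ≠ 0)
    (hs : ∀ v w, σ (b v w) = ε * b w v) (e : A ≃+* End K V) (hadj : ∀ a v w, b (e a v) w = b v (e (star a) w))
    (c : K) (v : V) : star (e.symm (rk b c v)) = e.symm (rk b (σ c * ε) v) := by
  apply e.injective
  rw [e.apply_symm_apply]
  ext w
  refine ext_right hb hε hs fun x => ?_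
  rw [← hadj, e.apply_symm_apply, rk_apply, rk_apply, map_smulₛₗ, map_smul, LinearMap.smul_apply, map_mul, hs,
    smul_eq_mul, smul_eq_mul]
  ring

omit [StarRing A] in
theorem comm_of_rk {b : V →ₛₗ[σ] V →ₗ[K] K} (hb : b.SeparatingLeft) (e : A ≃+* End K V) {c : K} (hc : c ≠ 0) {v : V}
    (hv : v ≠ 0) (h : e.symm (rk b c v) ∈ Subring.center A) (x y : A) : x * y = y * x := by
  have h1 : ∃ w, b v w ≠ 0 := by
    by_contra hc
    push Not at hc
    exact hv (hb v hc)
  obtain ⟨w, hw⟩ := h1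
  have h2 : ∀ a : End K V, ∃ t : K, a v = t • v := by
    intro a
    have h3 := congrArg (fun z => e z w) (Subring.mem_center_iff.1 h (e.symm a))
    simp only [map_mul, e.apply_symm_apply, Module.End.mul_apply, rk_apply, map_smul] at h3
    refine ⟨(c * b v w)⁻¹ * (c * b v (a w)), ?_⟩
    rw [mul_smul, ← h3, smul_smul, inv_mul_cancel₀ (mul_ne_zero hc hw), one_smul]
  have h4 : ∀ z : V, ∃ t : K, z = t • v := by
    intro z
    obtain ⟨φ, hφ⟩ := Module.Projective.exists_dual_eq_one K hv
    obtain ⟨t, ht⟩ := h2 (φ.smulRight z)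
    rw [LinearMap.smulRight_apply, hφ, one_smul] at ht
    exact ⟨t, ht⟩
  apply e.injective
  ext z
  obtain ⟨t, rfl⟩ := h4 z
  obtain ⟨t1, h5⟩ := h2 (e x)
  obtain ⟨t2, h6⟩ := h2 (e y)
  simp only [map_mul, Module.End.mul_apply, map_smul, h5, h6, smul_smul]
  congr 1
  ring

omit [StarRing A] in
theorem sub_cen {s : A} (h : 1 - s ∈ Subring.center A) : s ∈ Subring.center A := by
  have := (Subring.center A).sub_mem (Subring.center A).one_mem h
  rwa [sub_sub_cancel] at this

/-- reflections -/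
theorem nc_refl [Finite A] (F : FR A) (hA : ∃ a b : A, a * b ≠ b * a) {b : V →ₛₗ[σ] V →ₗ[K] K}
    (hb : b.SeparatingLeft) {ε : K} (hε : ε ≠ 0) (hs : ∀ v w, σ (b v w) = ε * b w v) (e : A ≃+* End K V)
    (hadj : ∀ a v w, b (e a v) w = b v (e (star a) w)) {v : V} (hv : b v (e F.l v) ≠ 0) :
    ∃ u ∈ F.Iso, (u : A) ∉ Subring.center A := by
  have hv0 : v ≠ 0 := by
    rintro rfl
    exact hv (by simp)
  obtain ⟨u, hu, hu'⟩ := iso_of F (s := e.symm (rk b (b v (e F.l v))⁻¹ v)) (by
    rw [star_rk hb hε hs e hadj]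
    have h1 : e.symm (rk b (b v (e F.l v))⁻¹ v) * F.l * e.symm (rk b (σ (b v (e F.l v))⁻¹ * ε) v) =
        e.symm (rk b (σ (b v (e F.l v))⁻¹ * ε) v) := by
      apply e.injective
      rw [map_mul, map_mul, e.apply_symm_apply, e.apply_symm_apply, rk_mul, mul_right_comm, inv_mul_cancel₀ hv,
        one_mul]
    rw [h1, sub_self]
    exact F.L.zero_mem)
  obtain ⟨x, y, hxy⟩ := hA
  exact ⟨u, hu, fun h => hxy (comm_of_rk hb e (inv_ne_zero hv) hv0 (sub_cen (hu' ▸ h)) x y)⟩

theorem polar {b : V →ₛₗ[σ] V →ₗ[K] K} {x : End K V} (h : ∀ v, b v (x v) = 0) (v w : V) :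
    b v (x w) + b w (x v) = 0 := by
  have h1 := h (v + w)
  simp only [map_add, LinearMap.add_apply, h, zero_add, add_zero] at h1
  rwa [add_comm] at h1

end form

theorem nc_U [Finite A] [Nontrivial A] (F : FR A) (hA : ∃ a b : A, a * b ≠ b * a) (h : ModU A) :
    ∃ u ∈ F.Iso, (u : A) ∉ Subring.center A := by
  obtain ⟨K, _, _, n, e, σ, b, -, hσ, -, hs, hb, hadj⟩ := h
  have hs' : ∀ v w, σ (b v w) = 1 * b w v := fun v w => by rw [one_mul, hs.eq]
  by_cases h1 : ∃ v, b v (e F.l v) ≠ 0
  · obtain ⟨v, hv⟩ := h1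
    exact nc_refl F hA hb one_ne_zero hs' e hadj hv
  exfalso
  push Not at h1
  obtain ⟨a, ha⟩ : ∃ a, σ a ≠ a := by
    by_contra hc
    push Not at hc
    exact hσ (RingHom.ext hc)
  have h2 : F.l = 0 := by
    apply e.injective
    rw [map_zero]
    refine LinearMap.ext fun w => ?_
    refine ext_right hb one_ne_zero hs' fun v => ?_
    have h3 := polar h1 v w
    have h4 := polar h1 v (a • w)
    rw [map_smul, map_smul, map_smulₛₗ, LinearMap.smul_apply, smul_eq_mul, smul_eq_mul,
      eq_neg_of_add_eq_zero_right h3] at h4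
    have h5 : (a - σ a) * b v (e F.l w) = 0 := by rw [← h4]; ring
    rw [LinearMap.zero_apply, map_zero]
    exact (mul_eq_zero.1 h5).resolve_left (sub_ne_zero.2 ha.symm)
  have h3 := F.l_add
  rw [h2, star_zero, add_zero] at h3
  exact zero_ne_one h3

theorem nc_B [Finite A] [Nontrivial A] (F : FR A) (hA : ∃ a b : A, a * b ≠ b * a) (h : ModB A) :
    ∃ u ∈ F.Iso, (u : A) ∉ Subring.center A := by
  obtain ⟨K, _, _, n, e, b, hn, hs, hb, hadj⟩ := h
  obtain ⟨ε, hε, hs'⟩ : ∃ ε : K, (ε = 1 ∨ ε = -1) ∧ ∀ v w, RingHom.id K (b v w) = ε * b w v := by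
    rcases hs with hs | hs
    · exact ⟨1, Or.inl rfl, fun v w => by rw [one_mul, hs, RingHom.id_apply]⟩
    · exact ⟨-1, Or.inr rfl, fun v w => by rw [neg_one_mul, ← hs, RingHom.id_apply]⟩
  have hε0 : ε ≠ 0 := by
    rcases hε with rfl | rfl
    · exact one_ne_zero
    · exact neg_ne_zero.2 one_ne_zero
  by_cases h1 : ∃ v, b v (e F.l v) ≠ 0
  · obtain ⟨v, hv⟩ := h1
    exact nc_refl F hA hb hε0 hs' e hadj hv
  push Not at h1
  have h2 : ∀ w, e F.l w = (-ε) • e (star F.l) w := by
    intro w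
    refine ext_right hb hε0 hs' fun v => ?_
    have h3 := polar (σ := RingHom.id K) h1 v w
    have h4 := hadj (star F.l) w v
    rw [star_star] at h4
    have h5 := hs' (e (star F.l) w) v
    rw [RingHom.id_apply] at h5
    rw [← h4, h5] at h3
    rw [map_smul, smul_eq_mul, neg_mul]
    exact eq_neg_of_add_eq_zero_left h3
  rcases hε with rfl | rfl
  · exfalso
    have h3 : F.l + star F.l = 0 := by
      apply e.injective
      refine LinearMap.ext fun w => ?_
      rw [map_add, LinearMap.add_apply, h2, neg_one_smul, neg_add_cancel, map_zero, LinearMap.zero_apply]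
    exact one_ne_zero (F.l_add.symm.trans h3)
  have h3 : star F.l = F.l := by
    apply e.injective
    refine LinearMap.ext fun w => ?_
    rw [h2, neg_neg, one_smul]
  have h4 : F.l + F.l = 1 := by
    have := F.l_add
    rwa [h3] at this
  have h5 : F.l ∈ Subring.center A := by
    refine Subring.mem_center_iff.2 fun a => ?_
    calc a * F.l = (F.l + F.l) * a * F.l := by rw [h4, one_mul]
      _ = F.l * a * (F.l + F.l) := by noncomm_ring
      _ = F.l * a := by rw [h4, mul_one]
  have : Nonempty (Fin n) := ⟨⟨0, hn⟩⟩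
  obtain ⟨v, hv⟩ := exists_ne (0 : Fin n → K)
  have h6 : star (e.symm (rk b 1 v)) = -e.symm (rk b 1 v) := by
    rw [star_rk hb hε0 hs' e hadj, ← map_neg]
    congr 1
    refine LinearMap.ext fun w => ?_
    rw [LinearMap.neg_apply, rk_apply, rk_apply, map_one, one_mul, one_mul, neg_one_mul, neg_smul]
  obtain ⟨u, hu, hu'⟩ := iso_of F (s := e.symm (rk b 1 v)) (by
    have h7 : e.symm (rk b 1 v) * F.l * e.symm (rk b 1 v) = 0 := by
      apply e.injective
      rw [map_mul, map_mul, e.apply_symm_apply, rk_mul, h1, mul_zero, map_zero, rk, zero_smul]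
    rw [h6, mul_neg, h7, neg_zero, zero_sub, neg_neg, F.L_eq h5 F.l_add]
    exact h6)
  obtain ⟨x, y, hxy⟩ := hA
  exact ⟨u, hu, fun h => hxy (comm_of_rk hb e one_ne_zero hv (sub_cen (hu' ▸ h)) x y)⟩

/-- the central idempotent of the linear model -/
theorem eps_L {B : Type} [Ring B] (π : A →+* B) (hπ : Function.Bijective fun a => (π a, π (star a))) :
    ∃ c ∈ Subring.center A, c + star c = 1 ∧ π c = 1 ∧ π (star c) = 0 := by
  obtain ⟨c, hc⟩ := hπ.2 (1, 0)
  have h1 : π c = 1 := congrArg Prod.fst hc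
  have h2 : π (star c) = 0 := congrArg Prod.snd hc
  refine ⟨c, Subring.mem_center_iff.2 fun a => hπ.1 ?_, hπ.1 ?_, h1, h2⟩
  · simp only [star_mul, map_mul, h1, h2, mul_one, one_mul, mul_zero, zero_mul]
  · simp only [star_add, star_star, map_add, h1, h2, star_one, map_one, add_zero, zero_add]

theorem nc_L [Finite A] (F : FR A) (hA : ∃ a b : A, a * b ≠ b * a) (h : ModL A) :
    ∃ u ∈ F.Iso, (u : A) ∉ Subring.center A := by
  obtain ⟨K, _, _, n, π, hn, hπ⟩ := h
  obtain ⟨c, hc, hc1, -, -⟩ := eps_L π hπ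
  have h1 : ∃ x : End K (Fin n → K), x * x = 0 ∧ x ≠ 0 := by
    rcases Nat.lt_or_ge 1 n with h | h
    · refine ⟨(LinearMap.proj (⟨0, hn⟩ : Fin n)).smulRight (Pi.single (⟨1, h⟩ : Fin n) 1), ?_, fun h0 => ?_⟩
      · refine LinearMap.ext fun w => ?_
        simp
      · have h2 := congrFun (LinearMap.congr_fun h0 (Pi.single (⟨0, hn⟩ : Fin n) 1)) ⟨1, h⟩
        simp at h2
    · exfalso
      obtain rfl : n = 1 := le_antisymm h hn
      have h2 : ∀ x y : End K (Fin 1 → K), x * y = y * x := by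
        have h3 : ∀ (x : End K (Fin 1 → K)) (w : Fin 1 → K), x w = (x (fun _ => 1) 0) • w := by
          intro x w
          have h4 : w = w 0 • fun _ => (1 : K) := by
            funext i
            rw [Subsingleton.elim i 0, Pi.smul_apply, smul_eq_mul, mul_one]
          funext i
          rw [Subsingleton.elim i 0]
          conv_lhs => rw [h4]
          rw [map_smul, Pi.smul_apply, Pi.smul_apply, smul_eq_mul, smul_eq_mul, mul_comm]
        intro x y
        refine LinearMap.ext fun w => ?_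
        rw [Module.End.mul_apply, Module.End.mul_apply, h3 x (y w), h3 y (x w), h3 x w, h3 y w, smul_comm]
      obtain ⟨a, b, hab⟩ := hA
      exact hab (hπ.1 (by simp only [star_mul, map_mul, h2 (π a), h2 (π (star b))]))
  obtain ⟨x, hx, hx0⟩ := h1
  obtain ⟨s, hs⟩ := hπ.2 (x, -x)
  have h2 : π s = x := congrArg Prod.fst hs
  have h3 : π (star s) = -x := congrArg Prod.snd hs
  have hx' : x * -x = 0 := by rw [mul_neg x x, hx, neg_zero]
  have h4 : s * star s = s + star s := hπ.1 (by
    simp only [star_mul, star_add, star_star, map_mul, map_add, h2, h3, hx', add_neg_cancel, neg_add_cancel])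
  obtain ⟨u, hu, hu'⟩ := iso_of F (s := s) (by
    rw [F.L_eq hc hc1]
    have hl : star F.l = 1 - F.l := eq_sub_of_add_eq' F.l_add
    change star _ = -_
    rw [star_sub, star_star, star_mul, star_mul, star_star, hl]
    calc s * ((1 - F.l) * star s) - s = s * star s - s - s * F.l * star s := by noncomm_ring
      _ = -(s * F.l * star s - star s) := by rw [h4]; abel)
  refine ⟨u, hu, fun h => hx0 ?_⟩
  have h5 := sub_cen (hu' ▸ h)
  have h6 : ∀ y, y * x = x * y := by
    intro y
    obtain ⟨a, ha⟩ := hπ.2 (y, 0)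
    have h7 : π a = y := congrArg Prod.fst ha
    rw [← h7, ← h2, ← map_mul, ← map_mul, Subring.mem_center_iff.1 h5]
  refine LinearMap.ext fun w => ?_
  by_contra hw
  obtain ⟨φ, hφ⟩ := Module.Projective.exists_dual_eq_one K hw
  have h7 := LinearMap.congr_fun (h6 (φ.smulRight w)) (x w)
  have h8 : x (x w) = 0 := by rw [← Module.End.mul_apply, hx, LinearMap.zero_apply]
  rw [Module.End.mul_apply, Module.End.mul_apply, h8, map_zero, LinearMap.smulRight_apply, hφ, one_smul] at h7
  exact hw h7.symm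

theorem boxNC : BoxNC := by
  intro A _ _ _ h F hA
  have := h.1
  rcases exists_model h with h1 | h1 | h1
  · exact nc_L F hA h1
  · exact nc_U F hA h1
  · exact nc_B F hA h1

end Cfsg.Agent.DS.Cl.NCTV

private theorem dce_1b1593f3cd50 : _root_.True := by
  try have : _root_.True := by simp only [_root_.Cfsg.Agent.DS.Cl.NCTV.rk.eq_1]
  exact _root_.True.intro
end
end

-- part: DS/Cl/ModL
section
prune_inst 0x10000000000000000000000000000000
set_option linter.all false
open scoped Cfsg.Agent.FastGrp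

/-!
# S5881, classical groups: the model of the linear groups (helper12)
-/

set_option autoImplicit false

namespace Cfsg.Agent.DS.Cl.Fwd

open Cfsg Cfsg.Agent.DS.Cl
open Cfsg.Agent.ClassicalGeometry.AutPSL.Auto (fld itr lift)
open scoped Matrix

/-- conjugation by a unitary element commutes with the involution -/
theorem cj_mem_SAut {A : Type} [Ring A] [StarRing A] {u : Aˣ} (hu : (u : A) * star (u : A) = 1) :
    cj A u ∈ SAut A := by
  intro a
  have h1 : star (u : A) = (u⁻¹ : Aˣ) := Units.eq_inv_of_mul_eq_one_left hu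
  have h2 : star ((u⁻¹ : Aˣ) : A) = u := by rw [← h1, star_star]
  rw [cj_apply, cj_apply, star_mul, star_mul, h1, h2, mul_assoc]

/-- the off-diagonal matrix units generate the matrix ring -/
theorem mat_ind {ι F : Type} [Fintype ι] [DecidableEq ι] [Nontrivial ι] [Field F] (P : Matrix ι ι F → Prop)
    (h0 : P 0) (ha : ∀ a b, P a → P b → P (a + b)) (hm : ∀ a b, P a → P b → P (a * b))
    (hs : ∀ i j, i ≠ j → ∀ c, P (Matrix.single i j c)) (a : Matrix ι ι F) : P a := by
  refine Matrix.induction_on' a h0 ha fun i j c => ?_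
  by_cases hij : i = j
  · obtain ⟨k, hk⟩ := exists_ne i
    have h1 := hm _ _ (hs i k hk.symm c) (hs k j (hij ▸ hk) 1)
    rwa [Matrix.single_mul_single_same, mul_one] at h1
  · exact hs i j hij c

/-- pairs of matrices with the involution `(a, b) ↦ (bᵀ, aᵀ)` -/
def LR (ι F : Type) : Type := Matrix ι ι F × Matrix ι ι F

section LR

variable {ι F : Type} [Fintype ι] [DecidableEq ι] [Field F]

instance LR.instRingFwd : Ring (LR ι F) := inferInstanceAs (Ring (Matrix ι ι F × Matrix ι ι F))

instance LR.instFiniteFwd [Finite F] : Finite (LR ι F) :=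
  inferInstanceAs (Finite ((ι → ι → F) × (ι → ι → F)))

instance LR.instStarRingFwd : StarRing (LR ι F) where
  star a := (a.2ᵀ, a.1ᵀ)
  star_involutive _ := rfl
  star_mul a b := Prod.ext (Matrix.transpose_mul a.2 b.2) (Matrix.transpose_mul a.1 b.1)
  star_add _ _ := rfl

/-- the pair of two matrices -/
def LR.mk (a b : Matrix ι ι F) : LR ι F := (a, b)

theorem LR.mk_mul (a b a' b' : Matrix ι ι F) : LR.mk a b * LR.mk a' b' = LR.mk (a * a') (b * b') := rfl

theorem LR.mk_add (a b a' b' : Matrix ι ι F) : LR.mk a b + LR.mk a' b' = LR.mk (a + a') (b + b') := rfl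

theorem LR.mk_sub (a b a' b' : Matrix ι ι F) : LR.mk a b - LR.mk a' b' = LR.mk (a - a') (b - b') := rfl

theorem LR.star_mk (a b : Matrix ι ι F) : star (LR.mk a b) = LR.mk bᵀ aᵀ := rfl

theorem LR.one_eq : (1 : LR ι F) = LR.mk 1 1 := rfl

theorem LR.zero_eq : (0 : LR ι F) = LR.mk 0 0 := rfl

omit [Fintype ι] [DecidableEq ι] [Field F] in
theorem LR.exists_mk (x : LR ι F) : ∃ a b, x = LR.mk a b := ⟨x.1, x.2, rfl⟩

theorem LR.half : (LR.mk 1 0 : LR ι F) + star (LR.mk 1 0) = 1 := by
  rw [LR.star_mk, LR.mk_add, Matrix.transpose_zero, Matrix.transpose_one, add_zero, zero_add, LR.one_eq]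

theorem LR.ss [Nonempty ι] : SS (LR ι F) := by
  refine ⟨inferInstanceAs (Nontrivial (Matrix ι ι F × Matrix ι ι F)), fun I hI hs => ?_⟩
  by_cases h0 : I = ⊥
  · exact Or.inl h0
  right
  obtain ⟨a, b, ha, hab⟩ : ∃ a b, a ≠ 0 ∧ LR.mk a b ∈ I := by
    obtain ⟨x, hx, hx0⟩ := Submodule.exists_mem_ne_zero_of_ne_bot h0
    obtain ⟨a, b, rfl⟩ := LR.exists_mk x
    by_cases ha : a = 0
    · refine ⟨bᵀ, aᵀ, fun hb => hx0 ?_, hs _ hx⟩
      rw [ha, Matrix.transpose_eq_zero.1 hb, LR.zero_eq]
    · exact ⟨a, b, ha, hx⟩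
  obtain ⟨i, j, hij⟩ : ∃ i j, a i j ≠ 0 := by
    by_contra H
    push Not at H
    exact ha (Matrix.ext H)
  have h1 : ∀ x, LR.mk x 0 ∈ I := fun x => by
    refine Matrix.induction_on' (P := fun x => LR.mk x 0 ∈ I) x I.zero_mem (fun p q hp hq => ?_) fun k l c => ?_
    · have h2 := I.add_mem hp hq
      rwa [LR.mk_add, add_zero] at h2
    · have h2 := hI _ (I.mul_mem_left (LR.mk (Matrix.single k i (c / a i j)) 0) hab) (LR.mk (Matrix.single j l 1) 0)
      rwa [LR.mk_mul, LR.mk_mul, mul_zero, Matrix.single_mul_mul_single, mul_one, div_mul_cancel₀ _ hij] at h2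
  rw [Ideal.eq_top_iff_one, ← LR.half]
  exact I.add_mem (h1 1) (hs _ (h1 1))

/-- the general linear group in the ring of pairs -/
def LR.gl₀ : GL ι F →* LR ι F where
  toFun A := LR.mk A ((A⁻¹ : GL ι F) : Matrix ι ι F)ᵀ
  map_one' := by rw [inv_one, Units.val_one, Matrix.transpose_one, LR.one_eq]
  map_mul' A B := by rw [LR.mk_mul, mul_inv_rev, Units.val_mul, Units.val_mul, Matrix.transpose_mul]

/-- the general linear group in the unit group of the ring of pairs -/
def LR.gl : GL ι F →* (LR ι F)ˣ := LR.gl₀.toHomUnits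

theorem LR.gl_val (A : GL ι F) : (LR.gl A : LR ι F) = LR.mk A ((A⁻¹ : GL ι F) : Matrix ι ι F)ᵀ := rfl

theorem LR.mem_gl (u : (LR ι F)ˣ) : u ∈ (LR.gl (ι := ι) (F := F)).range ↔ (u : LR ι F) * star (u : LR ι F) = 1 := by
  constructor
  · rintro ⟨A, rfl⟩
    rw [LR.gl_val, LR.star_mk, LR.mk_mul, Matrix.transpose_transpose, Units.mul_inv, ← Matrix.transpose_mul,
      Units.mul_inv, Matrix.transpose_one, LR.one_eq]
  · intro hu
    have h1 : (u : LR ι F).1 * (u : LR ι F).2ᵀ = 1 := congrArg Prod.fst hu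
    exact ⟨⟨(u : LR ι F).1, (u : LR ι F).2ᵀ, h1, mul_eq_one_comm.1 h1⟩, Units.ext rfl⟩

/-- field automorphisms -/
def LR.fldAut (σ : F ≃+* F) : RingAut (LR ι F) := RingEquiv.prodCongr σ.mapMatrix σ.mapMatrix

/-- the graph automorphism -/
def LR.swapAut : RingAut (LR ι F) := RingEquiv.prodComm

end LR

theorem boxModL : BoxModL := by
  intro F _ _ n hn hn2
  have hnt : Nontrivial (Fin n) := Fin.nontrivial_iff_two_le.2 hn
  let R : FR (LR (Fin n) F) := ⟨LR.mk 1 0, Lmax _, LR.half, Or.inr rfl⟩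
  let φ : Matrix.SpecialLinearGroup (Fin n) F →* (LR (Fin n) F)ˣ := LR.gl.comp Matrix.SpecialLinearGroup.toGL
  have hφ : ∀ k, (φ k : LR (Fin n) F) = LR.mk k.1 (itr k).1 := fun k => by
    change (LR.gl (Matrix.SpecialLinearGroup.toGL k) : LR (Fin n) F) = _
    rw [LR.gl_val, ← map_inv]
    rfl
  have hinj : Function.Injective φ := fun A B H => Subtype.ext (congrArg (fun u : (LR (Fin n) F)ˣ => u.1.1) H)
  have hr : (LR.gl (ι := Fin n) (F := F)).range = R.Iso := by
    ext u
    rw [LR.mem_gl]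
    exact ⟨fun hu => mem_Iso_max rfl hu, fun hu => hu.1⟩
  have hc : φ.range = ⁅R.Iso, R.Iso⁆ := by
    have h1 : n = 2 → ∃ a : F, a ≠ 0 ∧ a ≠ 1 := fun h2 => by
      classical
      by_contra H
      push Not at H
      have h3 : (Finset.univ : Finset F) ⊆ {0, 1} := fun a _ => by
        by_cases ha : a = 0
        · simp [ha]
        · simp [H a ha]
      have h4 := (Finset.card_le_card h3).trans Finset.card_le_two
      have h5 := hn2 h2
      rw [Finset.card_univ] at h4
      omega
    rw [← hr, comm_range, Cfsg.Agent.S0264.result n h1, MonoidHom.range_comp]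
    congr 1
    ext A
    constructor
    · rintro ⟨k, rfl⟩
      exact Units.ext k.2
    · intro hA
      exact ⟨⟨A, congrArg Units.val (MonoidHom.mem_ker.1 hA)⟩, Units.ext rfl⟩
  have hspan : R.Span := by
    rw [FR.Span, eq_top_iff]
    intro x _
    obtain ⟨a, b, rfl⟩ := LR.exists_mk x
    set S := Subring.closure ((Subring.center (LR (Fin n) F) : Set (LR (Fin n) F)) ∪
      ((fun u : (LR (Fin n) F)ˣ => (u : LR (Fin n) F)) '' (⁅R.Iso, R.Iso⁆ : Subgroup (LR (Fin n) F)ˣ))) with hS
    have h1 : (LR.mk 1 0 : LR (Fin n) F) ∈ S := Subring.subset_closure (Or.inl (Subring.mem_center_iff.2 fun g => by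
      obtain ⟨c, d, rfl⟩ := LR.exists_mk g
      rw [LR.mk_mul, LR.mk_mul, mul_one, one_mul, mul_zero, zero_mul]))
    have h2 : (LR.mk 0 1 : LR (Fin n) F) ∈ S := Subring.subset_closure (Or.inl (Subring.mem_center_iff.2 fun g => by
      obtain ⟨c, d, rfl⟩ := LR.exists_mk g
      rw [LR.mk_mul, LR.mk_mul, mul_one, one_mul, mul_zero, zero_mul]))
    have h3 : ∀ i j, i ≠ j → ∀ c : F, LR.mk (Matrix.single i j c) (Matrix.single j i (-c)) ∈ S := fun i j hij c => by
      have h4 : (φ (Matrix.SpecialLinearGroup.transvection hij c) : LR (Fin n) F) ∈ S :=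
        Subring.subset_closure (Or.inr ⟨_, by rw [← hc]; exact ⟨_, rfl⟩, rfl⟩)
      have h5 := S.sub_mem h4 S.one_mem
      rw [hφ, Cfsg.Agent.ClassicalGeometry.AutPSL.Auto.itr_transvection, LR.one_eq, LR.mk_sub] at h5
      change LR.mk (1 + Matrix.single i j c - 1) (1 + Matrix.single j i (-c) - 1) ∈ S at h5
      rwa [add_sub_cancel_left, add_sub_cancel_left] at h5
    have h4 : LR.mk a 0 ∈ S := by
      refine mat_ind (fun a => LR.mk a 0 ∈ S) S.zero_mem (fun a b ha hb => ?_) (fun a b ha hb => ?_)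
        (fun i j hij c => ?_) a
      · have h5 := S.add_mem ha hb
        rwa [LR.mk_add, add_zero] at h5
      · have h5 := S.mul_mem ha hb
        rwa [LR.mk_mul, mul_zero] at h5
      · have h5 := S.mul_mem h1 (h3 i j hij c)
        rwa [LR.mk_mul, one_mul, zero_mul] at h5
    have h5 : LR.mk 0 b ∈ S := by
      refine mat_ind (fun a => LR.mk 0 a ∈ S) S.zero_mem (fun a b ha hb => ?_) (fun a b ha hb => ?_)
        (fun i j hij c => ?_) b
      · have h5 := S.add_mem ha hb
        rwa [LR.mk_add, add_zero] at h5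
      · have h5 := S.mul_mem ha hb
        rwa [LR.mk_mul, mul_zero] at h5
      · have h5 := S.mul_mem h2 (h3 j i hij.symm (-c))
        rwa [LR.mk_mul, one_mul, zero_mul, neg_neg] at h5
    have h6 := S.add_mem h4 h5
    rwa [LR.mk_add, add_zero, zero_add] at h6
  let P : MulAut (Matrix.SpecialLinearGroup (Fin n) F) → Prop := fun e =>
    ∃ γ ∈ SAut (LR (Fin n) F), ∀ k, γ (φ k : LR (Fin n) F) = φ (e k)
  have hmul : ∀ e e', P e → P e' → P (e * e') := by
    rintro e e' ⟨γ, hγ, h⟩ ⟨γ', hγ', h'⟩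
    refine ⟨γ * γ', mul_mem hγ hγ', fun k => ?_⟩
    change γ (γ' _) = _
    rw [h', h]
    rfl
  have hcj : ∀ A, P (Cfsg.Agent.ClassicalGeometry.AutPSL.Auto.cj A) := fun A => by
    refine ⟨cj _ (LR.gl A), cj_mem_SAut ((LR.mem_gl _).1 ⟨A, rfl⟩), fun k => ?_⟩
    change ((LR.gl A * LR.gl (Matrix.SpecialLinearGroup.toGL k) * (LR.gl A)⁻¹ : (LR (Fin n) F)ˣ) : LR (Fin n) F) =
      (LR.gl (Matrix.SpecialLinearGroup.toGL (Cfsg.Agent.ClassicalGeometry.AutPSL.Auto.cj A k)) : (LR (Fin n) F)ˣ)
    rw [← map_inv, ← map_mul, ← map_mul]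
    exact congrArg (fun B : GL (Fin n) F => (LR.gl B : LR (Fin n) F)) (Units.ext rfl)
  have hfld : ∀ σ, P (fld σ) := fun σ => by
    refine ⟨LR.fldAut σ, fun a => rfl, fun k => ?_⟩
    rw [hφ, hφ]
    have h1 : (itr (fld σ k)).1 = σ.mapMatrix (itr k).1 := by
      rw [Cfsg.Agent.ClassicalGeometry.AutPSL.Auto.coe_itr, ← map_inv]
      rfl
    rw [h1]
    rfl
  have hitr : P itr := by
    refine ⟨LR.swapAut, fun a => rfl, fun k => ?_⟩
    have h1 : itr (itr k) = k := by
      rw [← MulAut.mul_apply, Cfsg.Agent.ClassicalGeometry.AutPSL.Auto.itr_mul_itr, MulAut.one_apply]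
    rw [hφ, hφ, h1]
    rfl
  refine model_of R LR.ss hspan φ hinj hc _ ?_
  intro β _
  obtain ⟨e, he, rfl⟩ : ∃ e, P e ∧ β = lift e := by
    obtain ⟨p, hp⟩ := CharP.exists F
    have hprime : Fact p.Prime := ⟨CharP.char_is_prime F p⟩
    rcases Nat.lt_or_ge n 3 with h | h
    · obtain rfl : n = 2 := by omega
      obtain ⟨A, σ, hA⟩ := Cfsg.Agent.ClassicalGeometry.AutPSL.Main.surj_two p β
      exact ⟨_, hmul _ _ (hcj A) (hfld σ), hA⟩
    · rcases Cfsg.Agent.ClassicalGeometry.AutPSL.Main.surj_three p h β with ⟨A, σ, hA⟩ | ⟨A, σ, hA⟩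
      · exact ⟨_, hmul _ _ (hcj A) (hfld σ), hA⟩
      · exact ⟨_, hmul _ _ (hmul _ _ (hcj A) (hfld σ)) hitr, hA⟩
  obtain ⟨γ, hγ, h⟩ := he
  exact ⟨γ, mem_Aut_max rfl hγ, fun k => ⟨e k, rfl, h k⟩⟩

end Cfsg.Agent.DS.Cl.Fwd

private theorem dce_6a6ba6587ccf : _root_.True := by
  try have : _root_.True := by simp only [_root_.Cfsg.Agent.DS.Cl.FR.Span.eq_1]
  exact _root_.True.intro
end

section
prune_inst 0x10000000000000000000000000000000

-- part: DS/Cl/ModU
section
set_option linter.all false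
open scoped Cfsg.Agent.FastGrp

-- part: DS/Cl/ModSp
section
/-!
# S5881, classical groups: the model of the symplectic groups (helper12)
-/

set_option autoImplicit false

namespace Cfsg.Agent.DS.Cl.Fwd

open Cfsg Cfsg.Agent.DS.Cl Cfsg.Agent.ClassicalGeometry.SympBasic Cfsg.Agent.ClassicalGeometry.SympAutSemi
open scoped Matrix

/-- matrices as elements of the ring of a form -/
def matHom {K ι : Type} [Field K] [Fintype ι] [DecidableEq ι] (h : HF K (ι → K)) : Matrix ι ι K →* h.EB where
  toFun A := h.eb (Matrix.toLin' A)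
  map_one' := h.ap_ext fun v => Matrix.one_mulVec v
  map_mul' A B := h.ap_ext fun v => (Matrix.mulVec_mulVec v A B).symm

theorem ap_matHom {K ι : Type} [Field K] [Fintype ι] [DecidableEq ι] (h : HF K (ι → K)) (A : Matrix ι ι K)
    (v : ι → K) : h.ap (matHom h A) v = A *ᵥ v := rfl

theorem matHom_inj {K ι : Type} [Field K] [Fintype ι] [DecidableEq ι] (h : HF K (ι → K)) :
    Function.Injective (matHom h) := fun A B H => by
  rw [← Matrix.mulVec_injective.eq_iff]
  funext v
  rw [← ap_matHom h, ← ap_matHom h, H]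

theorem matHom_surj {K ι : Type} [Field K] [Fintype ι] [DecidableEq ι] (h : HF K (ι → K)) (a : h.EB) :
    matHom h (LinearMap.toMatrix' (h.ap a)) = a :=
  h.ap_ext fun v => by rw [ap_matHom, LinearMap.toMatrix'_mulVec]

/-- the symplectic form -/
def spH (m : ℕ) (F : Type) [Field F] : HF F (Fin m ⊕ Fin m → F) where
  τ := RingHom.id F
  ε := -1
  b := sympForm m F
  add_left := sympForm_add_left
  smul_left := sympForm_smul_left
  swap u v := by rw [sympForm_swap, neg_one_mul, RingHom.id_apply]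
  τ_τ _ := rfl
  nondeg _ := eq_zero_of_forall_sympForm_left

theorem boxModSp : BoxModSp := by
  intro F _ _ m hm hm2
  have hnt : Nontrivial (Fin m ⊕ Fin m → F) := by
    have : Nonempty (Fin m ⊕ Fin m) := ⟨Sum.inl ⟨0, by omega⟩⟩
    infer_instance
  let h := spH m F
  obtain ⟨β, hβ⟩ := exists_half (sympBilin m F) (fun v => sympForm_self v)
  obtain ⟨l, hl⟩ := h.exists_op (fun _ => rfl) β
  have hll : l + star l = 1 := h.ap_ext fun v => h.ext_right fun u => by
    rw [h.ap_add, h.add_right, h.b_star, hl, h.swap v (h.ap l u), hl, h.ap_one]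
    change β u v + -1 * β v u = sympBilin m F u v
    rw [← hβ]
    ring
  let R : FR h.EB := ⟨l, Lmax h.EB, hll, Or.inr rfl⟩
  let φ : Matrix.symplecticGroup (Fin m) F →* h.EBˣ :=
    ((matHom h).comp (Matrix.symplecticGroup (Fin m) F).subtype).toHomUnits
  have hφ : ∀ A v, h.ap (φ A) v = (A : Matrix _ _ F) *ᵥ v := fun A v => rfl
  have hinj : Function.Injective φ := fun A B H => Subtype.ext (matHom_inj h (congrArg Units.val H))
  have hr : φ.range = R.Iso := by
    ext u
    constructor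
    · rintro ⟨A, rfl⟩
      exact mem_Iso_max rfl ((h.unit_iff _).2 fun x y => sympForm_mulVec A.2 x y)
    · intro hu
      have h1 := (h.unit_iff u).1 hu.1
      refine ⟨⟨LinearMap.toMatrix' (h.ap u), mem_symplecticGroup_iff.2 fun x y => ?_⟩, Units.ext (matHom_surj h u)⟩
      rw [LinearMap.toMatrix'_mulVec, LinearMap.toMatrix'_mulVec]
      exact h1 x y
  have hperf : commutator (Matrix.symplecticGroup (Fin m) F) = ⊤ := by
    refine Cfsg.Agent.LieClassical.SympPerfect.commutator_eq_top ?_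
    rcases (by omega : m = 2 ∨ 3 ≤ m) with h | h
    · exact Or.inr (Or.inl ⟨h, hm2 h⟩)
    · exact Or.inl h
  have hc : φ.range = ⁅R.Iso, R.Iso⁆ := by
    rw [← hr, comm_range, hperf, ← MonoidHom.range_eq_map]
  have hspan : R.Span := by
    refine h.span_top _ (fun c => Subring.subset_closure (Or.inl (h.smul_mem_center c))) {x | x ≠ 0}
      (exists_ne 0) (fun x hx => hx) (fun x _ => ?_) (fun x _ v hv => ⟨0, ?_, by rwa [zero_smul, add_zero]⟩)
    · have e : h.eb (h.ro x x) = (φ (transv x 1) : h.EB) - 1 := h.ap_ext fun v => by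
        rw [h.ap_sub, hφ, h.ap_one, h.ap_eb, h.ro_apply]
        change _ = sympTransvection m x 1 *ᵥ v - v
        rw [sympTransvection_mulVec, one_mul, add_sub_cancel_left]
        rfl
      rw [e]
      refine Subring.sub_mem _ (Subring.subset_closure (Or.inr ⟨φ (transv x 1), ?_, rfl⟩)) (Subring.one_mem _)
      rw [← hc]
      exact ⟨_, rfl⟩
    · rw [zero_smul, add_zero]
      rintro rfl
      exact hv (h.zero_left x)
  refine model_of R h.ss hspan φ hinj hc _ ?_
  rintro _ ⟨g, rfl⟩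
  obtain ⟨σ, c, -, hg⟩ := g.2
  refine ⟨h.semiAut g.1 σ hg.1 hg.2.1, mem_Aut_max rfl (h.semiAut_mem g.1 σ hg.1 hg.2.1 hg.2.2),
    fun A => ⟨Cfsg.Agent.ClassicalGeometry.SympAutSemi.conjHom m F g A, Psi_mk g A, h.ap_ext fun v => ?_⟩⟩
  obtain ⟨v, rfl⟩ := g.1.surjective v
  rw [h.ap_semiAut, hφ, hφ, ← rho_apply, ← rho_apply, rho_conjHom, Equiv.Perm.mul_apply, Equiv.Perm.mul_apply,
    perm_inv_apply_self]

end Cfsg.Agent.DS.Cl.Fwd
end

-- part: DS/Cl/ModU
section
/-!
# S5881, classical groups: the model of the unitary groups (helper12)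
-/

set_option autoImplicit false

namespace Cfsg.Agent.DS.Cl.Fwd

open Cfsg Cfsg.Agent.DS.Cl Cfsg.Agent.LieClassical.HermBasic Cfsg.Agent.LieClassical.HermSiegel
open Cfsg.Agent.ClassicalGeometry.PSUAutCount (gm semiConj toAut act_semiConj herm_semi gm_inv_mulVec gm_mulVec_inv
  toAut_pr)
open scoped Matrix commutatorElement

/-- the hermitian form -/
def unH (n : ℕ) {F : Type} [Field F] [Fintype F] {q : ℕ} (hF : Fintype.card F = q ^ 2) : HF F (Fin n → F) where
  τ := (conj hF : F →+* F)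
  ε := 1
  b := hermForm n F q
  add_left := herm_add_left
  smul_left := herm_smul_left
  swap u v := by rw [one_mul, herm_swap hF u v]; rfl
  τ_τ c := pow_q_pow_q hF c
  nondeg _ H := herm_nondeg hF fun v => herm_eq_zero_swap hF (H v)

/-- the determinant of a unit -/
noncomputable def detU {K V : Type} [Field K] [AddCommGroup V] [Module K V] (h : HF K V) : h.EBˣ →* Kˣ :=
  Units.map (LinearMap.det (A := K) (M := V))

theorem detU_val {K V : Type} [Field K] [AddCommGroup V] [Module K V] (h : HF K V) (u : h.EBˣ) :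
    (detU h u : K) = LinearMap.det (h.ap u) := rfl

theorem boxModU : BoxModU := by
  intro F _ _ n q hF hn h32
  have hnt : Nontrivial (Fin n → F) := by
    have : Nonempty (Fin n) := ⟨⟨0, by omega⟩⟩
    infer_instance
  let h := unH n hF
  obtain ⟨c, hc1⟩ := exists_trace_eq hF (one_pow q)
  have hll : h.eb (c • 1) + star (h.eb (c • 1)) = 1 := h.ap_ext fun v => h.ext_right fun u => by
    rw [h.ap_add, h.add_right, h.b_star, h.ap_one, h.ap_eb, LinearMap.smul_apply, LinearMap.smul_apply,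
      h.smul_right, h.smul_left]
    change c ^ q * h.b u v + c * h.b u v = h.b u v
    rw [← add_mul, add_comm, hc1, one_mul]
  let R : FR h.EB := ⟨h.eb (c • 1), Lmax h.EB, hll, Or.inr rfl⟩
  let φ₀ : SU n F q →* Matrix (Fin n) (Fin n) F := ⟨⟨mat, mat_one⟩, mat_mul⟩
  let φ : SU n F q →* h.EBˣ := ((matHom h).comp φ₀).toHomUnits
  have hφ : ∀ A v, h.ap (φ A) v = act A v := fun A v => rfl
  have hinj : Function.Injective φ := fun A B H => mat_injective (matHom_inj h (congrArg Units.val H))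
  have hle : φ.range ≤ R.Iso := by
    rintro _ ⟨A, rfl⟩
    exact mem_Iso_max rfl ((h.unit_iff _).2 fun x y => herm_act A x y)
  have hc : φ.range = ⁅R.Iso, R.Iso⁆ := by
    apply le_antisymm
    · have e : φ.range = ⁅φ.range, φ.range⁆ := by
        rw [comm_range, Cfsg.Agent.LieClassical.HermPerfect.commutator_SU_eq_top hF hn h32,
          ← MonoidHom.range_eq_map]
      rw [e]
      exact Subgroup.commutator_mono hle hle
    · rw [Subgroup.commutator_le]
      intro a ha b hb
      have hu : ⁅a, b⁆ ∈ R.Iso := by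
        rw [commutatorElement_def]
        exact mul_mem (mul_mem (mul_mem ha hb) (inv_mem ha)) (inv_mem hb)
      have hd : detU h ⁅a, b⁆ = 1 := by
        rw [map_commutatorElement, commutatorElement_eq_one_iff_mul_comm, mul_comm]
      have h1 := (h.unit_iff _).1 hu.1
      refine ⟨mkSU (LinearMap.toMatrix' (h.ap (⁅a, b⁆ : h.EBˣ))) ?_ fun x y => ?_, Units.ext (matHom_surj h _)⟩
      · rw [LinearMap.det_toMatrix', ← detU_val, hd, Units.val_one]
      · rw [LinearMap.toMatrix'_mulVec, LinearMap.toMatrix'_mulVec]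
        exact h1 x y
  have hspan : R.Span := by
    obtain ⟨e, f, H⟩ := Cfsg.Agent.ClassicalGeometry.PSUAutBasic.exists_frame (F := F) (q := q) (n := n) hF (by omega)
    have he : e ≠ 0 := by
      rintro rfl
      exact zero_ne_one ((herm_zero_left f).symm.trans H.ef)
    obtain ⟨μ, hμ0, hμ⟩ := exists_trace_zero_ne hF
    refine h.span_top _ (fun c => Subring.subset_closure (Or.inl (h.smul_mem_center c)))
      {x | x ≠ 0 ∧ hermForm n F q x x = 0} ⟨e, he, H.ee⟩
      (fun x hx => hx.1) (fun x hx => ?_) (fun x hx v hv => ?_)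
    · have hs : IsSiegel q x 0 μ := ⟨hx.2, herm_zero_left x, by rw [herm_zero_left, add_zero, hμ]⟩
      have e1 : h.eb (h.ro x x) = h.eb (μ⁻¹ • 1) * ((φ (siegel hF x 0 μ hs) : h.EB) - 1) := h.ap_ext fun v => by
        rw [h.ap_mul, h.ap_sub, hφ, h.ap_one, h.ap_eb, h.ap_eb, h.ro_apply, act_siegel, smul_zero, add_zero,
          herm_zero_right hF, sub_zero, add_sub_cancel_left, LinearMap.smul_apply, Module.End.one_apply, smul_smul,
          ← mul_assoc, inv_mul_cancel₀ hμ0, one_mul]
        rfl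
      rw [e1]
      refine Subring.mul_mem _ (Subring.subset_closure (Or.inl (h.smul_mem_center _))) (Subring.sub_mem _
        (Subring.subset_closure (Or.inr ⟨φ (siegel hF x 0 μ hs), ?_, rfl⟩)) (Subring.one_mem _))
      rw [← hc]
      exact ⟨_, rfl⟩
    · have hv' : hermForm n F q v x ≠ 0 := hv
      have hxv : hermForm n F q x v ≠ 0 := h.ne_swap hv
      obtain ⟨t, ht⟩ := exists_trace_eq hF (c := -hermForm n F q v v) (by rw [neg_pow_q hF, herm_self_pow hF])
      have h1 : hermForm n F q (v + (t / hermForm n F q x v) • x) x = hermForm n F q v x := by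
        rw [herm_add_left, herm_smul_left, hx.2, mul_zero, add_zero]
      refine ⟨t / hermForm n F q x v, ⟨fun h0 => hv' ?_, ?_⟩, fun h0 => hv' (h1.symm.trans h0)⟩
      · rw [← h1, h0, herm_zero_left]
      · rw [herm_add_right hF, herm_smul_right, h1, herm_add_left, herm_smul_left, div_mul_cancel₀ _ hxv,
          herm_swap hF x v, ← mul_pow, div_mul_cancel₀ _ hxv, add_assoc, ht, add_neg_cancel]
  refine model_of R h.ss hspan φ hinj hc _ ?_
  intro β _
  obtain ⟨A, ρ, rfl⟩ := Cfsg.Agent.ClassicalGeometry.PSUAutMain.exists_toAut hF hn h32 β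
  let g : Equiv.Perm (Fin n → F) :=
    { toFun := fun x => gm A *ᵥ fun i => ρ (x i)
      invFun := fun y j => ρ.symm ((gm A⁻¹ *ᵥ y) j)
      left_inv := fun x => by
        funext j
        change ρ.symm ((gm A⁻¹ *ᵥ (gm A *ᵥ fun i => ρ (x i))) j) = x j
        rw [gm_inv_mulVec, ρ.symm_apply_apply]
      right_inv := fun y => by
        simp only [RingEquiv.apply_symm_apply]
        exact gm_mulVec_inv A y }
  have ha : ∀ u v, g (u + v) = g u + g v := fun u v => by
    change gm A *ᵥ _ = gm A *ᵥ _ + gm A *ᵥ _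
    rw [← Matrix.mulVec_add]
    congr 1
    funext i
    exact map_add ρ _ _
  have hs : ∀ (c : F) v, g (c • v) = ρ c • g v := fun c v => by
    change gm A *ᵥ _ = ρ c • gm A *ᵥ _
    rw [← Matrix.mulVec_smul]
    congr 1
    funext i
    exact map_mul ρ _ _
  refine ⟨h.semiAut g ρ ha hs, mem_Aut_max rfl (h.semiAut_mem g ρ ha hs (c := 1) fun u v => ?_),
    fun k => ⟨semiConj A ρ k, toAut_pr A ρ k, h.ap_ext fun v => ?_⟩⟩
  · rw [one_mul]
    exact herm_semi A ρ u v
  · obtain ⟨v, rfl⟩ := g.surjective v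
    rw [h.ap_semiAut, hφ, hφ]
    exact (act_semiConj A ρ k v).symm

end Cfsg.Agent.DS.Cl.Fwd
end
end

-- part: DS/Cl/ModO
section
set_option linter.all false
open scoped Cfsg.Agent.FastGrp

/-!
# S5881, classical groups: the model of the orthogonal groups (helper12)
-/

set_option autoImplicit false

namespace Cfsg.Agent.DS.Cl.Fwd

open Cfsg Cfsg.Agent.DS.Cl QuadraticMap Cfsg.Agent.LieClassical.OrthCore Cfsg.Agent.LieClassical.OrthTrans
  Cfsg.Agent.ClassicalGeometry.OrthSemi

/-- the polar form -/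
def orH {F V : Type} [Field F] [AddCommGroup V] [Module F V] (Q : QuadraticForm F V) (hQ : Nondeg Q) : HF F V where
  τ := RingHom.id F
  ε := 1
  b := polar Q
  add_left := polar_add_left Q
  smul_left c u v := polar_smul_left Q c u v
  swap u v := by rw [one_mul, RingHom.id_apply, polar_comm]
  τ_τ _ := rfl
  nondeg v H := hQ v fun y => by rw [polar_comm, H]

/-- the minimal form parameter -/
theorem mem_Lmin_iff {F V : Type} [Field F] [Finite F] [AddCommGroup V] [Module F V] [Finite V]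
    (Q : QuadraticForm F V) (hQ : Nondeg Q) (x : (orH Q hQ).EB) :
    x ∈ Lmin (orH Q hQ).EB ↔ ∀ v, polar Q v ((orH Q hQ).ap x v) = 0 := by
  have : Module.Finite F V := Module.Finite.of_finite
  let h := orH Q hQ
  constructor
  · rintro ⟨a, rfl⟩ v
    change h.b v (h.ap (a - star a) v) = 0
    rw [h.ap_sub, h.sub_right, h.b_star, h.swap v (h.ap a v)]
    change polar Q v (h.ap a v) - 1 * polar Q v (h.ap a v) = 0
    ring
  · intro H
    obtain ⟨β, hβ⟩ := exists_half ((polarBilin Q).compl₂ (h.ap x)) H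
    obtain ⟨a, ha⟩ := h.exists_op (fun _ => rfl) β
    refine ⟨a, h.ap_ext fun v => h.ext_right fun u => ?_⟩
    rw [h.ap_sub, h.sub_right, h.b_star, ha, h.swap v (h.ap a u), ha]
    change polar Q u (h.ap x v) = β u v - 1 * β v u
    rw [one_mul, hβ]
    rfl

theorem boxModO : BoxModO := by
  intro F V _ _ _ _ _ Q hG
  have : Module.Finite F V := Module.Finite.of_finite
  obtain ⟨x₀, hx₀, hQx₀⟩ := hG.sing
  have hnt : Nontrivial V := ⟨x₀, 0, hx₀⟩
  let h := orH Q hG.nondeg
  obtain ⟨β, hβ⟩ := LinearMap.BilinMap.toQuadraticMap_surjective Q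
  obtain ⟨l, hl⟩ := h.exists_op (fun _ => rfl) β
  have hlQ : ∀ v, polar Q v (h.ap l v) = Q v := fun v => by
    rw [← hβ]
    rw [LinearMap.BilinMap.toQuadraticMap_apply, hβ]
    exact hl v v
  have hll : l + star l = 1 := h.ap_ext fun v => h.ext_right fun u => by
    rw [h.ap_add, h.add_right, h.b_star, hl, h.swap v (h.ap l u), hl, h.ap_one]
    change β u v + 1 * β v u = polar Q u v
    rw [one_mul, ← hβ, LinearMap.BilinMap.polar_toQuadraticMap]
  let R : FR h.EB := ⟨l, Lmin h.EB, hll, Or.inl rfl⟩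
  let ψ₀ : (V ≃ₗ[F] V) →* h.EB :=
    { toFun := fun g => h.eb g
      map_one' := rfl
      map_mul' := fun _ _ => rfl }
  let ψ : (V ≃ₗ[F] V) →* h.EBˣ := ψ₀.toHomUnits
  have hψ : ∀ g v, h.ap (ψ g) v = g v := fun g v => rfl
  have hinj : Function.Injective ψ := fun g g' H => LinearEquiv.ext fun v => by rw [← hψ, ← hψ, H]
  have hr : (O Q).map ψ = R.Iso := by
    ext u
    constructor
    · rintro ⟨g, hg, rfl⟩
      have hg' : ∀ v, Q (g v) = Q v := hg
      have h1 : ∀ x y, h.b (h.ap (ψ g) x) (h.ap (ψ g) y) = h.b x y := fun x y => by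
        change polar Q (g x) (g y) = polar Q x y
        simp only [polar, ← map_add, hg']
      have h2 := (h.unit_iff _).2 h1
      refine ⟨h2, (mem_Lmin_iff Q hG.nondeg _).2 fun v => ?_⟩
      change h.b v (h.ap (ψ g * l * star (ψ g : h.EB) - l) v) = 0
      rw [h.ap_sub, h.sub_right, h.ap_mul, h.ap_mul, ← h.star_b]
      change polar Q _ _ - polar Q _ _ = 0
      rw [hlQ, hlQ, ← hg', ← hψ, ← h.ap_mul, h2, h.ap_one, sub_self]
    · intro hu
      have h1 := (mem_Lmin_iff Q hG.nondeg _).1 hu.2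
      let g : V ≃ₗ[F] V := LinearEquiv.ofLinearMap (h.ap u) (h.ap (u⁻¹ : h.EBˣ))
        (LinearMap.ext fun v => by rw [LinearMap.comp_apply, ← h.ap_mul, Units.mul_inv]; rfl)
        (LinearMap.ext fun v => by rw [LinearMap.comp_apply, ← h.ap_mul, Units.inv_mul]; rfl)
      refine ⟨g, fun v => ?_, Units.ext (h.ap_ext fun v => rfl)⟩
      have h2 : h.b (h.ap u v) (h.ap (u * l * star (u : h.EB) - l) (h.ap u v)) = 0 := h1 (h.ap u v)
      have h3 : star (u : h.EB) * u = 1 := by
        have h4 : star (u : h.EB) = (u⁻¹ : h.EBˣ) := Units.eq_inv_of_mul_eq_one_left hu.1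
        rw [h4, Units.inv_mul]
      rw [h.ap_sub, h.sub_right, h.ap_mul, h.ap_mul, ← h.star_b, ← h.ap_mul (star (u : h.EB)), h3, h.ap_one] at h2
      change polar Q _ _ - polar Q _ _ = 0 at h2
      rw [hlQ, hlQ, sub_eq_zero] at h2
      exact h2.symm
  let φ : E Q →* h.EBˣ := ψ.comp (E Q).subtype
  have hc : φ.range = ⁅R.Iso, R.Iso⁆ := by
    rw [← hr, ← Subgroup.map_commutator, hG.commutator_eq_E, MonoidHom.range_comp, Subgroup.range_subtype]
  have hspan : R.Span := by
    refine h.span_top _ (fun c => Subring.subset_closure (Or.inl (h.smul_mem_center c))) {x | x ≠ 0 ∧ Q x = 0}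
      ⟨x₀, hx₀, hQx₀⟩ (fun x hx => hx.1) (fun x hx => ?_) (fun x hx v hv => ?_)
    · obtain ⟨y, hy⟩ := exists_hyp hG.nondeg hx.2 hx.1
      obtain ⟨z, w, hzw, h1, h2, -, -⟩ := hG.exists_hyp2 hy
      have hmem : ∀ (s : V) (hs : polar Q x s = 0), (ψ (siegel Q x s hx.2 hs) : h.EB) - 1 ∈
          Subring.closure ((Subring.center h.EB : Set h.EB) ∪
            ((fun u : h.EBˣ => (u : h.EB)) '' (⁅R.Iso, R.Iso⁆ : Subgroup h.EBˣ))) := fun s hs => by
        refine Subring.sub_mem _ (Subring.subset_closure (Or.inr ⟨ψ (siegel Q x s hx.2 hs), ?_, rfl⟩))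
          (Subring.one_mem _)
        rw [← hc]
        exact ⟨⟨_, siegel_mem_E hx.2 hs⟩, rfl⟩
      have hxx : polar Q x x = 0 := by rw [polar_self, hx.2, smul_zero]
      have hN : ∀ (s : V) (hs : polar Q x s = 0), Q s = 0 → ∀ v,
          h.ap ((ψ (siegel Q x s hx.2 hs) : h.EB) - 1) v = polar Q x v • s - polar Q s v • x := fun s hs hQs v => by
        rw [h.ap_sub, hψ, h.ap_one, siegel_apply, hQs, zero_mul, zero_smul]
        abel
      have e : h.eb (h.ro x x) = -(((ψ (siegel Q x z hx.2 h1) : h.EB) - 1) * ((ψ (siegel Q x w hx.2 h2) : h.EB) - 1)) := by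
        rw [eq_neg_iff_add_eq_zero]
        apply h.ap_ext
        intro v
        rw [h.ap_add, h.ap_mul, hN z h1 hzw.left, hN w h2 hzw.right, h.ap_eb, h.ro_apply, polar_sub_right,
          polar_sub_right, polar_smul_right, polar_smul_right, polar_smul_right, polar_smul_right, h2, hxx,
          hzw.pair, polar_comm Q z x, h1]
        change polar Q v x • x + _ = (0 : V)
        rw [polar_comm Q v x]
        simp
      rw [e]
      exact Subring.neg_mem _ (Subring.mul_mem _ (hmem z h1) (hmem w h2))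
    · have hv' : polar Q v x ≠ 0 := hv
      have hxx : polar Q x x = 0 := by rw [polar_self, hx.2, smul_zero]
      have h1 : polar Q (v + (-(Q v) / polar Q v x) • x) x = polar Q v x := by
        rw [polar_add_left, polar_smul_left, hxx, smul_zero, add_zero]
      refine ⟨-(Q v) / polar Q v x, ⟨fun h0 => hv' ?_, ?_⟩, fun h0 => hv' (h1.symm.trans h0)⟩
      · rw [← h1, h0, polar_zero_left]
      · rw [QuadraticMap.map_add (⇑Q), QuadraticMap.map_smul, hx.2, smul_zero, add_zero, polar_smul_right,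
          smul_eq_mul]
        field_simp
        ring
  refine model_of R h.ss hspan φ (hinj.comp Subtype.val_injective) hc _ ?_
  rintro _ ⟨g, rfl⟩
  obtain ⟨σ, c, hg⟩ := g.2
  refine ⟨h.semiAut g.1 σ hg.add hg.smul, ⟨h.semiAut_mem g.1 σ hg.add hg.smul hg.polar,
    (mem_Lmin_iff Q hG.nondeg _).2 fun v => ?_⟩, fun k => ⟨conjE Q g k, Psi_mk g k, h.ap_ext fun v => ?_⟩⟩
  · obtain ⟨v, rfl⟩ := g.1.surjective v
    change h.b (g.1 v) (h.ap (h.semiAut g.1 σ hg.add hg.smul l - l) (g.1 v)) = 0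
    rw [h.ap_sub, h.sub_right, h.ap_semiAut]
    change polar Q _ _ - polar Q _ _ = 0
    rw [hg.polar, hlQ, hlQ, hg.form, sub_self]
  · obtain ⟨v, rfl⟩ := g.1.surjective v
    rw [h.ap_semiAut]
    exact (conjLin_apply' g k.1 v).symm

end Cfsg.Agent.DS.Cl.Fwd
end

-- part: DS/Cl/TV
section
set_option linter.all false
open scoped Cfsg.Agent.FastGrp

/-!
# S5881, classical groups: symplectic groups are generated by transvections (`BoxTV`, helper93)
-/

set_option autoImplicit false

namespace Cfsg.Agent.DS.Cl.NCTV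

open Module Cfsg.Agent.DS.Cl

section gen

variable {K V : Type} [Field K] [AddCommGroup V] [Module K V]

theorem alt_skew {b : LinearMap.BilinForm K V} (ha : ∀ v, b v v = 0) (v w : V) : b w v = -b v w :=
  eq_neg_of_add_eq_zero_right (polar (σ := RingHom.id K) (x := 1) ha v w)

theorem tv_apply (b : LinearMap.BilinForm K V) (c : K) (d w : V) :
    (1 + rk (σ := RingHom.id K) b c d) w = w + (c * b d w) • d := by
  rw [LinearMap.add_apply, Module.End.one_apply, rk_apply]

theorem tv_iso {b : LinearMap.BilinForm K V} (ha : ∀ v, b v v = 0) (c : K) (d : V) {g : End K V}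
    (hg : ∀ v w, b (g v) (g w) = b v w) (v w : V) :
    b (((1 + rk (σ := RingHom.id K) b c d) * g) v) (((1 + rk (σ := RingHom.id K) b c d) * g) w) = b v w := by
  rw [Module.End.mul_apply, Module.End.mul_apply, tv_apply, tv_apply]
  simp only [map_add, map_smul, LinearMap.add_apply, LinearMap.smul_apply,
    smul_eq_mul, ha, hg, alt_skew ha d (g v)]
  ring

theorem exists_two {φ ψ : V →ₗ[K] K} (hφ : ∃ v, φ v ≠ 0) (hψ : ∃ v, ψ v ≠ 0) : ∃ v, φ v ≠ 0 ∧ ψ v ≠ 0 := by
  obtain ⟨v, hv⟩ := hφ
  obtain ⟨w, hw⟩ := hψ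
  by_cases h1 : ψ v = 0
  · by_cases h2 : φ w = 0
    · exact ⟨v + w, by rwa [map_add, h2, add_zero], by rwa [map_add, h1, zero_add]⟩
    · exact ⟨w, h2, hw⟩
  · exact ⟨v, hv, h1⟩

variable [FiniteDimensional K V]

/-- induction principle: isometries of a non-degenerate alternating form are products of transvections -/
theorem tv_induction {b : LinearMap.BilinForm K V} (ha : ∀ v, b v v = 0) (hb : b.SeparatingLeft)
    (P : End K V → Prop) (h1 : P 1)
    (hP : ∀ (c : K) (d : V) (g : End K V), c ≠ 0 → d ≠ 0 → P ((1 + rk (σ := RingHom.id K) b c d) * g) → P g)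
    (g : End K V) (hg : ∀ v w, b (g v) (g w) = b v w) : P g := by
  have key : ∀ (k : ℕ) (g : End K V), (∀ v w, b (g v) (g w) = b v w) →
      finrank K V - finrank K (LinearMap.ker (g - 1)) = k → P g := by
    intro k
    induction k using Nat.strong_induction_on with
    | _ k ih =>
      have hfix : ∀ {g : End K V} {w : V}, w ∈ LinearMap.ker (g - 1) ↔ g w = w := by
        intro g w
        rw [LinearMap.mem_ker, LinearMap.sub_apply, Module.End.one_apply, sub_eq_zero]
      have hle : ∀ (g : End K V), (∀ v w, b (g v) (g w) = b v w) → ∀ (c : K) (x : V),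
          LinearMap.ker (g - 1) ≤ LinearMap.ker ((1 + rk (σ := RingHom.id K) b c (g x - x)) * g - 1) := by
        intro g hg c x w hw
        rw [hfix] at hw ⊢
        have h2 : b (g x - x) w = 0 := by
          rw [map_sub, LinearMap.sub_apply, sub_eq_zero]
          conv_lhs => rw [← hw]
          exact hg x w
        rw [Module.End.mul_apply, hw, tv_apply, h2, mul_zero, zero_smul, add_zero]
      -- the non-hyperbolic case
      have step : ∀ (g : End K V), (∀ v w, b (g v) (g w) = b v w) →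
          finrank K V - finrank K (LinearMap.ker (g - 1)) ≤ k → ∀ v, b v (g v) ≠ 0 → P g := by
        intro g hg hk v hv
        have h2 : g v - v ≠ 0 := fun h => hv (by rw [sub_eq_zero.1 h, ha])
        refine hP (b v (g v))⁻¹ (g v - v) g (inv_ne_zero hv) h2 ?_
        refine ih _ ?_ _ (tv_iso ha _ _ hg) rfl
        have h3 : LinearMap.ker (g - 1) <
            LinearMap.ker ((1 + rk (σ := RingHom.id K) b (b v (g v))⁻¹ (g v - v)) * g - 1) := by
          refine lt_of_le_of_ne (hle g hg _ v) fun h => h2 ?_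
          have h4 : v ∈ LinearMap.ker (g - 1) := by
            rw [h, hfix, Module.End.mul_apply, tv_apply, map_sub, LinearMap.sub_apply, ha, zero_sub, mul_neg,
              inv_mul_cancel₀ hv, neg_one_smul]
            abel
          exact sub_eq_zero.2 (hfix.1 h4)
        have h4 := Submodule.finrank_lt_finrank_of_lt h3
        have h5 := Submodule.finrank_le
          (LinearMap.ker ((1 + rk (σ := RingHom.id K) b (b v (g v))⁻¹ (g v - v)) * g - 1))
        omega
      intro g hg hk
      by_cases h2 : ∃ v, b v (g v) ≠ 0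
      · obtain ⟨v, hv⟩ := h2
        exact step g hg hk.le v hv
      push Not at h2
      by_cases h3 : ∀ x, g x = x
      · rwa [show g = 1 from LinearMap.ext h3]
      push Not at h3
      obtain ⟨x, hx⟩ := h3
      have h4 : g x - x ≠ 0 := sub_ne_zero.2 hx
      have h5 : ∃ w, b (g x - x) w ≠ 0 := by
        by_contra hc
        push Not at hc
        exact h4 (hb _ hc)
      have hinj : Function.Injective g := by
        rw [injective_iff_map_eq_zero]
        intro v hv
        exact hb v fun w => by rw [← hg, hv, map_zero, LinearMap.zero_apply]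
      have h6 : ∃ w, (b (g x - x) ∘ₗ g) w ≠ 0 := by
        obtain ⟨w, hw⟩ := h5
        obtain ⟨w, rfl⟩ := LinearMap.injective_iff_surjective.1 hinj w
        exact ⟨w, hw⟩
      obtain ⟨v, h7, h8⟩ := exists_two h5 h6
      refine hP 1 (g x - x) g one_ne_zero h4 (step _ (tv_iso ha _ _ hg) ?_ v ?_)
      · have h9 := Submodule.finrank_mono (hle g hg 1 x)
        omega
      · rw [Module.End.mul_apply, tv_apply, map_add, h2, zero_add, map_smul, one_mul, smul_eq_mul,
          alt_skew ha (g x - x) v]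
        exact mul_ne_zero h8 (neg_ne_zero.2 h7)
  exact key _ g hg rfl

end gen

variable {A : Type} [Ring A] [StarRing A]

omit [StarRing A] in
theorem scal_cen {K V : Type} [Field K] [AddCommGroup V] [Module K V] (e : A ≃+* End K V) (c : K) :
    e.symm (c • (1 : End K V)) ∈ Subring.center A := by
  refine Subring.mem_center_iff.2 fun a => e.injective ?_
  rw [map_mul, map_mul, e.apply_symm_apply, mul_smul_comm, smul_mul_assoc, mul_one, one_mul]

theorem boxTV : BoxTV := by
  intro A _ _ _ h h2 hc hl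
  have := h.1
  rcases exists_model h with h1 | h1 | h1
  · exfalso
    obtain ⟨K, _, _, n, π, hn, hπ⟩ := h1
    obtain ⟨c, hc1, hc2, -, -⟩ := eps_L π hπ
    rw [hc c hc1, ← two_mul, h2, zero_mul] at hc2
    exact zero_ne_one hc2
  · exfalso
    obtain ⟨K, _, _, n, e, σ, b, hn, hσ, -, -, hb, hadj⟩ := h1
    have : Nonempty (Fin n) := ⟨⟨0, hn⟩⟩
    obtain ⟨v, hv⟩ := exists_ne (0 : Fin n → K)
    refine hσ (RingHom.ext fun a => ?_)
    by_contra ha
    refine hv (hb v fun w => ?_)
    have h3 := hadj (e.symm (a • 1)) v w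
    rw [hc _ (scal_cen e a), e.apply_symm_apply] at h3
    simp only [LinearMap.smul_apply, Module.End.one_apply, map_smulₛₗ, smul_eq_mul, RingHom.id_apply] at h3
    rw [← sub_eq_zero, ← sub_mul] at h3
    exact (mul_eq_zero.1 h3).resolve_left (sub_ne_zero.2 ha)
  obtain ⟨K, _, _, n, e, b, hn, hs, hb, hadj⟩ := h1
  have : Nonempty (Fin n) := ⟨⟨0, hn⟩⟩
  obtain ⟨v₀, hv₀⟩ := exists_ne (0 : Fin n → K)
  have hK : ∀ a : K, -a = a := by
    intro a
    have h3 : (2 : End K (Fin n → K)) = 0 := by rw [← map_ofNat e 2, h2, map_zero]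
    have h4 : (2 : K) • v₀ = 0 := by
      have := LinearMap.congr_fun h3 v₀
      rwa [Module.End.ofNat_apply, LinearMap.zero_apply, ← Nat.cast_smul_eq_nsmul K] at this
    have h5 : (2 : K) = 0 := (smul_eq_zero.1 h4).resolve_right hv₀
    rw [neg_eq_iff_add_eq_zero, ← two_mul, h5, zero_mul]
  have hs' : ∀ v w, RingHom.id K (b v w) = 1 * b w v := by
    intro v w
    rw [one_mul, RingHom.id_apply]
    rcases hs with hs | hs
    · exact hs w v
    · rw [hs w v, hK]
  have ha : ∀ v, b v v = 0 := by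
    intro v
    obtain ⟨l, hl⟩ := hl
    have h3 : v = e l v + e (star l) v := by
      rw [← LinearMap.add_apply, ← map_add, hl, map_one, Module.End.one_apply]
    have h4 := hs' (e l v) v
    rw [one_mul, RingHom.id_apply] at h4
    calc b v v = b v (e l v) + b v (e (star l) v) := by rw [← map_add, ← h3]
      _ = 0 := by rw [← hadj, h4, ← neg_eq_iff_add_eq_zero, hK]
  have hrk : ∀ (c : K) (d : Fin n → K), c ≠ 0 → d ≠ 0 → Rk1 (e.symm (rk (σ := RingHom.id K) b c d)) := by
    intro c d hc0 hd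
    refine ⟨fun h0 => hd (hb d fun w => ?_), ?_, fun a => ⟨_, scal_cen e (c * b d (e a d)), e.injective ?_⟩⟩
    · have h3 := LinearMap.congr_fun (e.symm.map_eq_zero_iff.1 h0) w
      rw [rk_apply, LinearMap.zero_apply] at h3
      exact (mul_eq_zero.1 ((smul_eq_zero.1 h3).resolve_right hd)).resolve_left hc0
    · rw [star_rk hb one_ne_zero hs' e hadj, RingHom.id_apply, mul_one]
    · rw [map_mul, map_mul, map_mul, e.apply_symm_apply, e.apply_symm_apply, rk_mul, smul_mul_assoc, one_mul, rk, rk,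
        smul_smul]
      congr 1
      ring
  refine ⟨⟨_, hrk 1 v₀ one_ne_zero hv₀⟩, fun u hu => ?_⟩
  refine tv_induction ha hb
    (fun g => ∀ u : Aˣ, e u = g → u ∈ Subgroup.closure {t : Aˣ | ∃ s, Rk1 s ∧ (t : A) = 1 + s}) ?_ ?_ (e u) ?_ u rfl
  · intro u hu
    rw [show u = 1 from Units.ext (e.injective (by rw [hu, Units.val_one, map_one]))]
    exact Subgroup.one_mem _
  · intro c d g hc0 hd hP u hu
    have h3 : (1 + e.symm (rk (σ := RingHom.id K) b c d)) * (1 - e.symm (rk (σ := RingHom.id K) b c d)) = 1 := by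
      have h4 : e.symm (rk (σ := RingHom.id K) b c d) * e.symm (rk (σ := RingHom.id K) b c d) = 0 := by
        apply e.injective
        have h5 := rk_mul (σ := RingHom.id K) b c c d 1
        rw [mul_one, Module.End.one_apply, ha, mul_zero] at h5
        rw [map_mul, e.apply_symm_apply, h5, map_zero, rk, zero_smul]
      calc _ = 1 - e.symm (rk (σ := RingHom.id K) b c d) * e.symm (rk (σ := RingHom.id K) b c d) := by noncomm_ring
        _ = 1 := by rw [h4, sub_zero]
    obtain ⟨t, ht⟩ : IsUnit (1 + e.symm (rk (σ := RingHom.id K) b c d)) := IsUnit.of_mul_eq_one _ h3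
    have h4 : t ∈ Subgroup.closure {t : Aˣ | ∃ s, Rk1 s ∧ (t : A) = 1 + s} :=
      Subgroup.subset_closure ⟨_, hrk c d hc0 hd, ht⟩
    have h5 := hP (t * u) (by rw [Units.val_mul, map_mul, ht, hu, map_add, map_one, e.apply_symm_apply])
    exact (Subgroup.mul_mem_cancel_left _ h4).1 h5
  · intro v w
    have h3 : star (u : A) * u = 1 := mul_eq_one_comm.1 hu
    rw [hadj, ← Module.End.mul_apply, ← map_mul, h3, map_one, Module.End.one_apply]

end Cfsg.Agent.DS.Cl.NCTV
end
end
end
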