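import Cfsg.Agent.DS.Cl.Inv_m3
import Cfsg.Agent.DS.Cl.Grp
import Cfsg.Agent.DS.Cl.Vec
import Mathlib
import Cfsg.Agent.DS.Gen.Split
import Cfsg.Agent.LieClassical.OrthFinite
import Cfsg.Agent.LieClassical.SympPerfect
import Cfsg.Agent.ClassicalGeometry.SympIso
import Cfsg.Agent.FastGrp
import Cfsg.Agent.Prune
set_option linter.all false

section
prune_inst 0x7ff1fef81bb879dfffff7e7faedcdffdb9b81fffe6dff943bfe021ff0b9f030289c52bad0de000fe1ec6601400b87813ff7eee7fe26bdc7ffffd5ff41ffbee0ff5f6b509519088140fb40ff6e3f0778e7f3fffffffffffffffffffffffffffbeffbfffffffff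

-- part: DS/Cl/ExtC
section
set_option linter.all false
open scoped Cfsg.Agent.FastGrp

/-!
# `BoxExt`: the centre of a finite star-simple ring (helper98)

The automorphisms commuting with `star` commute on the centre; finite groups of central isometries are cyclic.
-/

set_option autoImplicit false

namespace Cfsg.Agent.DS.Cl.Ext

open Cfsg.Agent.DS.Cl

/-- An endomorphism of a finite field is a power map. -/
theorem exists_pow_field {K : Type*} [Field K] [Finite K] (g : K →+* K) : ∃ n : ℕ, ∀ x, g x = x ^ n := by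
  obtain ⟨t, ht⟩ := IsCyclic.exists_monoid_generator (α := Kˣ)
  obtain ⟨n, hn⟩ := ht (Units.map (g : K →* K) t)
  have hn' : t ^ n = Units.map (g : K →* K) t := hn
  refine ⟨n + Nat.card Kˣ, fun x => ?_⟩
  by_cases hx : x = 0
  · rw [hx, map_zero, zero_pow (Nat.add_pos_right _ Nat.card_pos).ne']
  obtain ⟨k, hk⟩ := ht (Units.mk0 x hx)
  have hk' : t ^ k = Units.mk0 x hx := hk
  have h1 : Units.map (g : K →* K) (Units.mk0 x hx) = Units.mk0 x hx ^ (n + Nat.card Kˣ) := by
    rw [pow_add, pow_card_eq_one', mul_one, ← hk', map_pow, ← hn', ← pow_mul, ← pow_mul, mul_comm]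
  simpa using congrArg Units.val h1

theorem exists_pow_of_map {C : Type*} [CommRing C] [Finite C] (σ g : C →+* C)
    (hg : ∀ x, g (σ x) = σ (g x)) (m : Ideal C) [m.IsMaximal] (hm : ∀ x ∈ m, σ x ∈ m → x = 0)
    (hgm : ∀ x ∈ m, g x ∈ m) : ∃ n : ℕ, ∀ x, g x = x ^ n := by
  let : Field (C ⧸ m) := Ideal.Quotient.field m
  have : Finite (C ⧸ m) := Finite.of_surjective _ Ideal.Quotient.mk_surjective
  have hle : m ≤ m.comap g := fun x hx => hgm x hx
  obtain ⟨n, hn⟩ := exists_pow_field (Ideal.quotientMap m g hle)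
  have key : ∀ x, g x - x ^ n ∈ m := by
    intro x
    rw [← Ideal.Quotient.eq, map_pow, ← hn, Ideal.quotientMap_mk]
  refine ⟨n, fun x => sub_eq_zero.1 (hm _ (key x) ?_)⟩
  rw [map_sub, map_pow, ← hg]
  exact key _

theorem exists_pow_comm {C : Type*} [CommRing C] [Finite C] [Nontrivial C] (σ g : C →+* C) (hσ : ∀ x, σ (σ x) = x)
    (hg : ∀ x, g (σ x) = σ (g x)) (hu : ∀ x e, x ≠ 0 → σ x = e * x → IsUnit x) :
    ∃ n : ℕ, (∀ x, g x = x ^ n) ∨ ∀ x, g x = σ x ^ n := by
  obtain ⟨m, hmax⟩ := Ideal.exists_maximal C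
  have h0 : ∀ x ∈ m, ∀ e, σ x = e * x → x = 0 := by
    intro x hx e he
    by_contra hne
    exact hmax.ne_top (m.eq_top_of_isUnit_mem hx (hu x e hne he))
  have hm : ∀ x ∈ m, σ x ∈ m → x = 0 := by
    intro x hx hx'
    have h1 := h0 _ (m.add_mem hx hx') 1 (by rw [map_add, hσ, one_mul, add_comm])
    exact h0 x hx (-1) (by linear_combination h1)
  have hp : (m.comap g).IsPrime := Ideal.comap_isPrime g m
  have h1 : m * m.comap σ ≤ m.comap g := by
    rw [Ideal.mul_le]
    intro x hx y hy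
    rw [hm (x * y) (m.mul_mem_right _ hx) (by rw [map_mul]; exact m.mul_mem_left _ hy)]
    exact Ideal.zero_mem _
  rcases hp.mul_le.1 h1 with h2 | h2
  · obtain ⟨n, hn⟩ := exists_pow_of_map σ g hg m hm fun x hx => h2 hx
    exact ⟨n, Or.inl hn⟩
  · obtain ⟨n, hn⟩ := exists_pow_of_map σ (g.comp σ) (fun x => hg (σ x)) m hm fun x hx =>
      h2 (show σ (σ x) ∈ m by rwa [hσ])
    refine ⟨n, Or.inr fun x => ?_⟩
    rw [← hn, RingHom.comp_apply, hσ]

variable {A : Type} [Ring A] [StarRing A]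

theorem isUnit_of_star (h : SS A) {c e : A} (hc : c ∈ Subring.center A) (hs : star c = e * c) (hne : c ≠ 0) :
    IsUnit c := by
  have h1 : ∀ x ∈ Ideal.span {c}, star x ∈ Ideal.span {c} := by
    intro x hx
    obtain ⟨b, rfl⟩ := Ideal.mem_span_singleton'.1 hx
    exact Ideal.mem_span_singleton'.2 ⟨e * star b, by rw [star_mul, hs, mul_assoc, mul_assoc, cen_comm hc]⟩
  rcases h.eq_bot_or_top (two_span_cen hc) h1 with h2 | h2
  · exact absurd (Ideal.span_singleton_eq_bot.1 h2) hne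
  · have h3 : (1 : A) ∈ Ideal.span {c} := by rw [h2]; trivial
    obtain ⟨b, hb⟩ := Ideal.mem_span_singleton'.1 h3
    exact ⟨⟨c, b, by rw [← cen_comm hc, hb], hb⟩, rfl⟩

omit [StarRing A] in
theorem isUnit_center {c : Subring.center A} (h : IsUnit (c : A)) : IsUnit c := by
  obtain ⟨u, hu⟩ := h
  have hu' : (u : A) ∈ Subring.center A := hu ▸ c.2
  refine IsUnit.of_mul_eq_one ⟨_, inv_cen hu'⟩ (Subtype.ext ?_)
  change (c : A) * ((u⁻¹ : Aˣ) : A) = 1
  rw [← hu, Units.mul_inv]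

/-- `c - 1` is invertible for a central isometry `c ≠ 1`. -/
theorem isUnit_sub_one (h : SS A) {c : A} (hc : c ∈ Subring.center A) (hs : c * star c = 1) (hne : c ≠ 1) :
    IsUnit (c - 1) := by
  refine isUnit_of_star h (e := -star c) (Subring.sub_mem _ hc (Subring.one_mem _)) ?_ (sub_ne_zero.2 hne)
  rw [star_sub, star_one, mul_sub, neg_mul, cen_comm hc, hs, mul_one]
  abel

theorem isCyclic_of_cen [Finite A] (h : SS A) {G : Type*} [Group G] (f : G →* A) (hf : Function.Injective f)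
    (hc : ∀ x, f x ∈ Subring.center A) (hs : ∀ x, f x * star (f x) = 1) : IsCyclic G := by
  have := h.nontrivial
  have : Finite G := Finite.of_injective f hf
  obtain ⟨m, hmax⟩ := Ideal.exists_maximal (Subring.center A)
  let : Field (Subring.center A ⧸ m) := Ideal.Quotient.field m
  let f' : G →* Subring.center A := f.codRestrict (Subring.center A) hc
  refine isCyclic_of_injective_ringHom ((Ideal.Quotient.mk m).toMonoidHom.comp f') ?_
  rw [injective_iff_map_eq_one]
  intro x hx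
  by_contra hne
  have h1 : f' x - 1 ∈ m := by
    rw [← Ideal.Quotient.eq]
    exact hx
  refine hmax.ne_top (m.eq_top_of_isUnit_mem h1 (isUnit_center ?_))
  exact isUnit_sub_one h (hc x) (hs x) fun he => hne (hf (by rw [map_one]; exact he))

theorem comm_on_center [Finite A] (h : SS A) {γ δ : RingAut A} (hγ : γ ∈ SAut A) (hδ : δ ∈ SAut A) {c : A}
    (hc : c ∈ Subring.center A) : γ (δ c) = δ (γ c) := by
  have := h.nontrivial
  let σ : Subring.center A →+* Subring.center A :=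
    { toFun := fun x => ⟨star x.1, star_cen x.2⟩
      map_one' := Subtype.ext (star_one A)
      map_mul' := fun x y => Subtype.ext (by
        change star (x.1 * y.1) = star x.1 * star y.1
        rw [cen_comm y.2, star_mul])
      map_zero' := Subtype.ext (star_zero A)
      map_add' := fun x y => Subtype.ext (star_add x.1 y.1) }
  let g : Subring.center A →+* Subring.center A :=
    (δ : A →+* A).restrict _ _ fun x hx => map_cen δ hx
  obtain ⟨n, hn⟩ := exists_pow_comm σ g (fun x => Subtype.ext (star_star x.1)) (fun x => Subtype.ext (hδ x.1))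
    fun x e hx he => isUnit_center (isUnit_of_star h (e := e) x.2 (congrArg Subtype.val he)
      fun h0 => hx (Subtype.ext h0))
  rcases hn with hn | hn
  · have h1 : ∀ x ∈ Subring.center A, δ x = x ^ n := fun x hx =>
      (congrArg Subtype.val (hn ⟨x, hx⟩)).trans (SubmonoidClass.coe_pow _ _)
    rw [h1 c hc, h1 _ (map_cen γ hc), map_pow]
  · have h1 : ∀ x ∈ Subring.center A, δ x = star x ^ n := fun x hx =>
      (congrArg Subtype.val (hn ⟨x, hx⟩)).trans (SubmonoidClass.coe_pow _ _)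
    rw [h1 c hc, h1 _ (map_cen γ hc), map_pow, hγ]

end Cfsg.Agent.DS.Cl.Ext
end

-- part: DS/Cl/Act
section
set_option linter.all false
open scoped Cfsg.Agent.FastGrp

/-!
# Groups permuting a finite set
-/

set_option autoImplicit false

namespace Cfsg.Agent.DS.Cl

open Cfsg Cfsg.Agent.H936 Cfsg.Agent.DS Equiv

/-- a group of permutations containing all transpositions inside its orbits -/
theorem ps_of_swap {α : Type} [Finite α] [DecidableEq α] (H : Subgroup (Perm α))
    (h : ∀ σ ∈ H, ∀ x, swap x (σ x) ∈ H) : PS 3 H := by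
  classical
  have := Fintype.ofFinite α
  let f : α → MulAction.orbitRel.Quotient H α := Quotient.mk''
  have hf : ∀ x y, f x = f y ↔ ∃ σ ∈ H, σ y = x := by
    intro x y
    rw [Quotient.eq'', MulAction.orbitRel_apply]
    exact ⟨fun ⟨σ, hσ⟩ => ⟨σ, σ.2, hσ⟩, fun ⟨σ, hσ, e⟩ => ⟨⟨σ, hσ⟩, e⟩⟩
  have h1 : ∀ n, ∀ σ : Perm α, σ.support.card = n → (∀ x, f (σ x) = f x) → σ ∈ H := by
    intro n
    induction n using Nat.strong_induction_on with
    | _ n ih =>
      intro σ hn hσ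
      by_cases h0 : σ = 1
      · rw [h0]; exact H.one_mem
      obtain ⟨x, hx⟩ : ∃ x, σ x ≠ x := by
        by_contra hcon
        push Not at hcon
        exact h0 (Equiv.ext hcon)
      obtain ⟨τ, hτ, e⟩ := (hf _ _).1 (hσ x)
      have h2 : swap x (σ x) ∈ H := e ▸ h τ hτ x
      have h3 := ih _ (hn ▸ Perm.card_support_swap_mul hx) _ rfl fun y => by
        rw [Perm.mul_apply, ← hσ y]
        exact (hf _ _).2 ⟨_, h2, rfl⟩
      have h4 := H.mul_mem h2 h3
      rwa [← mul_assoc, swap_mul_self, one_mul] at h4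
  let ψ : (∀ c, Perm {a // f a = c}) →* Perm α :=
    (Equiv.sigmaFiberEquiv f).permCongrHom.toMonoidHom.comp (Perm.sigmaCongrRightHom fun c => {a // f a = c})
  have hψ : ∀ g a, ψ g a = (g (f a) ⟨a, rfl⟩).1 := fun _ _ => rfl
  have h5 : ψ.range = H := by
    apply le_antisymm
    · rintro _ ⟨g, rfl⟩
      exact h1 _ _ rfl fun x => by rw [hψ]; exact (g (f x) ⟨x, rfl⟩).2
    · intro σ hσ
      have h6 : ∀ x, f (σ x) = f x := fun x => (hf _ _).2 ⟨σ, hσ, rfl⟩
      exact ⟨fun c => σ.subtypePerm fun x => by rw [h6], Equiv.ext fun a => rfl⟩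
  rw [← h5]
  exact (PS.pi fun c => ps_perm _).range ψ

variable {G X : Type} [Group G] [MulAction G X]

/-- the stabilizer of a set -/
def setStab (G : Type) {X : Type} [Group G] [MulAction G X] (s : Set X) : Subgroup G where
  carrier := {g | ∀ x, x ∈ s ↔ g • x ∈ s}
  mul_mem' := fun {g k} hg hk x => by rw [mul_smul]; exact (hk x).trans (hg _)
  one_mem' := fun x => by rw [one_smul]
  inv_mem' := fun {g} hg x => by rw [hg (g⁻¹ • x), smul_inv_smul]

/-- the pointwise stabilizer of a set -/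
def ptStab (G : Type) {X : Type} [Group G] [MulAction G X] (s : Set X) : Subgroup G where
  carrier := {g | ∀ x ∈ s, g • x = x}
  mul_mem' := fun {g k} hg hk x hx => by rw [mul_smul, hk x hx, hg x hx]
  one_mem' := fun x _ => one_smul G x
  inv_mem' := fun {g} hg x hx => by rw [inv_smul_eq_iff, hg x hx]

theorem le_setStab {P : Subgroup G} {s : Set X} (h : ∀ g ∈ P, ∀ x ∈ s, g • x ∈ s) : P ≤ setStab G s := fun g hg x =>
  ⟨h g hg x, fun hx => by
    have h1 := h _ (inv_mem hg) _ hx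
    rwa [inv_smul_smul] at h1⟩

theorem conj_mem_ptStab {s : Set X} {g k : G} (hg : g ∈ setStab G s) (hk : k ∈ ptStab G s) :
    g * k * g⁻¹ ∈ ptStab G s := fun x hx => by
  rw [mul_smul, mul_smul, hk _ (((inv_mem hg) x).1 hx), smul_inv_smul]

/-- the permutation action on an invariant set -/
def permOn (P : Subgroup G) (s : Set X) (h : P ≤ setStab G s) : P →* Perm s where
  toFun g := Perm.subtypePerm (MulAction.toPerm g.1) fun x => (h g.2 x).symm
  map_one' := Equiv.ext fun x => Subtype.ext (one_smul G x.1)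
  map_mul' g k := Equiv.ext fun x => Subtype.ext (mul_smul g.1 k.1 x.1)

theorem permOn_apply (P : Subgroup G) (s : Set X) (h : P ≤ setStab G s) (g : P) (x : s) :
    (permOn P s h g x : X) = g.1 • x.1 := rfl

theorem ps_permOn {a b : ℕ} {P : Subgroup G} {s : Set X} (h : P ≤ setStab G s) (hker : PS a ↥(P ⊓ ptStab G s))
    (htop : PS b (permOn P s h).range) : PS (a + b) P := by
  refine ps_ext' (permOn P s h) ?_ htop
  refine ps_of_map_inj P.subtype_injective ?_
  suffices e : (permOn P s h).ker.map P.subtype = P ⊓ ptStab G s by rwa [e]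
  ext g
  constructor
  · rintro ⟨g, hg, rfl⟩
    refine ⟨g.2, fun x hx => ?_⟩
    have h1 := permOn_apply P s h g ⟨x, hx⟩
    rw [(MonoidHom.mem_ker).1 hg] at h1
    exact h1.symm
  · rintro ⟨hg, hg'⟩
    exact ⟨⟨g, hg⟩, Equiv.ext fun x => Subtype.ext (hg' x x.2), rfl⟩

theorem swap_mem_range {P : Subgroup G} {s : Set X} [DecidableEq s] (h : P ≤ setStab G s) {x y : s} {d : G} (hd : d ∈ P)
    (h1 : d • x.1 = y.1) (h2 : d • y.1 = x.1) (h3 : ∀ z ∈ s, z ≠ x.1 → z ≠ y.1 → d • z = z) :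
    swap x y ∈ (permOn P s h).range := by
  refine ⟨⟨d, hd⟩, Equiv.ext fun z => Subtype.ext ?_⟩
  rw [permOn_apply]
  by_cases hx : z = x
  · rw [hx, swap_apply_left, h1]
  by_cases hy : z = y
  · rw [hy, swap_apply_right, h2]
  rw [swap_apply_of_ne_of_ne hx hy]
  exact h3 z z.2 (fun e => hx (Subtype.ext e)) fun e => hy (Subtype.ext e)

/-- transpositions inside all orbits -/
theorem ps_of_flip {a : ℕ} {P : Subgroup G} {s : Set X} [Finite s] (h : P ≤ setStab G s)
    (hker : PS a ↥(P ⊓ ptStab G s))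
    (hflip : ∀ g ∈ P, ∀ x ∈ s, g • x ≠ x →
      ∃ d ∈ P, d • x = g • x ∧ d • g • x = x ∧ ∀ z ∈ s, z ≠ x → z ≠ g • x → d • z = z) : PS (a + 3) P := by
  classical
  refine ps_permOn h hker (ps_of_swap _ ?_)
  rintro _ ⟨g, rfl⟩ x
  by_cases hx : g.1 • x.1 = x.1
  · rw [show permOn P s h g x = x from Subtype.ext hx, swap_self]
    exact one_mem _
  obtain ⟨d, hd, h1, h2, h3⟩ := hflip g g.2 x x.2 hx
  exact swap_mem_range h hd h1 h2 h3

/-- a solvable top group -/
theorem ps_of_dS_fix {a b : ℕ} {P : Subgroup G} {s : Set X} (hker : PS a ↥(P ⊓ ptStab G s))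
    (htop : dS P b ≤ ptStab G s) : PS (a + b) P := by
  rw [add_comm]
  exact ps_up (le_inf (dS_le _ _) htop) inf_le_left hker

end Cfsg.Agent.DS.Cl
end

-- part: DS/Cl/Idem
section
prune_inst 0xc0103e445862000000000512300004447e000192004b84009cc00e4407ced66008402e21f5b0081310aa0c0460340008101800804020000000000000011d00a090004004d30aad04b60081807883180c00000000000000000000000000041004000000000
set_option linter.all false
open scoped Cfsg.Agent.FastGrp

/-!
# Orthogonal decompositions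
-/

set_option autoImplicit false

namespace Cfsg.Agent.DS.Cl

open Cfsg Cfsg.Agent.H936 Cfsg.Agent.DS

variable {A : Type} [Ring A] [StarRing A]

theorem FR.star_l (F : FR A) : star F.l = 1 - F.l := by rw [← F.l_add]; abel

theorem FR.cross_mem (F : FR A) {a b : A} (h : b * star a = 0) : a * F.l * star b + b * F.l * star a ∈ F.L := by
  have h1 := F.sub_star_mem (a * F.l * star b)
  rw [star_mul, star_mul, star_star, F.star_l, sub_mul, one_mul, mul_sub, h, zero_sub, sub_neg_eq_add,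
    ← mul_assoc] at h1
  exact h1

theorem FR.sum_sub_mem (F : FR A) (s : Finset A) (hs : ∀ e ∈ s, star e = e)
    (ho : ∀ e ∈ s, ∀ e' ∈ s, e ≠ e' → e * e' = 0) :
    (∑ e ∈ s, e) * F.l * (∑ e ∈ s, e) - ∑ e ∈ s, e * F.l * e ∈ F.L := by
  classical
  induction s using Finset.induction_on with
  | empty => simp
  | insert e s he ih =>
    have h1 := ih (fun x hx => hs x (Finset.mem_insert_of_mem hx)) fun x hx y hy =>
      ho x (Finset.mem_insert_of_mem hx) y (Finset.mem_insert_of_mem hy)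
    have h2 : star (∑ e ∈ s, e) = ∑ e ∈ s, e := by
      rw [star_sum]
      exact Finset.sum_congr rfl fun x hx => hs x (Finset.mem_insert_of_mem hx)
    have h3 := F.cross_mem (a := e) (b := ∑ e ∈ s, e) (by
      rw [hs e (Finset.mem_insert_self e s), Finset.sum_mul]
      exact Finset.sum_eq_zero fun x hx => ho x (Finset.mem_insert_of_mem hx) e (Finset.mem_insert_self e s)
        fun h => he (h ▸ hx))
    rw [h2, hs e (Finset.mem_insert_self e s)] at h3
    rw [Finset.sum_insert he, Finset.sum_insert he]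
    convert F.L.add_mem h1 h3 using 1
    noncomm_ring

/-- a central element killing a non-zero symmetric element vanishes -/
theorem SS.cen_eq_zero (h : SS A) {c f : A} (hc : c ∈ Subring.center A) (hf : star f = f) (h0 : f ≠ 0)
    (hcf : c * f = 0) : c = 0 := by
  let J : Ideal A :=
    { carrier := {a | c * a = 0 ∧ star c * a = 0}
      add_mem' := fun ha hb => ⟨by rw [mul_add, ha.1, hb.1, add_zero], by rw [mul_add, ha.2, hb.2, add_zero]⟩
      zero_mem' := ⟨mul_zero _, mul_zero _⟩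
      smul_mem' := fun a x hx => ⟨by rw [smul_eq_mul, ← mul_assoc, ← cen_comm hc, mul_assoc, hx.1, mul_zero],
        by rw [smul_eq_mul, ← mul_assoc, ← cen_comm (star_cen hc), mul_assoc, hx.2, mul_zero]⟩ }
  rcases h.eq_bot_or_top (I := J) (fun x hx a => ⟨by rw [← mul_assoc, hx.1, zero_mul], by
    rw [← mul_assoc, hx.2, zero_mul]⟩) (fun x hx => ⟨by
      rw [← cen_comm hc, ← star_star c, ← star_mul, hx.2, star_zero], by
      rw [← cen_comm (star_cen hc), ← star_mul, hx.1, star_zero]⟩) with h1 | h1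
  · have h2 : f ∈ J := ⟨hcf, by rw [← cen_comm (star_cen hc), ← hf, ← star_mul, hcf, star_zero]⟩
    rw [h1] at h2
    exact absurd h2 h0
  · have h2 : (1 : A) ∈ J := by rw [h1]; trivial
    simpa using h2.1

/-- the two-sided ideal of the `z` with `a A z A b = 0` -/
def annI {A : Type} [Ring A] (a b : A) : Ideal A where
  carrier := {z | ∀ x y, a * x * z * y * b = 0}
  add_mem' := fun {u v} hu hv x y => by rw [mul_add, add_mul, add_mul, hu, hv, add_zero]
  zero_mem' := fun x y => by simp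
  smul_mem' := fun c z hz x y => by
    have h := hz (x * c) y
    simpa only [smul_eq_mul, mul_assoc] using h

omit [StarRing A] in
theorem two_annI (a b : A) : Two (annI a b) := fun z hz c x y => by
  have h := hz x (c * y)
  simpa only [mul_assoc] using h

/-- a simple finite ring is prime -/
theorem SS.prime [Finite A] (h : SS A) (hε : ¬ ∃ ε : A, Eps ε) {x y : A} (hx : x ≠ 0) (hy : y ≠ 0) :
    ∃ a, x * a * y ≠ 0 := by
  by_contra hcon
  push Not at hcon
  rcases h.two_of_not_eps hε (two_annI x 1) with h1 | h1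
  · have h2 : y ∈ annI x 1 := fun a b => by rw [hcon, zero_mul, zero_mul]
    rw [h1] at h2
    exact hy h2
  · have h2 : (1 : A) ∈ annI x 1 := by rw [h1]; trivial
    exact hx (by simpa using h2 1 1)

/-- the same for the simple factor `ε A` -/
theorem SS.prime_eps (h : SS A) {ε : A} (hε : Eps ε) {x y : A} (hx : ε * x ≠ 0) (hy : ε * y ≠ 0) :
    ∃ a, ε * x * a * y ≠ 0 := by
  by_contra hcon
  push Not at hcon
  let J : Ideal A := annI (ε * x) 1 ⊓ Ideal.span {ε}
  have h1 : ε ∈ J := h.eps_mem hε (fun z hz a => ⟨two_annI _ _ z hz.1 a, two_span_cen hε.cen z hz.2 a⟩)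
    (fun h2 => by
      have h3 : ε * y ∈ J := ⟨fun a b => by
        rw [← mul_assoc, mul_assoc (ε * x) a, hcon, zero_mul, zero_mul],
        Ideal.mem_span_singleton'.2 ⟨y, hε.comm y⟩⟩
      rw [h2] at h3
      exact hy h3)
    fun z hz => by
      obtain ⟨b, rfl⟩ := Ideal.mem_span_singleton'.1 hz.2
      rw [hε.comm, ← mul_assoc, hε.idem]
  have h2 := h1.1 1 1
  rw [mul_one, mul_one, mul_one, hε.comm, ← mul_assoc, hε.idem] at h2
  exact hx h2

theorem Eps.mul_ne_zero {ε f : A} (hε : Eps ε) (hf : star f = f) (h0 : f ≠ 0) : ε * f ≠ 0 := by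
  intro h1
  have h2 := congrArg star h1
  rw [star_mul, hf, hε.st.comm, star_zero] at h2
  exact h0 (by rw [hε.split f, h1, h2, add_zero])

/-- a commutative form ring with trivial isometry group is `F₂ × F₂` -/
theorem small_ring {R : Type} [Ring R] [StarRing R] [Finite R] (hss : SS R) (F : FR R) (h2 : ∀ a b : R, a * b = b * a)
    (h1 : ∀ u ∈ F.Iso, (u : R) = 1) : (∃ η : R, Eps η) ∧ ∀ η : R, Eps η → ∀ y, η * y = y → y ≠ 0 → y = η := by
  have := hss.nontrivial
  have hcen : ∀ a : R, a ∈ Subring.center R := fun a => Subring.mem_center_iff.2 fun b => h2 b a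
  have h3 : ∀ v : Rˣ, star (v : R) = v := by
    intro v
    have h4 : ((star v * v⁻¹ : Rˣ) : R) * star ((star v * v⁻¹ : Rˣ) : R) = 1 := by
      rw [Units.val_mul, Units.coe_star, star_mul, star_star, h2 (star _) v, ← mul_assoc, mul_assoc _ _ (v : R),
        Units.inv_mul, mul_one, ← star_mul, Units.inv_mul, star_one]
    have h5 := h1 (star v * v⁻¹) ⟨h4, by
      rw [h2 _ F.l, mul_assoc, h4, mul_one, sub_self]; exact zero_mem _⟩
    rw [Units.val_mul, Units.mul_inv_eq_one] at h5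
    exact h5
  constructor
  · by_contra hcon
    have h5 : ∀ a : R, star a = a := fun a => by
      by_cases h0 : a = 0
      · simp [h0]
      · obtain ⟨v, rfl⟩ := hss.isUnit_of_not_eps hcon (hcen a) h0
        exact h3 v
    have h6 := h1 (-1) ⟨by simp, by simp⟩
    have h7 := F.l_add
    rw [h5, ← mul_two, ← one_add_one_eq_two] at h7
    nth_rewrite 1 [← h6] at h7
    simp at h7
  · intro η hη y hy y0
    obtain ⟨d, -, hd⟩ := hss.eps_inv hη (hcen y) (by rwa [hy])
    have hsy : star η * y = 0 := by rw [← hy, ← mul_assoc, hη.sm, zero_mul]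
    have h6 : (η * d + star η) * (y + star η) = 1 := by
      rw [add_mul, mul_add, mul_add, mul_assoc, hd, hη.idem, hsy, hη.st.idem, mul_assoc, h2 d, ← mul_assoc, hη.ms]
      simp only [hη.add, _root_.MulZeroClass.zero_mul, _root_.add_zero, _root_.zero_add]
    have h7 := h3 ⟨y + star η, η * d + star η, by rw [h2 _ (η * d + star η), h6], h6⟩
    change star (y + star η) = y + star η at h7
    have h8 := congrArg (η * ·) h7
    have h9 : η * star y = 0 := by rw [← star_star η, ← star_mul, h2 y, hsy, star_zero]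
    simp only [star_add, star_star, mul_add, h9, hη.idem, hy, hη.ms, zero_add, add_zero] at h8
    exact h8.symm

namespace Fr

variable {D : Finset A} (h : Fr D)
include h

/-- the blocks of a frame -/
def bd (hA : SS A) (F : FR A) (e : D) : BD F := BD.corner hA F e (h.idem e e.2) (h.symm e e.2)

theorem levi (hA : SS A) (F : FR A) : Levi (h.bd hA F) where
  orth i j hij := h.orth i i.2 j j.2 fun e => hij (Subtype.ext e)
  sum := (Finset.sum_coe_sort D fun e => e).trans h.sum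
  l_sub := by
    have h1 := F.sum_sub_mem D h.symm h.orth
    rw [h.sum, one_mul, mul_one, ← Finset.sum_coe_sort D] at h1
    exact h1
  cent i := BD.corner_cent hA F _ _ _

theorem up_comm {e f v : A} (he : e ∈ D) (hf : f ∈ D) (h1 : e * v = v) (h2 : v * e = v) :
    (v + (1 - e)) * f = f * (v + (1 - e)) := by
  by_cases hef : f = e
  · subst hef
    rw [add_mul, mul_add, h1, h2, sub_mul, mul_sub, one_mul, mul_one]
  · have h3 : v * f = 0 := by rw [← h2, mul_assoc, h.orth e he f hf (Ne.symm hef), mul_zero]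
    have h4 : f * v = 0 := by rw [← h1, ← mul_assoc, h.orth f hf e he hef, zero_mul]
    rw [add_mul, mul_add, h3, h4, sub_mul, mul_sub, one_mul, mul_one, h.orth e he f hf (Ne.symm hef),
      h.orth f hf e he hef]

theorem ps_fix [Finite A] (hP5 : BoxP5) (hA : SS A) {F : FR A} :
    PS 6 ↥(F.Aut ⊓ ptStab (RingAut A) (D : Set A)) := by
  refine (h.levi hA F).ps hP5 hA inf_le_left (fun e γ hγ x hx => ?_) fun u hu e he => ⟨FR.cj_mem_Aut hu, fun f hf => ?_⟩
  · have h1 : γ e = e := hγ.2 e e.2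
    exact ⟨by rw [← h1, ← map_mul, hx.1], by rw [← h1, ← map_mul, hx.2]⟩
  · have h1 := h.up_comm e.2 hf he.1 he.2
    rw [show ((h.bd hA F e).e) = e from rfl, sub_add_cancel] at h1
    exact cj_eq_of_mul h1

theorem exists_ne {e : A} (_ : e ∈ D) : ∃ f ∈ D, f ≠ e := by
  obtain ⟨a, ha, b, hb, hab⟩ := Finset.one_lt_card.1 h.two
  by_cases h1 : a = e
  · exact ⟨b, hb, fun h2 => hab (h1.trans h2.symm)⟩
  · exact ⟨a, ha, h1⟩

theorem ne_one {e : A} (he : e ∈ D) : e ≠ 1 := by
  obtain ⟨f, hf, hfe⟩ := h.exists_ne he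
  intro h1
  have h2 := h.orth f hf e he hfe
  rw [h1, mul_one] at h2
  exact h.ne f hf h2

/-- the transposition of two isometric members of a frame -/
theorem exists_swap [Finite A] {F : FR A} {e f : A} (he : e ∈ D) (hf : f ∈ D) (hef : e ≠ f) {u : Aˣ} (hu : u ∈ F.Iso)
    (hue : cj A u e = f) : ∃ w ∈ F.Iso, cj A w e = f ∧ cj A w f = e ∧ ∀ g ∈ D, g ≠ e → g ≠ f → cj A w g = g := by
  have ee := h.idem e he
  have ff := h.idem f hf
  have ef := h.orth e he f hf hef
  have fe := h.orth f hf e he hef.symm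
  have se := h.symm e he
  have sf := h.symm f hf
  have h1 : (u : A) * e = f * u := by rw [← cj_mul_eq, hue]
  obtain ⟨x, hx⟩ : ∃ x, x = (u : A) * e := ⟨_, rfl⟩
  have xe : x * e = x := by rw [hx, mul_assoc, ee]
  have fx : f * x = x := by rw [hx, h1, ← mul_assoc, ff]
  have xf : x * f = 0 := by rw [← xe, mul_assoc, ef, mul_zero]
  have ex : e * x = 0 := by rw [← fx, ← mul_assoc, ef, zero_mul]
  have ey : e * star x = star x := by rw [← se, ← star_mul, xe]
  have yf : star x * f = star x := by rw [← sf, ← star_mul, fx]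
  have fy : f * star x = 0 := by rw [← sf, ← star_mul, xf, star_zero]
  have ye : star x * e = 0 := by rw [← se, ← star_mul, ex, star_zero]
  have xx : x * x = 0 := by nth_rewrite 1 [← xe]; rw [mul_assoc, ex, mul_zero]
  have yy : star x * star x = 0 := by rw [← star_mul, xx, star_zero]
  have xy : x * star x = f := by
    rw [hx, h1, star_mul, sf, mul_assoc, ← mul_assoc (u : A), hu.1, one_mul, ff]
  have yx : star x * x = e := by
    rw [hx, star_mul, se, mul_assoc, ← mul_assoc (star (u : A)), FR.Iso.sm hu, one_mul, ee]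
  obtain ⟨w, hw⟩ : ∃ w, w = x + star x + (1 - e - f) := ⟨_, rfl⟩
  have sw : star w = w := by rw [hw]; simp only [star_add, star_sub, star_one, star_star, se, sf]; abel
  have we : w * e = x := by rw [hw]; simp only [add_mul, sub_mul, xe, ye, ee, fe, _root_.add_zero, _root_.one_mul, _root_.sub_self]
  have wf : w * f = star x := by rw [hw]; simp only [add_mul, sub_mul, xf, yf, ef, ff, _root_.zero_add, _root_.one_mul, _root_.sub_zero, _root_.sub_self, _root_.add_zero]
  have ew : e * w = star x := by rw [← se, ← sw, ← star_mul, we]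
  have fw : f * w = x := by rw [← sf, ← sw, ← star_mul, wf, star_star]
  have ww : w * star w = 1 := by
    rw [sw]
    nth_rewrite 1 [hw]
    have a1 : x * w = f := by rw [hw]; simp only [mul_add, mul_sub, xx, xy, xe, xf, _root_.zero_add, _root_.mul_one, _root_.sub_self, _root_.add_zero]
    have a2 : star x * w = e := by rw [hw]; simp only [mul_add, mul_sub, yy, yx, ye, yf, _root_.add_zero, _root_.mul_one, _root_.sub_zero, _root_.sub_self]
    rw [add_mul, add_mul, a1, a2, sub_mul, sub_mul, one_mul, ew, fw, hw]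
    abel
  obtain ⟨r, hr⟩ : ∃ r, r = 1 - e - f := ⟨_, rfl⟩
  have sr : star r = r := by rw [hr]; simp only [star_sub, star_one, se, sf]
  have wr : w * r = r := by rw [hr, mul_sub, mul_sub, mul_one, we, wf, hw]; abel
  have rw' : r * w = r := by rw [← sr, ← sw, ← star_mul, wr]
  have hl : F.l - (e * F.l * e + f * F.l * f + r * F.l * r) ∈ F.L := by
    have c1 := F.cross_mem (a := e) (b := f) (by rw [se, fe])
    have c2 := F.cross_mem (a := e) (b := r) (by rw [se, hr]; simp [sub_mul, ee, fe])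
    have c3 := F.cross_mem (a := f) (b := r) (by rw [sf, hr]; simp [sub_mul, ff, ef])
    rw [se, sf] at c1
    rw [se, sr] at c2
    rw [sf, sr] at c3
    convert F.L.add_mem (F.L.add_mem c1 c2) c3 using 1
    rw [hr]
    noncomm_ring
  have hIso : mkU w ww ∈ F.Iso := by
    refine ⟨ww, ?_⟩
    rw [mkU_val]
    have d1 := F.conj_mem hl w
    have d2 := F.conj_mem hu.2 f
    have d3 := F.conj_mem (inv_mem hu).2 e
    rw [FR.Iso.inv_eq hu, star_star, se] at d3
    rw [sf] at d2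
    have e1 : w * (e * F.l * e) * star w = f * (u * F.l * star (u : A)) * f := by
      rw [sw, ← mul_assoc, ← mul_assoc, we, mul_assoc, ew, hx, h1, star_mul, sf]; simp only [mul_assoc]
    have e2 : w * (f * F.l * f) * star w = e * (star (u : A) * F.l * u) * e := by
      rw [sw, ← mul_assoc, ← mul_assoc, wf, mul_assoc, fw, hx, star_mul, se]; simp only [mul_assoc]
    have e3 : w * (r * F.l * r) * star w = r * F.l * r := by
      rw [sw, ← mul_assoc, ← mul_assoc, wr, mul_assoc, rw']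
    rw [mul_sub, mul_add, mul_add, sub_mul, add_mul, add_mul, e1, e2, e3] at d1
    convert F.L.sub_mem (F.L.add_mem (F.L.add_mem d1 d2) d3) hl using 1
    noncomm_ring
  refine ⟨_, hIso, cj_eq_of_mul (we.trans fw.symm), cj_eq_of_mul (wf.trans ew.symm), fun g hg ge gf =>
    cj_eq_of_mul ?_⟩
  have rg : r * g = g := by rw [hr]; simp [sub_mul, h.orth e he g hg ge.symm, h.orth f hf g hg gf.symm]
  have gr : g * r = g := by rw [hr]; simp [mul_sub, h.orth g hg e he ge, h.orth g hg f hf gf]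
  rw [mkU_val]
  conv_lhs => rw [← rg, ← mul_assoc, wr, rg]
  conv_rhs => rw [← gr, mul_assoc, rw', gr]

/-- the simple group does not stabilize a frame -/
theorem not_le_stab [Finite A] (hNC : BoxNC) {F : FR A} {M : Subgroup (RingAut A)} (hM : Ctx F M) :
    ¬ F.S ≤ setStab (RingAut A) (D : Set A) := by
  classical
  intro hS
  have hA := hM.ss
  have := hA.nontrivial
  have hL := h.levi hA F
  have hK := hM.eq_one_of_norm (K := F.Aut ⊓ Lin A ⊓ ptStab (RingAut A) (D : Set A)) inf_le_left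
    (fun s hs k hk => ⟨⟨F.Aut.mul_mem (F.Aut.mul_mem (F.S_le_Aut hs) hk.1.1) (F.Aut.inv_mem (F.S_le_Aut hs)),
      Lin_conj hk.1.2 s⟩, conj_mem_ptStab (hS hs) hk.2⟩) (fun hle => by
      obtain ⟨e, he⟩ : D.Nonempty := Finset.card_pos.1 (by have := h.two; omega)
      rcases hA.idem_symm (FR.cen_of_S hM.span fun s hs => (hle hs).2 e he) (h.symm e he) (h.idem e he) with h1 | h1
      · exact h.ne e he h1
      · exact h.ne_one he h1)
  -- the isometry groups of the blocks are trivial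
  have h1 : ∀ e : D, ∀ u ∈ (h.bd hA F e).fr.Iso, (u : (h.bd hA F e).T) = 1 := by
    intro e u hu
    have hv := (h.bd hA F e).val_mem u
    have h2 := hL.up_mem hv (congrArg (h.bd hA F e).val hu.1) hu.2
    have h3 := cj_eq_one_iff.1 (hK _ ⟨⟨FR.cj_mem_Aut h2, cj_mem_Lin _⟩, fun f hf =>
      cj_eq_of_mul (h.up_comm e.2 hf hv.1 hv.2)⟩)
    obtain ⟨f, hf, hfe⟩ := h.exists_ne e.2
    have h4 := hA.cen_eq_zero (Subring.sub_mem _ h3 (Subring.one_mem _)) (h.symm f hf) (h.ne f hf) (by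
      have a1 : (h.bd hA F e).val u * f = 0 := hL.mul_eq_zero (i := e) (j := ⟨f, hf⟩)
        (fun e' => hfe (congrArg Subtype.val e').symm) hv (h.bd hA F ⟨f, hf⟩).e_mem
      have a2 : (h.bd hA F e).e * f = 0 := hL.orth e ⟨f, hf⟩ (fun e' => hfe (congrArg Subtype.val e').symm)
      rw [mkU_val, add_sub_assoc, sub_sub_cancel_left, add_mul, neg_mul, a1, a2, neg_zero, add_zero])
    rw [mkU_val, add_sub_assoc, sub_sub_cancel_left, ← sub_eq_add_neg, sub_eq_zero] at h4
    exact (h.bd hA F e).val_inj h4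
  have hss : ∀ e : D, SS (h.bd hA F e).T := fun e => Blk.ss_corner hA (h.idem e e.2) (h.symm e e.2) (h.ne e e.2)
  have h2 : ∀ e : D, ∀ a b : (h.bd hA F e).T, a * b = b * a := by
    intro e
    by_contra hcon
    push Not at hcon
    obtain ⟨u, hu, huc⟩ := hNC _ (hss e) (h.bd hA F e).fr hcon
    exact huc (h1 e u hu ▸ Subring.one_mem _)
  have hcen : ∀ e : D, ∀ a : (h.bd hA F e).T, a ∈ Subring.center (h.bd hA F e).T := fun e a =>
    Subring.mem_center_iff.2 fun b => h2 e b a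
  have h3 := fun e : D => small_ring (hss e) (h.bd hA F e).fr (h2 e) (h1 e)
  obtain ⟨ε, hε⟩ : ∃ ε : A, Eps ε := by
    by_contra hcon
    obtain ⟨e, he⟩ : D.Nonempty := Finset.card_pos.1 (by have := h.two; omega)
    let B := h.bd hA F ⟨e, he⟩
    obtain ⟨η, hη⟩ : ∃ η : B.T, Eps η := (h3 ⟨e, he⟩).1
    have : Nontrivial B.T := (hss ⟨e, he⟩).nontrivial
    obtain ⟨a, ha⟩ := hA.prime hcon (x := B.val η) (y := B.val (star η)) (fun h0 => hη.ne_zero (B.val_inj h0))
      fun h0 => hη.st.ne_zero (B.val_inj h0)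
    apply ha
    obtain ⟨z, hz⟩ : ∃ z : B.T, B.val z = e * a * e := ⟨B.mk' _ (Blk.corner_mem (h.idem e he) (h.symm e he) a), rfl⟩
    have h5 := congrArg B.val (show η * z * star η = 0 by rw [h2 _ η, mul_assoc, hη.ms, mul_zero])
    have h6 : B.val η * e = B.val η := (B.val_mem η).2
    have h7 : e * B.val (star η) = B.val (star η) := (B.val_mem (star η)).1
    rw [← h6, ← h7]
    simpa only [Blk.val_mul, hz, mul_assoc, map_zero] using h5
  -- `ε e A e = {0, ε e}`
  have h5 : ∀ e ∈ D, ∀ x, ε * x = x → e * x = x → x * e = x → x ≠ 0 → x = ε * e := by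
    intro e he x x1 x2 x3 x0
    let B := h.bd hA F ⟨e, he⟩
    obtain ⟨η, hη⟩ : ∃ η : B.T, B.val η = ε * e := ⟨B.mk' (ε * e) ⟨by
      rw [← mul_assoc, hε.comm, mul_assoc, h.idem e he], by rw [mul_assoc, h.idem e he]⟩, rfl⟩
    have hη' : Eps η :=
      ⟨hcen _ _, B.val_inj (by
        rw [Blk.val_mul, hη, mul_assoc, ← mul_assoc e, hε.comm e, mul_assoc, h.idem e he, ← mul_assoc, hε.idem]),
        B.val_inj (by
          rw [map_add, Blk.val_star, hη, star_mul, h.symm e he, hε.st.comm, ← add_mul, hε.add, one_mul]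
          rfl)⟩
    rw [← hη]
    exact congrArg B.val ((h3 ⟨e, he⟩).2 η hη' (B.mk' x ⟨x2, x3⟩) (B.val_inj (by
      rw [Blk.val_mul, hη]
      change ε * e * x = x
      rw [mul_assoc, x2, x1])) fun h0 => x0 (congrArg B.val h0))
  obtain ⟨e, he⟩ : D.Nonempty := Finset.card_pos.1 (by have := h.two; omega)
  obtain ⟨f, hf, hfe⟩ := h.exists_ne he
  have hεe := hε.mul_ne_zero (h.symm e he) (h.ne e he)
  obtain ⟨a, ha⟩ := hA.prime_eps hε hεe (hε.mul_ne_zero (h.symm f hf) (h.ne f hf))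
  obtain ⟨x, hx⟩ : ∃ x, x = ε * e * a * f := ⟨_, rfl⟩
  rw [← hx] at ha
  have x1 : ε * x = x := by rw [hx, ← mul_assoc, ← mul_assoc, ← mul_assoc, hε.idem]
  have x2 : e * x = x := by rw [hx, ← mul_assoc, ← mul_assoc, ← mul_assoc, hε.comm, mul_assoc ε e e, h.idem e he]
  have x3 : x * f = x := by rw [hx, mul_assoc, h.idem f hf]
  obtain ⟨b, hb⟩ := hA.prime_eps hε (x := x) (by rwa [x1]) hεe
  obtain ⟨y, hy⟩ : ∃ y, y = f * b * e := ⟨_, rfl⟩
  have xy : x * y = ε * e := by
    have e1 : x * y = ε * x * b * e := by rw [hy, x1, ← mul_assoc, ← mul_assoc, x3]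
    exact h5 e he _ (by rw [← mul_assoc, x1]) (by rw [← mul_assoc, x2]) (by rw [hy]; simp [mul_assoc, h.idem e he])
      (e1 ▸ hb)
  have yx : y * x = ε * f := by
    refine h5 f hf _ (by rw [← mul_assoc, ← hε.comm, mul_assoc, x1])
      (by rw [hy, ← mul_assoc, ← mul_assoc, ← mul_assoc, h.idem f hf]) (by rw [mul_assoc, x3]) fun h0 => ha ?_
    have e0 : ε * e * x = x := by rw [mul_assoc, x2, x1]
    rw [← e0, ← xy, mul_assoc, h0, mul_zero]
  have huniq : ∀ x', ε * x' = x' → e * x' = x' → x' * f = x' → x' ≠ 0 → x' = x := by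
    intro x' y1 y2 y3 y0
    have e1 : x' * y * x = x' := by rw [mul_assoc, yx, ← mul_assoc, hε.comm, y1, y3]
    have e2 : x' * y = ε * e := h5 e he _ (by rw [← mul_assoc, y1]) (by rw [← mul_assoc, y2])
      (by rw [hy]; simp [mul_assoc, h.idem e he]) fun h0 => y0 (by rw [← e1, h0, zero_mul])
    rw [← e1, e2, mul_assoc, x2, x1]
  have := Fintype.ofFinite A
  let T : Finset A := Finset.univ.filter fun z => ε * z = z ∧ ∃ e' ∈ D, ∃ f' ∈ D, e' * z = z ∧ z * f' = z
  have hT : ∀ z, z ∈ T ↔ ε * z = z ∧ ∃ e' ∈ D, ∃ f' ∈ D, e' * z = z ∧ z * f' = z := fun z => by simp only [T, _root_.Finset.mem_filter, _root_.Finset.mem_univ, _root_.true_and]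
  have hTS : ∀ s ∈ F.S, ∀ z ∈ T, s z ∈ T := by
    intro s hs z hz
    obtain ⟨z1, e', he', f', hf', z2, z3⟩ := (hT z).1 hz
    refine (hT _).2 ⟨?_, s e', (hS hs e').1 he', s f', (hS hs f').1 hf', by rw [← map_mul, z2], by rw [← map_mul, z3]⟩
    conv_lhs => rw [← F.PI_le_Lin (F.S_le_PI hs) ε hε.cen, ← map_mul, z1]
  have hJ : ∑ z ∈ T, z ∈ Subring.center A := by
    refine FR.cen_of_S hM.span fun s hs => ?_
    rw [map_sum]
    refine Finset.sum_equiv s.toEquiv (fun z => ⟨hTS s hs z, fun hz => ?_⟩) fun _ _ => rfl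
    have h6 := hTS _ (inv_mem hs) _ hz
    exact (ra_inv_apply s z) ▸ h6
  have h6 : e * (∑ z ∈ T, z) * f = x := by
    rw [Finset.mul_sum, Finset.sum_mul, Finset.sum_eq_single x, x2, x3]
    · intro z hz hzx
      obtain ⟨z1, e', he', f', hf', z2, z3⟩ := (hT z).1 hz
      by_contra h0
      by_cases e1 : e = e'
      swap
      · exact h0 (by rw [← z2, ← mul_assoc, h.orth e he e' he' e1, zero_mul, zero_mul])
      by_cases e2 : f' = f
      swap
      · exact h0 (by rw [← z3, mul_assoc, mul_assoc, h.orth f' hf' f hf e2, mul_zero, mul_zero])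
      subst e1 e2
      exact hzx (huniq z z1 z2 z3 fun h7 => h0 (by rw [h7, mul_zero, zero_mul]))
    · intro hx'
      exact absurd ((hT x).2 ⟨x1, e, he, f, hf, x2, x3⟩) hx'
  rw [cen_comm hJ, mul_assoc, h.orth e he f hf hfe.symm, mul_zero] at h6
  exact ha h6.symm

end Fr

theorem boxIdem (hP5 : BoxP5) (hNC : BoxNC) : BoxIdem := by
  classical
  intro A _ _ _ F M h D hD hinv
  have hM : ∀ D : Finset A, Fr D → Inv M D → M = F.Aut ⊓ setStab (RingAut A) (D : Set A) := fun D hD hinv =>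
    h.eq_of_le (le_inf h.le (le_setStab hinv)) inf_le_left fun hle => hD.not_le_stab hNC h (hle.trans inf_le_right)
  have hker : ∀ D : Finset A, Fr D → Inv M D → PS 6 ↥(M ⊓ ptStab (RingAut A) (D : Set A)) := fun D hD hinv => by
    have h1 : M ⊓ ptStab (RingAut A) (D : Set A) = F.Aut ⊓ ptStab (RingAut A) (D : Set A) := by
      rw [hM D hD hinv, inf_assoc, inf_eq_right.2 (le_setStab fun g hg x hx => by rwa [hg x hx])]
    rw [h1]
    exact hD.ps_fix hP5 h.ss
  by_cases htr : ∀ e ∈ D, ∀ f ∈ D, ∃ u ∈ F.Iso, cj A u e = f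
  · refine ps_of_flip (a := 6) (s := (D : Set A)) (le_setStab hinv) (hker D hD hinv) fun γ hγ e he hne => ?_
    have hf : γ e ∈ D := hinv γ hγ e he
    obtain ⟨u, hu, hue⟩ := htr e he _ hf
    obtain ⟨w, hw, w1, w2, w3⟩ := hD.exists_swap he hf hne.symm hu hue
    refine ⟨cj A w, ?_, w1, w2, w3⟩
    rw [hM D hD hinv]
    refine ⟨FR.cj_mem_Aut hw, fun g => ?_⟩
    change g ∈ D ↔ cj A w g ∈ D
    by_cases n1 : g = e
    · rw [n1, w1]; exact iff_of_true he hf
    by_cases n2 : g = γ e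
    · rw [n2, w2]; exact iff_of_true hf he
    refine ⟨fun h1 => by rwa [w3 _ h1 n1 n2], fun h1 => ?_⟩
    have n3 : cj A w g ≠ e := fun e' => n2 ((cj A w).injective (e'.trans w2.symm))
    have n4 : cj A w g ≠ γ e := fun e' => n1 ((cj A w).injective (e'.trans w1.symm))
    exact (cj A w).injective (w3 _ h1 n3 n4) ▸ h1
  · push Not at htr
    obtain ⟨e, he, f, hf, hef⟩ := htr
    let Q := M ⊓ F.PI
    let Z : Subring A := Subring.centralizer (Subring.centralizer (D : Set A) : Set A) ⊓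
      ⨅ γ : Q, (γ.1 : A →+* A).eqLocus (RingHom.id A)
    have hZ : ∀ z, z ∈ Z ↔ z ∈ Subring.centralizer (Subring.centralizer (D : Set A) : Set A) ∧ ∀ γ ∈ Q, γ z = z :=
      fun z => by
        rw [Subring.mem_inf, Subring.mem_iInf]
        exact and_congr Iff.rfl ⟨fun h1 γ hγ => h1 ⟨γ, hγ⟩, fun h1 γ => h1 γ γ.2⟩
    have hDD : ∀ x ∈ D, x ∈ Subring.centralizer (D : Set A) := fun x hx y hy => by
      by_cases hxy : y = x
      · rw [hxy]
      · rw [hD.orth y hy x hx hxy, hD.orth x hx y hy (Ne.symm hxy)]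
    let s := D.filter fun g => ∃ u ∈ F.Iso, cj A u e = g
    have hs : ∀ g, g ∈ s ↔ g ∈ D ∧ ∃ u ∈ F.Iso, cj A u e = g := fun g => Finset.mem_filter
    have hsQ : ∀ γ ∈ Q, ∀ g ∈ s, γ g ∈ s := by
      rintro _ ⟨hγ, v, hv, rfl⟩ g hg
      obtain ⟨g1, u, hu, rfl⟩ := (hs g).1 hg
      exact (hs _).2 ⟨hinv _ hγ _ g1, v * u, mul_mem hv hu, by rw [map_mul, ra_mul]⟩
    have hmul : ∀ g ∈ D, g * ∑ x ∈ s, x = if g ∈ s then g else 0 := by
      intro g hg
      rw [Finset.mul_sum]
      split_ifs with h1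
      · rw [Finset.sum_eq_single g (fun y hy hyx => hD.orth g hg y ((hs y).1 hy).1 hyx.symm) (fun h2 => absurd h1 h2),
          hD.idem g hg]
      · exact Finset.sum_eq_zero fun y hy => hD.orth g hg y ((hs y).1 hy).1 fun h2 => h1 (h2 ▸ hy)
    obtain ⟨D', hD', hD'Z, hD'M⟩ := exists_frame Z
      (fun x hx y hy => ((hZ y).1 hy).1 x fun d hd => ((hZ x).1 hx).1 d (hDD d hd)) (e := ∑ x ∈ s, x)
      ((hZ _).2 ⟨Subring.sum_mem _ fun x hx y hy => (hy x ((hs x).1 hx).1).symm, fun γ hγ => by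
        rw [map_sum]
        refine Finset.sum_equiv γ.toEquiv (fun z => ⟨hsQ γ hγ z, fun hz => ?_⟩) fun _ _ => rfl
        exact (ra_inv_apply γ z) ▸ hsQ _ (inv_mem hγ) _ hz⟩)
      (by rw [star_sum]; exact Finset.sum_congr rfl fun x hx => hD.symm x ((hs x).1 hx).1)
      (by rw [Finset.sum_mul]; exact Finset.sum_congr rfl fun x hx => by rw [hmul x ((hs x).1 hx).1, if_pos hx])
      (fun h0 => by
        have h1 := hmul e he
        rw [h0, mul_zero, if_pos ((hs e).2 ⟨he, 1, one_mem _, by rw [map_one, ra_one]⟩)] at h1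
        exact hD.ne e he h1.symm)
      (fun h0 => by
        have h1 := hmul f hf
        rw [h0, mul_one, if_neg fun h2 => by
          obtain ⟨-, u, hu, e'⟩ := (hs f).1 h2
          exact hef u hu e'] at h1
        exact hD.ne f hf h1)
    have hinv' : Inv M D' := hD'M M h.le_SAut fun γ hγ z hz => (hZ _).2
      ⟨inv_centralizer (inv_centralizer hinv) γ hγ z ((hZ z).1 hz).1, fun δ hδ => by
        have h1 := ((hZ z).1 hz).2 (γ⁻¹ * δ * γ⁻¹⁻¹) ⟨M.mul_mem (M.mul_mem (inv_mem hγ) hδ.1) (inv_mem (inv_mem hγ)),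
          FR.conj_mem_PI (inv_mem (h.le hγ)) hδ.2⟩
        rw [inv_inv, ra_mul, ra_mul] at h1
        rw [← ra_apply_inv γ (δ (γ z)), h1]⟩
    refine (ps_of_dS_fix (b := 2) (hker D' hD' hinv') fun γ hγ d hd => ?_).mono (by norm_num)
    exact ((hZ d).1 (hD'Z d hd)).2 γ ⟨dS_le _ _ hγ, FR.dS_two_le h.ss (dS_mono h.le 2 hγ)⟩

end Cfsg.Agent.DS.Cl
end

-- part: DS/Cl/P5
section
prune_inst 0xe0107e04386200000000000030000420380000020048840084000e040f0180000000082103000013102001802004000000180000400000000000040000040000108000044002a000800080000080000000000000000000000000000000000000000000000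
set_option linter.all false
open scoped Cfsg.Agent.FastGrp

/-!
# The box `BoxP5` (helper54)
-/

set_option autoImplicit false

namespace Cfsg.Agent.DS.Cl.P5

open Cfsg Cfsg.Agent.H936 Cfsg.Agent.DS Cfsg.Agent.DS.Gen Module

variable {A : Type} [Ring A] [StarRing A]

theorem mem_Iso_of_max {F : FR A} (hL : F.L = Lmax A) {u : Aˣ} (hu : (u : A) * star (u : A) = 1) : u ∈ F.Iso := by
  refine ⟨hu, ?_⟩
  rw [hL]
  change star ((u : A) * F.l * star (u : A) - F.l) = -((u : A) * F.l * star (u : A) - F.l)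
  have h1 : star F.l = 1 - F.l := by rw [← F.l_add]; abel
  rw [star_sub, star_mul, star_mul, star_star, h1, mul_assoc, sub_mul, mul_sub, one_mul, hu, ← mul_assoc]
  abel

/-- if the norm is onto, similitudes are isometries up to central elements -/
theorem inf_le_PI [Finite A] (h : SS A) (F : FR A)
    (hN : ∀ μ ∈ Subring.center A, star μ = μ → ∃ c ∈ Subring.center A, star c * c = μ) : F.Aut ⊓ Lin A ≤ F.PI := by
  rintro γ ⟨hγ, hγ'⟩
  obtain ⟨g, rfl⟩ := h.sn hγ'
  obtain ⟨c, hc, hcc⟩ := hN _ (cj_SAut_cen hγ.1) (by rw [star_mul, star_star])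
  have h1 : IsUnit c := by
    have h2 : IsUnit (star c * c) := by rw [hcc]; exact g.isUnit.star.mul g.isUnit
    exact ((Commute.isUnit_mul_iff (cen_comm hc _)).1 h2).2
  obtain ⟨z, rfl⟩ := h1
  have h2 : cj A (g * z⁻¹) = cj A g := cj_eq_iff.2 ⟨z⁻¹, inv_cen hc, rfl⟩
  refine ⟨g * z⁻¹, FR.mem_Iso_of_cj ?_ (h2 ▸ hγ), h2⟩
  rw [mul_eq_one_comm]
  have h3 : star (g * z⁻¹) * (g * z⁻¹) = 1 := by
    have h4 : star g * g = star z * z := Units.ext hcc.symm
    rw [star_mul, star_inv, mul_assoc, ← mul_assoc (star g), h4]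
    group
  exact congrArg Units.val h3

theorem ps_of_lin [Finite A] (h : SS A) (F : FR A) (h1 : F.Aut ⊓ Lin A ≤ F.PI) (h4 : PS 4 F.PI) : PS 5 F.Aut :=
  ps_up (a := 1) (b := 4) ((le_inf (dS_le _ _) (FR.dS_one_le h)).trans h1) F.PI_le_Aut h4

section model

variable {K V : Type} [Field K] [AddCommGroup V] [Module K V]

/-- units as linear automorphisms -/
noncomputable def toLE (e : A ≃+* End K V) : Aˣ ≃* (V ≃ₗ[K] V) :=
  (Units.mapEquiv e.toMulEquiv).trans (LinearMap.GeneralLinearGroup.generalLinearEquiv K V)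

omit [StarRing A] in
theorem toLE_apply (e : A ≃+* End K V) (u : Aˣ) (v : V) : toLE e u v = e u v := rfl

omit [StarRing A] in
theorem equiv_of (e : A ≃+* End K V) {U : Subgroup Aˣ} {X : Subgroup (V ≃ₗ[K] V)} (h : ∀ u, u ∈ U ↔ toLE e u ∈ X) :
    Nonempty (X ≃* U) := by
  have h1 : U.map (toLE e).toMonoidHom = X := by
    ext g
    constructor
    · rintro ⟨u, hu, rfl⟩
      exact (h u).1 hu
    · intro hg
      obtain ⟨u, rfl⟩ := (toLE e).surjective g
      exact ⟨u, (h u).2 hg, rfl⟩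
  exact ⟨(((toLE e).subgroupMap U).trans (MulEquiv.subgroupCongr h1)).symm⟩

omit [StarRing A] in
theorem cen_smul (e : A ≃+* End K V) (c : K) : e.symm (c • 1) ∈ Subring.center A := by
  rw [Subring.mem_center_iff]
  intro a
  apply e.injective
  rw [map_mul, map_mul, RingEquiv.apply_symm_apply, H277.FC.smul_one_comm]

omit [StarRing A] in
theorem exists_smul [Nontrivial V] (e : A ≃+* End K V) {z : A} (hz : z ∈ Subring.center A) :
    ∃ c : K, z = e.symm (c • 1) := by
  obtain ⟨c, hc⟩ := H277.FC.exists_smul_one (e z) fun Y => by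
    obtain ⟨y, rfl⟩ := e.surjective Y
    rw [← map_mul, ← map_mul, cen_comm hz]
  exact ⟨c, by rw [← hc, RingEquiv.symm_apply_apply]⟩

variable {σ : K →+* K} {b : V →ₛₗ[σ] V →ₗ[K] K} {e : A ≃+* End K V}

theorem star_smul_one (hr : ∀ x, (∀ v, b v x = 0) → x = 0) (hadj : ∀ a v w, b (e a v) w = b v (e (star a) w))
    (c : K) : star (e.symm (c • 1)) = e.symm (σ c • 1) := by
  apply e.injective
  ext w
  rw [← sub_eq_zero]
  refine hr _ fun v => ?_
  rw [map_sub, ← hadj]
  simp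

theorem unitary_iff [Finite A] (hr : ∀ x, (∀ v, b v x = 0) → x = 0)
    (hadj : ∀ a v w, b (e a v) w = b v (e (star a) w)) (u : Aˣ) :
    (u : A) * star (u : A) = 1 ↔ toLE e u ∈ Vec.Isom K fun v w => b v w := by
  rw [mul_eq_one_comm, Vec.mem_Isom]
  simp only [toLE_apply, hadj, ← End.mul_apply, ← map_mul]
  constructor
  · intro h v w
    rw [h, map_one, End.one_apply]
  · intro h
    apply e.injective
    ext w
    rw [← sub_eq_zero]
    refine hr _ fun v => ?_
    rw [map_sub, h, map_one, End.one_apply, sub_self]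

end model

theorem p5_L [Finite A] (h : SS A) (F : FR A) (hM : ModL A) : PS 5 F.Aut := by
  obtain ⟨K, _, _, n, π, -, hπ⟩ := hM
  have hinj : ∀ a a', π a = π a' → π (star a) = π (star a') → a = a' := fun a a' h1 h2 => hπ.1 (Prod.ext h1 h2)
  obtain ⟨ε, hε⟩ := hπ.2 (1, 0)
  have h1 : π ε = 1 := congrArg Prod.fst hε
  have h2 : π (star ε) = 0 := congrArg Prod.snd hε
  have hE : Eps ε := by
    refine ⟨Subring.mem_center_iff.2 fun a => hinj _ _ ?_ ?_, hinj _ _ ?_ ?_, hinj _ _ ?_ ?_⟩ <;>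
      simp only [h1, h2, _root_.map_mul, _root_.mul_one, _root_.one_mul, _root_.StarMul.star_mul, _root_.MulZeroClass.zero_mul, _root_.MulZeroClass.mul_zero, _root_.map_add, _root_.add_zero, _root_.map_one, _root_.StarAddMonoid.star_add, _root_.star_star, _root_.zero_add, _root_.star_one]
  have hL := F.L_eq hE.cen hE.add
  refine ps_of_lin h F (inf_le_PI h F fun μ hμ hμ' => ⟨ε * μ + star ε,
    Subring.add_mem _ (Subring.mul_mem _ hE.cen hμ) hE.st.cen, hinj _ _ ?_ ?_⟩) (ps_map _ ?_)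
  · simp only [h1, h2, _root_.StarAddMonoid.star_add, _root_.StarMul.star_mul, _root_.star_star, _root_.map_mul, _root_.map_add, _root_.MulZeroClass.mul_zero, _root_.zero_add, _root_.one_mul, _root_.add_zero]
  · simp only [h1, h2, hμ', _root_.StarAddMonoid.star_add, _root_.StarMul.star_mul, _root_.star_star, _root_.map_mul, _root_.map_add, _root_.MulZeroClass.mul_zero, _root_.zero_add, _root_.one_mul, _root_.add_zero]
  let f : F.Iso →* (End K (Fin n → K))ˣ := (Units.map (π : A →* End K (Fin n → K))).comp F.Iso.subtype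
  have hf : Function.Bijective f := by
    constructor
    · rw [injective_iff_map_eq_one]
      intro u hu
      have h3 : π (u : Aˣ) = 1 := congrArg Units.val hu
      have h4 := congrArg π (FR.Iso.ms u.2)
      rw [map_mul, h3, one_mul] at h4
      exact Subtype.ext (Units.ext (hinj _ _ (by rw [h3, ← map_one π]; rfl) (by rw [h4]; simp)))
    · intro x
      obtain ⟨u, hu⟩ := hπ.2 (x, (x⁻¹ : (End K (Fin n → K))ˣ))
      have h3 : π u = x := congrArg Prod.fst hu
      have h4 : π (star u) = (x⁻¹ : (End K (Fin n → K))ˣ) := congrArg Prod.snd hu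
      have h5 : u * star u = 1 := hinj _ _ (by simp only [h3, h4, _root_.map_mul, _root_.Units.mul_inv, _root_.map_one]) (by simp only [h3, h4, _root_.StarMul.star_mul, _root_.star_star, _root_.map_mul, _root_.Units.mul_inv, _root_.star_one, _root_.map_one])
      exact ⟨⟨mkU u h5, mem_Iso_of_max hL h5⟩, Units.ext h3⟩
  exact PS.of_equiv ((MulEquiv.ofBijective f hf).trans
    (LinearMap.GeneralLinearGroup.generalLinearEquiv K (Fin n → K))).symm Vec.ps_linearEquiv

theorem p5_U [Finite A] (h : SS A) (F : FR A) (hM : ModU A) : PS 5 F.Aut := by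
  obtain ⟨K, _, _, n, e, σ, b, hn, hσ, hσ2, hb, hs, hadj⟩ := hM
  have : Nonempty (Fin n) := ⟨⟨0, hn⟩⟩
  have hr : ∀ x, (∀ v, b v x = 0) → x = 0 := fun x hx => hs x fun v => by rw [← hb.eq, hx, map_zero]
  have hst := star_smul_one hr hadj
  have hL : F.L = Lmax A := by
    obtain ⟨c, hc⟩ := ClassicalGeometry.InvolutiveNorm.exists_add_sigma_eq hσ hσ2 (map_one σ)
    refine F.L_eq (cen_smul e c) ?_
    rw [hst, ← map_add, ← add_smul, hc, one_smul, map_one]
  refine ps_of_lin h F (inf_le_PI h F fun μ hμ hμ' => ?_) ?_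
  · obtain ⟨c, rfl⟩ := exists_smul e hμ
    rw [hst] at hμ'
    obtain ⟨x, hx⟩ := ClassicalGeometry.InvolutiveNorm.exists_mul_sigma_eq hσ hσ2
      (H277.FC.smul_one_inj (e.symm.injective hμ'))
    refine ⟨_, cen_smul e x, ?_⟩
    rw [hst, ← map_mul, smul_mul_smul_comm, one_mul, mul_comm, hx]
  obtain ⟨φ⟩ := equiv_of e (U := F.Iso) (X := Vec.Isom K fun v w => b v w) fun u =>
    ⟨fun hu => (unitary_iff hr hadj u).1 hu.1, fun hu => mem_Iso_of_max hL ((unitary_iff hr hadj u).2 hu)⟩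
  rcases Vec.isom_herm hσ hσ2 b hb hs with h1 | ⟨h1, h2⟩
  · exact ps_map _ (PS.of_equiv φ h1)
  rw [Nat.card_congr φ.toEquiv] at h2
  obtain ⟨y, hy⟩ := ClassicalGeometry.InvolutiveNorm.exists_sigma_ne hσ
  have hy0 : y ≠ 0 := fun h0 => hy (by rw [h0, map_zero])
  have hy1 : σ y ≠ 0 := (map_ne_zero σ).2 hy0
  have h3 : e.symm ((y / σ y) • 1) * star (e.symm ((y / σ y) • 1)) = 1 := by
    rw [hst, ← map_mul, smul_mul_smul_comm, one_mul, map_div₀, hσ2, div_mul_div_cancel₀ hy1, div_self hy0, one_smul,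
      map_one]
  let f : F.Iso →* RingAut A := (cj A).comp F.Iso.subtype
  let z : f.ker := ⟨⟨mkU _ h3, mem_Iso_of_max hL h3⟩, cj_eq_one_iff.2 (cen_smul e _)⟩
  have h4 : orderOf z = 3 := by
    refine orderOf_eq_prime ?_ fun h5 => hy ?_
    · apply Subtype.ext
      apply Subtype.ext
      apply Units.ext
      change e.symm ((y / σ y) • 1) ^ 3 = 1
      have h5 := FiniteField.pow_card_sub_one_eq_one (y / σ y) (div_ne_zero hy0 hy1)
      rw [h1] at h5
      rw [← map_pow, smul_pow, one_pow, h5, one_smul, map_one]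
    · have h6 : e.symm ((y / σ y) • 1) = 1 := congrArg (fun t : f.ker => (((t : F.Iso) : Aˣ) : A)) h5
      rw [← map_one e.symm, ← one_smul K (1 : End K (Fin n → K))] at h6
      simp only [one_smul] at h6
      have h7 : y / σ y = 1 := H277.FC.smul_one_inj (V := Fin n → K) (by rw [e.symm.injective h6, one_smul])
      exact ((div_eq_one_iff_eq hy1).1 h7).symm
  have h5 : f.range = F.PI := by rw [MonoidHom.range_comp, Subgroup.range_subtype]; rfl
  have h6 := Subgroup.card_mul_index f.ker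
  rw [Subgroup.index_ker, h5, h2] at h6
  obtain ⟨c, hc⟩ := orderOf_dvd_natCard z
  have : Finite (RingAut A) := Finite.of_injective (fun γ : RingAut A => (γ : A → A)) DFunLike.coe_injective
  refine Vec.ps_of_23 3 3 ⟨c, ?_⟩ (by norm_num)
  rw [hc, h4] at h6
  rw [mul_comm _ c]
  linarith only [h6]

theorem p5_B [Finite A] (h : SS A) (F : FR A) (hM : ModB A) : PS 5 F.Aut := by
  obtain ⟨K, _, _, n, e, b, hn, hb, hs, hadj⟩ := hM
  have : Nonempty (Fin n) := ⟨⟨0, hn⟩⟩
  have hr : ∀ x, (∀ v, b v x = 0) → x = 0 := fun x hx => hs x fun v => by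
    rcases hb with hb | hb
    · rw [hb, hx]
    · rw [hb, hx, neg_zero]
  have hst := star_smul_one hr hadj
  suffices H : PS 4 F.Iso ∧ (4 ≤ Fintype.card K → PS 3 F.Iso) by
    by_cases h4 : 4 ≤ Fintype.card K
    · exact ps_up (a := 2) (b := 3) (FR.dS_two_le h) F.PI_le_Aut (ps_map _ (H.2 h4))
    refine ps_up (a := 1) (b := 4) ?_ F.PI_le_Aut (ps_map _ H.1)
    have h1 : F.Aut ≤ F.Aut ⊓ Lin A := by
      refine le_inf le_rfl fun γ _ z hz => ?_
      obtain ⟨c, rfl⟩ := exists_smul e hz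
      by_cases h0 : c = 0
      · simp [h0]
      have h2 : c ^ 2 = 1 := by
        have h3 := FiniteField.pow_card_sub_one_eq_one c h0
        rcases Vec.card_cases K with h5 | h5 | h5
        · rw [h5, pow_one] at h3
          rw [h3, one_pow]
        · rwa [h5] at h3
        · exact absurd h5 h4
      rcases sq_eq_one_iff.1 h2 with rfl | rfl
      · rw [one_smul, map_one, map_one]
      · have h5 : (-1 : K) • (1 : End K (Fin n → K)) = -1 := LinearMap.ext fun v => by simp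
        rw [h5, map_neg, map_one, map_neg, map_one]
    exact (Subgroup.commutator_mono h1 h1).trans (FR.commutator_lin_le h)
  have hS : F.L = Lmax A → b.IsAlt → PS 4 F.Iso ∧ (4 ≤ Fintype.card K → PS 3 F.Iso) := by
    intro hL ha
    obtain ⟨φ⟩ := equiv_of e (U := F.Iso) (X := Vec.Isom K fun v w => b v w) fun u =>
      ⟨fun hu => (unitary_iff hr hadj u).1 hu.1, fun hu => mem_Iso_of_max hL ((unitary_iff hr hadj u).2 hu)⟩
    have h1 := PS.of_equiv φ (Vec.ps_isom_alt b ha hs)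
    exact ⟨h1.mono (by norm_num), fun _ => h1⟩
  have hO : F.L = Lmin A → (∀ v w, b w v = b v w) → PS 4 F.Iso ∧ (4 ≤ Fintype.card K → PS 3 F.Iso) := by
    intro hL hb
    let Q : QuadraticForm K (Fin n → K) := LinearMap.BilinMap.toQuadraticMap (b.compl₂ (e F.l))
    have hQ : ∀ v, Q v = b v (e F.l v) := fun _ => rfl
    have hpol : ∀ v w, QuadraticMap.polar Q v w = b v w := by
      intro v w
      rw [LinearMap.BilinMap.polar_toQuadraticMap, LinearMap.compl₂_apply, LinearMap.compl₂_apply, hb (e F.l v), hadj,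
        ← map_add, ← LinearMap.add_apply, ← map_add, F.l_add, map_one, End.one_apply]
    have hmin : ∀ x, x ∈ Lmin A ↔ ∀ v, b v (e x v) = 0 := by
      intro x
      constructor
      · rintro ⟨a, rfl⟩ v
        rw [map_sub, LinearMap.sub_apply, map_sub, ← hadj, hb, sub_self]
      · intro hx
        obtain ⟨β, hβ⟩ := Fwd.exists_half (b.compl₂ (e x)) hx
        have hnd : b.Nondegenerate := ⟨hs, hr⟩
        obtain ⟨a, ha⟩ := e.surjective ((b.toDual hnd).symm.toLinearMap.comp β.flip)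
        have ha' : ∀ v w, b (e a w) v = β v w := fun v w => by
          rw [ha]
          exact LinearMap.BilinForm.apply_toDual_symm_apply (hB := hnd) (β.flip w) v
        refine ⟨a, e.injective (LinearMap.ext fun w => ?_)⟩
        rw [← sub_eq_zero]
        refine hr _ fun v => ?_
        rw [map_sub, map_sub, LinearMap.sub_apply, map_sub, ← hadj, ha', hb (e a w), ha', hβ, LinearMap.compl₂_apply,
          sub_self]
    have hQu : ∀ (u : A) v, b v (e (u * F.l * star u - F.l) v) = Q (e (star u) v) - Q v := by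
      intro u v
      rw [hQ, hQ, hadj, star_star, map_sub, LinearMap.sub_apply, map_sub, map_mul, map_mul]
      rfl
    obtain ⟨φ⟩ := equiv_of e (U := F.Iso) (X := LieClassical.OrthCore.O Q) fun u => by
      rw [LieClassical.OrthCore.mem_O]
      constructor
      · intro hu v
        have h1 := hu.2
        rw [hL, hmin] at h1
        have h2 := h1 (e u v)
        rw [hQu, ← End.mul_apply, ← map_mul, FR.Iso.sm hu, map_one, End.one_apply, sub_eq_zero] at h2
        exact h2.symm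
      · intro hu
        have h1 : (u : A) * star (u : A) = 1 := (unitary_iff hr hadj u).2 fun v w =>
          (hpol _ _).symm.trans ((LieClassical.OrthCore.polar_map hu v w).trans (hpol v w))
        refine ⟨h1, ?_⟩
        rw [hL, hmin]
        intro v
        rw [hQu, ← hu, toLE_apply, ← End.mul_apply, ← map_mul, h1, map_one, End.one_apply, sub_self]
    obtain ⟨h1, h2⟩ := Vec.ps_O Q fun x hx => hs x fun y => by rw [← hpol, hx]
    exact ⟨PS.of_equiv φ h1, fun h4 => (PS.of_equiv φ (h2 h4)).mono (by norm_num)⟩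
  by_cases h2 : (2 : K) = 0
  · have hb' : ∀ v w, b w v = b v w := by
      rcases hb with hb | hb
      · exact hb
      · intro v w
        linear_combination hb v w - b v w * h2
    rcases F.par with hL | hL
    · exact hO hL hb'
    · refine hS hL fun v => ?_
      have h3 : b v v = b v (e (F.l + star F.l) v) := by rw [F.l_add, map_one, End.one_apply]
      rw [map_add, LinearMap.add_apply, map_add, ← hadj, hb' (e F.l v)] at h3
      linear_combination h3 + b (e F.l v) v * h2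
  · have h3 : e.symm ((2 : K)⁻¹ • 1) + star (e.symm ((2 : K)⁻¹ • 1)) = 1 := by
      rw [hst, RingHom.id_apply, ← map_add, ← add_smul, ← two_mul, mul_inv_cancel₀ h2, one_smul, map_one]
    have hL := F.L_eq (cen_smul e _) h3
    rcases hb with hb | hb
    · exact hO (hL.trans (Lmin_eq_Lmax (cen_smul e _) h3).symm) hb
    · refine hS hL fun v => ?_
      have h4 : 2 * b v v = 0 := by linear_combination hb v v
      exact (mul_eq_zero.1 h4).resolve_left h2

theorem boxP5 : BoxP5 := by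
  intro A _ _ _ h F
  rcases exists_model h with hM | hM | hM
  · exact p5_L h F hM
  · exact p5_U h F hM
  · exact p5_B h F hM

end Cfsg.Agent.DS.Cl.P5
end

-- part: DS/Cl/ExtR
section
prune_inst 0xc0103a440862000000180500300004643e000192006b84001c80074006c7d74020050f21e5e01812103a0f5420340008111800800220000000000800011d00a090080000c00a0804060001801887180c00000000000000000000000000041004000000000
set_option linter.all false
open scoped Cfsg.Agent.FastGrp

-- part: DS/Cl/ExtL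
section
/-!
# `BoxExt`, groups of symplectic type: the lifting lemma (helper98)

`H` is a finite group, `U` its centre, `H / U` is elementary abelian of exponent `r`.  An automorphism of `H / U`
preserving commutators and `r`-th powers (modulo `U ^ r`) lifts to an automorphism of `H` fixing `U` pointwise.
-/

set_option autoImplicit false

namespace Cfsg.Agent.DS.Cl.Ext

open scoped commutatorElement Pointwise

variable {H : Type*} [Group H]

/-- `U` is the cyclic centre of `H`, and `H / U` is a non-trivial elementary abelian `r`-group -/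
structure Sty (U : Subgroup H) (r : ℕ) : Prop where
  prime : r.Prime
  central : ∀ c ∈ U, ∀ x, x * c = c * x
  comm : ∀ x y : H, ⁅x, y⁆ ∈ U
  pow : ∀ x, x ^ r ∈ U
  nd : ∀ x, (∀ y, x * y = y * x) → x ∈ U
  cyc : IsCyclic U
  ne : ∃ x, x ∉ U

/-- the automorphisms fixing `U` pointwise -/
def Fix (U : Subgroup H) : Subgroup (MulAut H) where
  carrier := {φ | ∀ c ∈ U, φ c = c}
  mul_mem' := fun {φ ψ} hφ hψ c hc => by
    rw [MulAut.mul_apply, hψ c hc, hφ c hc]
  one_mem' := fun _ _ => rfl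
  inv_mem' := fun {φ} hφ c hc => by
    apply φ.injective
    rw [MulAut.apply_inv_self, hφ c hc]

/-- `π` is the projection onto `H / U`, written additively -/
structure Pr {V : Type*} [AddCommGroup V] (U : Subgroup H) (π : H → V) : Prop where
  mul : ∀ x y, π (x * y) = π x + π y
  surj : Function.Surjective π
  ker : ∀ x, π x = 0 ↔ x ∈ U

namespace Pr

variable {V : Type*} [AddCommGroup V] {U : Subgroup H} {π : H → V} (hπ : Pr U π)
include hπ

theorem one : π 1 = 0 := (hπ.ker 1).2 U.one_mem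

theorem inv (x : H) : π x⁻¹ = -π x := by
  rw [eq_neg_iff_add_eq_zero, ← hπ.mul, inv_mul_cancel, hπ.one]

theorem mul_mem (x : H) {c : H} (hc : c ∈ U) : π (x * c) = π x := by
  rw [hπ.mul, (hπ.ker c).2 hc, add_zero]

theorem exists_of_eq {x y : H} (h : π x = π y) : ∃ c ∈ U, y = x * c := by
  refine ⟨x⁻¹ * y, ?_, by group⟩
  rw [← hπ.ker, hπ.mul, hπ.inv, h, neg_add_cancel]

end Pr

namespace Sty

variable {U : Subgroup H} {r : ℕ} (h : Sty U r)
include h

theorem comm_mul_left (x x' y : H) : ⁅x * x', y⁆ = ⁅x, y⁆ * ⁅x', y⁆ := by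
  have h1 := h.central _ (h.comm x' y)
  calc ⁅x * x', y⁆ = x * ⁅x', y⁆ * (y * x⁻¹ * y⁻¹) := by simp only [commutatorElement_def]; group
    _ = x * (y * x⁻¹ * y⁻¹) * ⁅x', y⁆ := by rw [mul_assoc x, ← h1, ← mul_assoc]
    _ = _ := by simp only [commutatorElement_def]; group

theorem comm_mul_right (x y y' : H) : ⁅x, y * y'⁆ = ⁅x, y⁆ * ⁅x, y'⁆ := by
  rw [← commutatorElement_inv, h.comm_mul_left, mul_inv_rev, commutatorElement_inv, commutatorElement_inv,
    h.central _ (h.comm x y)]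

theorem comm_eq_one_left {c : H} (hc : c ∈ U) (y : H) : ⁅c, y⁆ = 1 :=
  commutatorElement_eq_one_iff_mul_comm.2 (h.central c hc y).symm

theorem comm_eq_one_right (x : H) {c : H} (hc : c ∈ U) : ⁅x, c⁆ = 1 :=
  commutatorElement_eq_one_iff_mul_comm.2 (h.central c hc x)

theorem comm_pow_left (x y : H) (n : ℕ) : ⁅x ^ n, y⁆ = ⁅x, y⁆ ^ n := by
  induction n with
  | zero => simp
  | succ n ih => rw [pow_succ, h.comm_mul_left, ih, pow_succ]

theorem comm_pow_r (x y : H) : ⁅x, y⁆ ^ r = 1 := by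
  rw [← h.comm_pow_left, h.comm_eq_one_left (h.pow x)]

theorem mul_pow (x y : H) (n : ℕ) : (x * y) ^ n = x ^ n * y ^ n * ⁅y, x⁆ ^ n.choose 2 := by
  induction n with
  | zero => simp
  | succ n ih =>
    have h1 : y ^ n * x = ⁅y, x⁆ ^ n * (x * y ^ n) := by
      rw [← h.comm_pow_left, commutatorElement_def]; group
    have h2 := h.central _ (U.pow_mem (h.comm y x) (n.choose 2))
    have h3 := h.central _ (U.pow_mem (h.comm y x) n)
    have h4 : (n + 1).choose 2 = n + n.choose 2 := by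
      rw [Nat.choose_succ_succ' n 1, Nat.choose_one_right]
    rw [pow_succ, ih, h4, pow_add ⁅y, x⁆, pow_succ x, pow_succ y]
    generalize ⁅y, x⁆ ^ n.choose 2 = d at h2 ⊢
    generalize ⁅y, x⁆ ^ n = e at h1 h3 ⊢
    calc x ^ n * y ^ n * d * (x * y) = x ^ n * (y ^ n * x) * y * d := by
          rw [mul_assoc, ← h2]; simp only [mul_assoc]
      _ = x ^ n * (x * y ^ n * e) * y * d := by rw [h1, h3]
      _ = x ^ n * (x * y ^ n) * (e * y) * d := by simp only [mul_assoc]
      _ = _ := by rw [← h3]; simp only [mul_assoc]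

theorem mul_pow_of_mem (x : H) {c : H} (hc : c ∈ U) (n : ℕ) : (x * c) ^ n = x ^ n * c ^ n :=
  Commute.mul_pow (h.central c hc x) n

theorem exists_comm_ne : ∃ x y : H, ⁅x, y⁆ ≠ 1 := by
  obtain ⟨x, hx⟩ := h.ne
  by_contra hc
  push Not at hc
  exact hx (h.nd x fun y => commutatorElement_eq_one_iff_mul_comm.1 (hc x y))

/-- **The lifting lemma.** -/
theorem exists_lift [Finite H] {V : Type*} [AddCommGroup V] {π : H → V} (hπ : Pr U π) (α : V ≃+ V)
    (h1 : ∀ x y x' y', π x' = α (π x) → π y' = α (π y) → ⁅x', y'⁆ = ⁅x, y⁆)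
    (h2 : ∀ x x', π x' = α (π x) → ∃ c ∈ U, x' ^ r = x ^ r * c ^ r) :
    ∃ φ ∈ Fix U, ∀ x, π (φ x) = α (π x) := by
  let P : Subgroup (H × H) :=
    { carrier := {p | π p.2 = α (π p.1)}
      mul_mem' := fun {p q} (hp : π p.2 = α (π p.1)) (hq : π q.2 = α (π q.1)) => by
        show π (p.2 * q.2) = α (π (p.1 * q.1))
        rw [hπ.mul, hπ.mul, map_add, hp, hq]
      one_mem' := by
        show π 1 = α (π 1)
        rw [hπ.one, map_zero]
      inv_mem' := fun {p} (hp : π p.2 = α (π p.1)) => by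
        show π p.2⁻¹ = α (π p.1⁻¹)
        rw [hπ.inv, hπ.inv, map_neg, hp] }
  have hP : ∀ p : H × H, p ∈ P ↔ π p.2 = α (π p.1) := fun _ => Iff.rfl
  obtain ⟨Γ, ⟨hΓP, hΓU, hΓ1⟩, hmax⟩ := WellFounded.has_min (wellFounded_gt (α := Subgroup (H × H)))
    {Γ | Γ ≤ P ∧ (∀ c ∈ U, (c, c) ∈ Γ) ∧ ∀ y, (1, y) ∈ Γ → y = 1}
    ⟨U.map ((MonoidHom.id H).prod (MonoidHom.id H)), by
      rintro _ ⟨c, hc, rfl⟩
      show π c = α (π c)
      rw [(hπ.ker c).2 hc, map_zero], fun c hc => ⟨c, hc, rfl⟩, by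
      rintro y ⟨c, -, hc⟩
      have h3 : c = 1 := congrArg Prod.fst hc
      have h4 : c = y := congrArg Prod.snd hc
      rw [← h4, h3]⟩
  have hall : ∀ x, ∃ y, (x, y) ∈ Γ := by
    intro x
    by_contra hx
    obtain ⟨y0, hy0⟩ := hπ.surj (α (π x))
    obtain ⟨c, hc, hcy⟩ := h2 x y0 hy0
    have hy : (y0 * c⁻¹) ^ r = x ^ r := by
      rw [h.mul_pow_of_mem _ (U.inv_mem hc), hcy, inv_pow, mul_inv_cancel_right]
    have hgP : (x, y0 * c⁻¹) ∈ P := by
      show π (y0 * c⁻¹) = α (π x)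
      rw [hπ.mul_mem _ (U.inv_mem hc), hy0]
    set g : H × H := (x, y0 * c⁻¹) with hg
    have hgr : g ^ r ∈ Γ := by
      have : g ^ r = (x ^ r, x ^ r) := Prod.ext rfl hy
      rw [this]
      exact hΓU _ (h.pow x)
    have hPn : P ≤ Subgroup.normalizer (Γ : Set (H × H)) := by
      have key : ∀ p ∈ P, ∀ q ∈ Γ, p * q * p⁻¹ ∈ Γ := by
        intro p hp q hq
        have e : p * q * p⁻¹ = (⁅p.1, q.1⁆, ⁅p.1, q.1⁆) * q := by
          refine Prod.ext ?_ ?_
          · show p.1 * q.1 * p.1⁻¹ = ⁅p.1, q.1⁆ * q.1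
            rw [commutatorElement_def]; group
          · show p.2 * q.2 * p.2⁻¹ = ⁅p.1, q.1⁆ * q.2
            rw [← h1 _ _ _ _ hp (hΓP hq), commutatorElement_def]; group
        rw [e]
        exact Γ.mul_mem (hΓU _ (h.comm _ _)) hq
      intro p hp
      rw [Subgroup.mem_normalizer_iff]
      intro q
      refine ⟨key p hp q, fun hq => ?_⟩
      have := key p⁻¹ (P.inv_mem hp) _ hq
      simpa only [mul_assoc, _root_.inv_mul_cancel_left, _root_.inv_inv, _root_.inv_mul_cancel, _root_.mul_one] using this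
    have hzP : Subgroup.zpowers g ≤ P := by
      rw [Subgroup.zpowers_le]; exact hgP
    have hsup := Subgroup.coe_mul_of_right_le_normalizer_left Γ (Subgroup.zpowers g) (hzP.trans hPn)
    refine hmax (Γ ⊔ Subgroup.zpowers g) ⟨sup_le hΓP hzP, fun c hc => Subgroup.mem_sup_left (hΓU c hc), ?_⟩ ?_
    · intro y hy'
      have hy2 : (1, y) ∈ ((Γ : Set (H × H)) * (Subgroup.zpowers g : Set (H × H))) := hsup ▸ hy'
      obtain ⟨q, hq, _, ⟨k, rfl⟩, hqk⟩ := hy2
      have hqk' : q * g ^ k = (1, y) := hqk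
      by_cases hk : (r : ℤ) ∣ k
      · obtain ⟨j, rfl⟩ := hk
        apply hΓ1
        rw [← hqk', zpow_mul, zpow_natCast]
        exact Γ.mul_mem hq (Γ.zpow_mem hgr j)
      · exfalso
        have hcop : IsCoprime (r : ℤ) k :=
          (Nat.prime_iff_prime_int.1 h.prime).irreducible.coprime_iff_not_dvd.2 hk
        obtain ⟨a, b, hab⟩ := hcop
        have h5 : x ^ k = q.1⁻¹ := by
          have h6 : q.1 * x ^ k = 1 := congrArg Prod.fst hqk'
          exact (eq_inv_of_mul_eq_one_right h6)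
        have h6 : x ∈ Γ.map (MonoidHom.fst H H) := by
          have e : x = (x ^ r) ^ a * (x ^ k) ^ b := by
            rw [← zpow_natCast, ← zpow_mul, ← zpow_mul, ← zpow_add, mul_comm (r : ℤ), mul_comm k, hab, zpow_one]
          rw [e]
          refine Subgroup.mul_mem _ (Subgroup.zpow_mem _ (Subgroup.mem_map.2 ⟨g ^ r, hgr, rfl⟩) _)
            (Subgroup.zpow_mem _ ?_ _)
          rw [h5]
          exact Subgroup.inv_mem _ (Subgroup.mem_map.2 ⟨q, hq, rfl⟩)
        obtain ⟨p, hp, hpx⟩ := h6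
        exact hx ⟨p.2, by rw [← show p.1 = x from hpx]; exact hp⟩
    · refine lt_of_le_of_ne le_sup_left fun he => hx ⟨y0 * c⁻¹, ?_⟩
      rw [he]
      exact Subgroup.mem_sup_right (Subgroup.mem_zpowers g)
  choose f hf using hall
  have huniq : ∀ x y, (x, y) ∈ Γ → f x = y := by
    intro x y hxy
    have h3 : (1, y⁻¹ * f x) ∈ Γ := by
      have := Γ.mul_mem (Γ.inv_mem hxy) (hf x)
      simpa using this
    exact (inv_mul_eq_one.1 (hΓ1 _ h3)).symm
  let φ : H →* H := MonoidHom.mk' f fun x y => huniq _ _ (Γ.mul_mem (hf x) (hf y))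
  have hφU : ∀ c ∈ U, φ c = c := fun c hc => huniq _ _ (hΓU c hc)
  have hφπ : ∀ x, π (φ x) = α (π x) := fun x => hΓP (hf x)
  have hinj : Function.Injective φ := by
    rw [injective_iff_map_eq_one]
    intro x hx
    have h3 : x ∈ U := by
      rw [← hπ.ker, ← α.map_eq_zero_iff, ← hφπ, hx, hπ.one]
    rw [← hφU x h3, hx]
  exact ⟨MulEquiv.ofBijective φ (Finite.injective_iff_bijective.1 hinj), hφU, hφπ⟩

end Sty

end Cfsg.Agent.DS.Cl.Ext
end

-- part: DS/Cl/ExtR
section
/-!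
# `BoxExt`: the ring as a twisted group ring (helper98)

`Nh F N` is the group of the isometries inducing elements of `N`, `Uh F N` the subgroup of the central ones.  Every
automorphism of `Nh F N` fixing `Uh F N` pointwise extends to an automorphism of the ring (`exists_ext`).
-/

set_option autoImplicit false

namespace Cfsg.Agent.DS.Cl.Ext

open Cfsg.Agent.DS.Cl
open scoped commutatorElement

variable {A : Type} [Ring A] [StarRing A]

omit [StarRing A] in
theorem cj_eq_one_iff {u : Aˣ} : cj A u = 1 ↔ (u : A) ∈ Subring.center A := by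
  rw [Subring.mem_center_iff]
  constructor
  · intro h x
    have h1 : (u : A) * x * (u⁻¹ : Aˣ) = x := congrArg (fun γ : RingAut A => γ x) h
    rw [Units.mul_inv_eq_iff_eq_mul] at h1
    exact h1.symm
  · intro h
    ext x
    change (u : A) * x * (u⁻¹ : Aˣ) = x
    rw [← h, Units.mul_inv_cancel_right]

omit [StarRing A] in
theorem conj_cj (γ : RingAut A) (u : Aˣ) : γ * cj A u * γ⁻¹ = cj A (Units.map (γ : A →* A) u) := by
  ext x
  change γ ((u : A) * γ.symm x * (u⁻¹ : Aˣ)) = γ u * x * γ (u⁻¹ : Aˣ)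
  rw [map_mul, map_mul, γ.apply_symm_apply]

variable (F : FR A) (N : Subgroup (RingAut A))

/-- the isometries inducing elements of `N` -/
def Nh : Subgroup Aˣ := N.comap (cj A) ⊓ F.Iso

/-- the central isometries -/
def Uh : Subgroup (Nh F N) where
  carrier := {u | ((u : Aˣ) : A) ∈ Subring.center A}
  mul_mem' := fun hu hv => (Subring.center A).mul_mem hu hv
  one_mem' := (Subring.center A).one_mem
  inv_mem' := fun hu => inv_cen hu

/-- the lifts of the elements of `N` and the centre generate the ring -/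
def Sp : Prop :=
  Subring.closure ((Subring.center A : Set A) ∪ {a | ∃ u ∈ F.Iso, cj A u ∈ N ∧ (u : A) = a}) = ⊤

variable {F N}

theorem mem_Uh {u : Nh F N} : u ∈ Uh F N ↔ ((u : Aˣ) : A) ∈ Subring.center A := Iff.rfl

theorem mul_star (u : Nh F N) : ((u : Aˣ) : A) * star ((u : Aˣ) : A) = 1 := u.2.2.1

theorem star_eq (u : Nh F N) : star ((u : Aˣ) : A) = (((u⁻¹ : Nh F N) : Aˣ) : A) := by
  change _ = (((u : Aˣ)⁻¹ : Aˣ) : A)
  rw [← mul_one (((u : Aˣ)⁻¹ : Aˣ) : A), ← mul_star u, ← mul_assoc, Units.inv_mul, one_mul]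

theorem Sp.ind (hsp : Sp F N) {P : A → Prop} (h1 : ∀ c ∈ Subring.center A, ∀ u : Nh F N, P (c * (u : Aˣ)))
    (h2 : ∀ a b, P a → P b → P (a + b)) (a : A) : P a := by
  let T : Submonoid A :=
    { carrier := {a | ∃ c ∈ Subring.center A, ∃ u : Nh F N, a = c * (u : Aˣ)}
      mul_mem' := by
        rintro _ _ ⟨c, hc, u, rfl⟩ ⟨d, hd, v, rfl⟩
        refine ⟨c * d, Subring.mul_mem _ hc hd, u * v, ?_⟩
        rw [Subgroup.coe_mul, Units.val_mul, mul_assoc, mul_assoc, ← mul_assoc _ d, cen_comm hd, mul_assoc]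
      one_mem' := ⟨1, Subring.one_mem _, 1, by simp only [_root_.OneMemClass.coe_one, _root_.Units.val_one, _root_.mul_one]⟩ }
  have h3 : Submonoid.closure ((Subring.center A : Set A) ∪ {a | ∃ u ∈ F.Iso, cj A u ∈ N ∧ (u : A) = a}) ≤ T := by
    rw [Submonoid.closure_le]
    rintro a (ha | ⟨u, hu, hu', rfl⟩)
    · exact ⟨a, ha, 1, by simp only [_root_.OneMemClass.coe_one, _root_.Units.val_one, _root_.mul_one]⟩
    · exact ⟨1, Subring.one_mem _, ⟨u, hu', hu⟩, (one_mul _).symm⟩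
  have h4 : a ∈ AddSubgroup.closure (T : Set A) := by
    have h5 : a ∈ Subring.closure ((Subring.center A : Set A) ∪ {a | ∃ u ∈ F.Iso, cj A u ∈ N ∧ (u : A) = a}) := by
      rw [show Subring.closure _ = ⊤ from hsp]; trivial
    rw [Subring.mem_closure_iff] at h5
    exact AddSubgroup.closure_mono h3 h5
  suffices h5 : P a ∧ P (-a) from h5.1
  induction h4 using AddSubgroup.closure_induction with
  | mem x hx =>
    obtain ⟨c, hc, u, rfl⟩ := hx
    exact ⟨h1 c hc u, by rw [← neg_mul]; exact h1 _ (Subring.neg_mem _ hc) u⟩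
  | zero =>
    have := h1 0 (Subring.zero_mem _) 1
    rw [zero_mul] at this
    exact ⟨this, by rwa [neg_zero]⟩
  | add x y _ _ hx hy => exact ⟨h2 _ _ hx.1 hy.1, by rw [neg_add]; exact h2 _ _ hx.2 hy.2⟩
  | neg x _ hx => exact ⟨hx.2, by rw [neg_neg]; exact hx.1⟩

theorem sty_of [Finite A] (hA : SS A) (hN : N ≤ F.Iso.map (cj A)) (hne : N ≠ ⊥)
    (hc : ∀ x ∈ N, ∀ y ∈ N, x * y = y * x) {r : ℕ} (hr : r.Prime) (hp : ∀ x ∈ N, x ^ r = 1) (hsp : Sp F N) :
    Sty (Uh F N) r where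
  prime := hr
  central := fun c hc x => Subtype.ext (Units.ext (cen_comm hc _))
  comm := fun x y => by
    rw [mem_Uh, ← cj_eq_one_iff]
    change cj A ⁅(x : Aˣ), (y : Aˣ)⁆ = 1
    rw [map_commutatorElement, commutatorElement_eq_one_iff_mul_comm]
    exact hc _ x.2.1 _ y.2.1
  pow := fun x => by
    rw [mem_Uh, ← cj_eq_one_iff, Subgroup.coe_pow, map_pow]
    exact hp _ x.2.1
  nd := fun x hx => by
    rw [mem_Uh, Subring.mem_center_iff]
    refine hsp.ind (fun c hc u => ?_) fun a b ha hb => by rw [add_mul, mul_add, ha, hb]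
    have h1 : ((x : Aˣ) : A) * (u : Aˣ) = (u : Aˣ) * (x : Aˣ) := congrArg (fun z : Nh F N => ((z : Aˣ) : A)) (hx u)
    rw [mul_assoc, ← h1, ← mul_assoc, ← mul_assoc, cen_comm hc]
  cyc := isCyclic_of_cen hA ((Units.coeHom A).comp ((Nh F N).subtype.comp (Uh F N).subtype))
    (Units.val_injective.comp (Subtype.val_injective.comp Subtype.val_injective)) (fun x => x.2) fun x => mul_star x.1
  ne := by
    obtain ⟨x, hx, hx1⟩ := (N.bot_or_exists_ne_one).resolve_left hne
    obtain ⟨u, hu, rfl⟩ := hN hx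
    exact ⟨⟨u, hx, hu⟩, fun h => hx1 (cj_eq_one_iff.2 h)⟩

section ext

variable {r : ℕ} (hA : SS A) (h : Sty (Uh F N) r)
include hA h

theorem L_eq : F.L = Lmax A := by
  obtain ⟨x, y, hxy⟩ := h.exists_comm_ne
  have hc : (((⁅x, y⁆ : Nh F N) : Aˣ) : A) ∈ Subring.center A := h.comm x y
  have hs := mul_star ⁅x, y⁆
  have hne : (((⁅x, y⁆ : Nh F N) : Aˣ) : A) ≠ 1 := fun he => hxy (Subtype.ext (Units.ext he))
  generalize (((⁅x, y⁆ : Nh F N) : Aˣ) : A) = z at hc hs hne
  obtain ⟨w, hw⟩ := isUnit_sub_one hA hc hs hne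
  have hw' : (w : A) ∈ Subring.center A := hw ▸ Subring.sub_mem _ hc (Subring.one_mem _)
  have h1 : (z - 1) * ((w⁻¹ : Aˣ) : A) = 1 := by rw [← hw, Units.mul_inv]
  have h2 : star ((w⁻¹ : Aˣ) : A) * (star z - 1) = 1 := by
    have := congrArg star h1
    rwa [star_mul, star_sub, star_one] at this
  have h3 : (star z - 1) * (-(z * ((w⁻¹ : Aˣ) : A))) = 1 := by
    calc (star z - 1) * (-(z * ((w⁻¹ : Aˣ) : A))) = (z - star z * z) * ((w⁻¹ : Aˣ) : A) := by noncomm_ring
      _ = 1 := by rw [cen_comm hc, hs, h1]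
  have h4 : star ((w⁻¹ : Aˣ) : A) = -(z * ((w⁻¹ : Aˣ) : A)) := by
    rw [← mul_one (star _), ← h3, ← mul_assoc, h2, one_mul]
  refine F.L_eq (c := -((w⁻¹ : Aˣ) : A)) (Subring.neg_mem _ (inv_cen hw')) ?_
  rw [star_neg, h4, ← h1]
  noncomm_ring

theorem indep {ι : Type*} (s : ι → Nh F N) (hs : ∀ i j, s i * (s j)⁻¹ ∈ Uh F N → i = j) (t : Finset ι) :
    ∀ g : ι → A, (∀ i, g i ∈ Subring.center A) → ∑ i ∈ t, g i * (s i : Aˣ) = 0 → ∀ i ∈ t, g i = 0 := by
  classical
  induction t using Finset.induction_on with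
  | empty => intro g _ _ i hi; simp at hi
  | insert a t ha ih =>
    intro g hg h0
    have key : ∀ i ∈ t, g i = 0 := by
      intro i hi
      obtain ⟨x, hx⟩ : ∃ x, ⁅x, s i * (s a)⁻¹⁆ ≠ 1 := by
        by_contra hc
        push Not at hc
        have := hs _ _ (h.nd _ fun y => (commutatorElement_eq_one_iff_mul_comm.1 (hc y)).symm)
        exact ha (this ▸ hi)
      let κ : ι → A := fun j => ((⁅x, s j⁆ : Nh F N) : Aˣ)
      have hκ : ∀ j, κ j ∈ Subring.center A := fun j => h.comm x (s j)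
      have h1 : ∀ j, ((x : Aˣ) : A) * (g j * (s j : Aˣ)) * ((x⁻¹ : Nh F N) : Aˣ) = κ j * g j * (s j : Aˣ) := by
        intro j
        have e : x * s j * x⁻¹ = ⁅x, s j⁆ * s j := by rw [commutatorElement_def]; group
        have e' : ((x : Aˣ) : A) * (s j : Aˣ) * ((x⁻¹ : Nh F N) : Aˣ) = κ j * (s j : Aˣ) :=
          congrArg (fun z : Nh F N => ((z : Aˣ) : A)) e
        rw [← mul_assoc, cen_comm (hg j), mul_assoc, mul_assoc, ← mul_assoc _ ((s j : Aˣ) : A), e', ← mul_assoc,
          cen_comm (hκ j)]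
      have h2 : ∑ j ∈ insert a t, κ j * g j * (s j : Aˣ) = 0 := by
        simp only [← h1]
        rw [← Finset.sum_mul, ← Finset.mul_sum, h0, mul_zero, zero_mul]
      have h3 : ∑ j ∈ insert a t, (κ j - κ a) * g j * (s j : Aˣ) = 0 := by
        simp only [sub_mul, Finset.sum_sub_distrib, h2, mul_assoc (κ a)]
        rw [← Finset.mul_sum, h0, mul_zero, sub_zero]
      rw [Finset.sum_insert ha, sub_self, zero_mul, zero_mul, zero_add] at h3
      have h4 := ih _ (fun j => Subring.mul_mem _ (Subring.sub_mem _ (hκ j) (hκ a)) (hg j)) h3 i hi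
      have h5 : κ i - κ a = ((((⁅x, s i * (s a)⁻¹⁆ : Nh F N) : Aˣ) : A) - 1) * κ a := by
        have e : ⁅x, s i⁆ = ⁅x, s i * (s a)⁻¹⁆ * ⁅x, s a⁆ := by rw [← h.comm_mul_right, inv_mul_cancel_right]
        have e' : κ i = (((⁅x, s i * (s a)⁻¹⁆ : Nh F N) : Aˣ) : A) * κ a :=
          congrArg (fun z : Nh F N => ((z : Aˣ) : A)) e
        rw [e', sub_mul, one_mul]
      have h6 : IsUnit (κ i - κ a) := by
        rw [h5]
        exact (isUnit_sub_one hA (h.comm _ _) (mul_star _) fun he => hx (Subtype.ext (Units.ext he))).mul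
          (Units.isUnit _)
      exact (h6.mul_right_eq_zero).1 h4
    have h7 : g a = 0 := by
      rw [Finset.sum_insert ha, Finset.sum_eq_zero (fun i hi => by rw [key i hi, zero_mul]), add_zero] at h0
      exact (Units.mul_left_eq_zero _).1 h0
    intro i hi
    rcases Finset.mem_insert.1 hi with rfl | hi
    · exact h7
    · exact key i hi

theorem exists_add [Finite A] (hsp : Sp F N) {φ : MulAut (Nh F N)} (hφ : φ ∈ Fix (Uh F N)) :
    ∃ g : A →+ A, ∀ c ∈ Subring.center A, ∀ u : Nh F N, g (c * (u : Aˣ)) = c * (φ u : Aˣ) := by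
  classical
  have : Finite (Nh F N) := Finite.of_injective (fun u : Nh F N => ((u : Aˣ) : A))
    (Units.val_injective.comp Subtype.val_injective)
  let : Fintype (Nh F N ⧸ Uh F N) := Fintype.ofFinite _
  let s : Nh F N ⧸ Uh F N → Nh F N := Quotient.out
  have hs : ∀ i j, s i * (s j)⁻¹ ∈ Uh F N → i = j := by
    intro i j hij
    rw [← Quotient.out_eq i, ← Quotient.out_eq j]
    refine (QuotientGroup.eq.2 ?_).symm
    have e : (s j)⁻¹ * s i = s i * (s j)⁻¹ := by
      rw [inv_mul_eq_iff_eq_mul, h.central _ hij, inv_mul_cancel_right]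
    change (s j)⁻¹ * s i ∈ _
    rwa [e]
  let Φ : (Nh F N ≃* Nh F N) → ((Nh F N ⧸ Uh F N) → Subring.center A) →+ A := fun ψ =>
    AddMonoidHom.mk' (fun g => ∑ i, (g i : A) * (ψ (s i) : Aˣ)) fun g g' => by
      rw [← Finset.sum_add_distrib]
      refine Finset.sum_congr rfl fun i _ => ?_
      rw [← add_mul]
      rfl
  have hΦ : ∀ c ∈ Subring.center A, ∀ u : Nh F N, ∃ g, ∀ ψ ∈ Fix (Uh F N), Φ ψ g = c * (ψ u : Aˣ) := by
    intro c hc u
    obtain ⟨d, hd⟩ := QuotientGroup.mk_out_eq_mul (Uh F N) u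
    have hd' : u = s (QuotientGroup.mk u) * (d⁻¹ : Uh F N) := by
      change u = Quotient.out _ * _
      rw [hd, Subgroup.coe_inv, mul_inv_cancel_right]
    refine ⟨Pi.single (QuotientGroup.mk u) ⟨c * (((d⁻¹ : Uh F N) : Nh F N) : Aˣ), Subring.mul_mem _ hc (d⁻¹).2⟩,
      fun ψ hψ => ?_⟩
    change ∑ i, _ = _
    rw [Finset.sum_eq_single (QuotientGroup.mk u) (fun i _ hi => by rw [Pi.single_eq_of_ne hi]; simp only [_root_.ZeroMemClass.coe_zero, _root_.MulZeroClass.zero_mul]) (by simp only [_root_.Finset.mem_univ, _root_.not_true_eq_false, _root_.InvMemClass.coe_inv, _root_.Pi.single_eq_same, _root_.Units.mul_left_eq_zero, _root_.IsEmpty.forall_iff]),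
      Pi.single_eq_same]
    conv_rhs => rw [hd', map_mul, hψ _ (d⁻¹).2, h.central _ (d⁻¹).2]
    rw [Subgroup.coe_mul, Units.val_mul, mul_assoc]
  have hbij : Function.Bijective (Φ 1) := by
    constructor
    · rw [injective_iff_map_eq_zero]
      intro g hg
      funext i
      exact Subtype.ext (indep hA h s hs Finset.univ (fun i => g i) (fun i => (g i).2) hg i (Finset.mem_univ i))
    · refine hsp.ind (fun c hc u => ?_) ?_
      · obtain ⟨g, hg⟩ := hΦ c hc u
        exact ⟨g, hg 1 (one_mem _)⟩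
      · rintro _ _ ⟨g, rfl⟩ ⟨g', rfl⟩
        exact ⟨g + g', map_add _ _ _⟩
  refine ⟨(Φ φ).comp (AddEquiv.ofBijective (Φ 1) hbij).symm.toAddMonoidHom, fun c hc u => ?_⟩
  obtain ⟨g, hg⟩ := hΦ c hc u
  have h1 : (AddEquiv.ofBijective (Φ 1) hbij).symm (c * (u : Aˣ)) = g := by
    rw [AddEquiv.symm_apply_eq]
    exact (hg 1 (one_mem _)).symm
  rw [← hg φ hφ, ← h1]
  rfl

theorem exists_ext [Finite A] (hsp : Sp F N) {φ : MulAut (Nh F N)} (hφ : φ ∈ Fix (Uh F N)) :
    ∃ γ ∈ F.Aut, γ ∈ Lin A ∧ ∀ u : Nh F N, γ (u : Aˣ) = (φ u : Aˣ) := by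
  obtain ⟨g, hg⟩ := exists_add hA h hsp hφ
  have h1 : ∀ u : Nh F N, g (u : Aˣ) = (φ u : Aˣ) := fun u => by simpa using hg 1 (Subring.one_mem _) u
  have h2 : ∀ c ∈ Subring.center A, g c = c := fun c hc => by simpa only [_root_.OneMemClass.coe_one, _root_.Units.val_one, _root_.mul_one, _root_.map_one] using hg c hc 1
  have h3 : ∀ a b, g (a * b) = g a * g b := by
    refine hsp.ind (fun c hc u => hsp.ind (fun d hd v => ?_) fun a b ha hb => ?_) fun a b ha hb x => ?_
    · have e : ∀ x y : A, c * x * (d * y) = c * d * (x * y) := fun x y => by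
        rw [mul_assoc, mul_assoc, ← mul_assoc _ d, cen_comm hd, mul_assoc]
      rw [hg c hc, hg d hd, e, e, ← Units.val_mul, ← Subgroup.coe_mul, hg _ (Subring.mul_mem _ hc hd), map_mul]
      rfl
    · rw [mul_add, map_add, ha, hb, map_add, mul_add]
    · rw [add_mul, map_add, ha, hb, map_add, add_mul]
  let g' : A →+* A := { g with map_one' := h2 1 (Subring.one_mem _), map_mul' := h3 }
  have hsurj : Function.Surjective g' := by
    refine hsp.ind (fun c hc u => ⟨c * (φ⁻¹ u : Aˣ), ?_⟩) ?_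
    · change g _ = _
      rw [hg c hc, MulAut.apply_inv_self]
    · rintro _ _ ⟨a, rfl⟩ ⟨b, rfl⟩
      exact ⟨a + b, map_add _ _ _⟩
  let γ : RingAut A := RingEquiv.ofBijective g' (Finite.surjective_iff_bijective.1 hsurj)
  have hs : γ ∈ SAut A := by
    refine hsp.ind (fun c hc u => ?_) fun a b ha hb => by rw [star_add, map_add, ha, hb, map_add, star_add]
    change g _ = star (g _)
    rw [hg c hc, star_mul, star_mul, cen_comm (star_cen hc), cen_comm (star_cen hc), star_eq, star_eq,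
      hg _ (star_cen hc), map_inv]
  refine ⟨γ, ⟨hs, ?_⟩, h2, h1⟩
  rw [L_eq hA h]
  change star (γ F.l - F.l) = -(γ F.l - F.l)
  rw [star_sub, ← hs, eq_sub_of_add_eq' F.l_add, map_sub, map_one]
  abel

end ext

end Cfsg.Agent.DS.Cl.Ext
end
end

-- part: DS/Cl/Ext
section
prune_inst 0x20004c4000220000000000120000002066000090000304008ca0094400814402080006002da00001000001004030000811080000420000000a000400000100209080400042020104060081800004000000000000000000000000000000000000000000000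
set_option linter.all false
open scoped Cfsg.Agent.FastGrp

-- part: DS/Cl/ExtV
section
/-!
# `BoxExt`, vector part (helper98)

The isometry group of a non-degenerate alternating form over a finite field, and the isometry group of a non-degenerate
quadratic form over the field with two elements, have `PS 6`.
-/

set_option autoImplicit false

namespace Cfsg.Agent.DS.Cl.Ext

open Cfsg Cfsg.Agent.H936 Cfsg.Agent.DS Cfsg.Agent.LieClassical Cfsg.Agent.ClassicalGeometry
open scoped Matrix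

variable {F V : Type*} [Field F] [AddCommGroup V] [Module F V]

/-- the isometry group of a bilinear form -/
def Isom (B : LinearMap.BilinForm F V) : Subgroup (V ≃ₗ[F] V) where
  carrier := {g | ∀ x y, B (g x) (g y) = B x y}
  mul_mem' := fun {g h} hg hh x y => by
    rw [LinearEquiv.mul_apply, LinearEquiv.mul_apply, hg, hh]
  one_mem' := fun _ _ => rfl
  inv_mem' := fun {g} hg x y => by
    have h1 := hg (g⁻¹ x) (g⁻¹ y)
    rw [← LinearEquiv.mul_apply, ← LinearEquiv.mul_apply, mul_inv_cancel] at h1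
    exact h1.symm

/-- Linear groups on at most 24 vectors. -/
theorem ps_small [Finite V] (h : Nat.card V ≤ 24) (X : Subgroup (V ≃ₗ[F] V)) : PS 6 X := by
  let f : X →* Equiv.Perm V := (MulAction.toPermHom (V ≃ₗ[F] V) V).comp X.subtype
  have hf : Function.Injective f := MulAction.toPerm_injective.comp X.subtype_injective
  haveI : Finite X := Finite.of_injective f hf
  exact Gen.ps_of_sd (Gen.SD.of_inj f hf (Gen.sd_perm_24 h))

/-- Symplectic groups. -/
theorem ps_sp [Finite F] [Finite V] (B : LinearMap.BilinForm F V) (hA : B.IsAlt)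
    (hnd : ∀ u, (∀ v, B u v = 0) → u = 0) : PS 6 (Isom B) := by
  classical
  letI : Fintype F := Fintype.ofFinite F
  obtain ⟨m, l, b, -, -, -, h4⟩ := Cfsg.Agent.S0752.result B hA
  have hl : l = 0 := by
    by_contra hl
    have := hnd _ (h4 ⟨0, Nat.pos_of_ne_zero hl⟩)
    exact b.ne_zero _ this
  subst hl
  have hm : Module.finrank F V = 2 * m := by
    have := Module.finrank_eq_card_basis b
    simp only [_root_.Fintype.card_sum, _root_.Fintype.card_fin, _root_.Fintype.card_eq_zero, _root_.add_zero] at this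
    omega
  by_cases h : 3 ≤ m ∨ (m = 2 ∧ 3 ≤ Fintype.card F) ∨ 4 ≤ Fintype.card F
  · obtain ⟨e, he⟩ := SympIso.exists_linearEquiv_sympForm B hA hnd hm
    have hperf := SympPerfect.commutator_eq_top h
    let g : Matrix.symplecticGroup (Fin m) F →* (V ≃ₗ[F] V) :=
      MonoidHom.toHomUnits (M := V →ₗ[F] V)
        { toFun := fun A => e.toLinearMap ∘ₗ Matrix.toLin' A.1 ∘ₗ e.symm.toLinearMap
          map_one' := by ext v; simp only [_root_.OneMemClass.coe_one, _root_.Matrix.toLin'_one, _root_.LinearMap.id_comp, _root_.LinearEquiv.comp_coe, _root_.LinearEquiv.symm_trans_self, _root_.LinearEquiv.refl_toLinearMap, _root_.LinearMap.id_coe, _root_.id_eq, _root_.Module.End.one_apply]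
          map_mul' := fun A A' => by ext v; simp only [_root_.Submonoid.coe_mul, _root_.Matrix.toLin'_mul, _root_.LinearMap.coe_comp, _root_.LinearEquiv.coe_coe, _root_.Function.comp_apply, _root_.Matrix.toLin'_apply, _root_.Matrix.mulVec_mulVec, _root_.Module.End.mul_apply, _root_.LinearEquiv.symm_apply_apply] } |>
        (LinearMap.GeneralLinearGroup.generalLinearEquiv F V).toMonoidHom.comp
    have hg : ∀ A v, g A v = e (A.1 *ᵥ e.symm v) := fun A v => rfl
    have hr : g.range = Isom B := by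
      ext x
      constructor
      · rintro ⟨A, rfl⟩ u v
        rw [hg, hg, he, SympBasic.sympForm_mulVec A.2, ← he, e.apply_symm_apply, e.apply_symm_apply]
      · intro hx
        refine ⟨⟨LinearMap.toMatrix' (e.symm.toLinearMap ∘ₗ x.toLinearMap ∘ₗ e.toLinearMap), ?_⟩, ?_⟩
        · rw [SympBasic.mem_symplecticGroup_iff]
          intro u v
          rw [← Matrix.toLin'_apply, ← Matrix.toLin'_apply, Matrix.toLin'_toMatrix', ← he, ← he]
          simpa only [_root_.LinearEquiv.comp_coe, _root_.LinearEquiv.coe_coe, _root_.LinearEquiv.trans_apply, _root_.LinearEquiv.apply_symm_apply] using hx _ _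
        · ext v
          rw [hg, ← Matrix.toLin'_apply, Matrix.toLin'_toMatrix']
          simp
    rw [← hr]
    refine (PS.range g ?_).mono (Nat.zero_le 6)
    unfold PS
    rw [derivedSeries_one, hperf, derivedSeries_zero]
  · refine ps_small ?_ _
    rw [Module.natCard_eq_pow_finrank (K := F), hm, Nat.card_eq_fintype_card]
    have h2 : 2 ≤ Fintype.card F := Fintype.one_lt_card
    have h3 : Fintype.card F ≤ 3 := by omega
    have h5 : m ≤ 2 := by omega
    generalize Fintype.card F = q at *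
    interval_cases m <;> interval_cases q <;> simp_all only [_root_.IsEmpty.forall_iff, _root_.MulZeroClass.mul_zero, _root_.zero_le, _root_.Std.le_refl, _root_.Nat.reduceLeDiff, _root_.nonpos_iff_eq_zero, _root_.OfNat.ofNat_ne_zero, _root_.OfNat.zero_ne_ofNat, _root_.and_self, _root_.or_self, _root_.not_false_eq_true, _root_.pow_zero, _root_.Nat.one_le_ofNat, _root_.and_true, _root_.mul_one, _root_.Nat.not_ofNat_le_one, _root_.OfNat.one_ne_ofNat, _root_.Nat.reducePow, _root_.Nat.reduceMul, _root_.and_false, _root_.or_false, _root_.or_true, _root_.not_true_eq_false]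

/-- Orthogonal groups over the field with two elements. -/
theorem ps_o {V : Type*} [AddCommGroup V] [Module (ZMod 2) V] [Finite V] (Q : QuadraticForm (ZMod 2) V)
    (hQ : OrthCore.Nondeg Q) : PS 6 (OrthCore.O Q) := by
  by_cases h : 5 ≤ Module.finrank (ZMod 2) V
  · have hG := OrthFinite.good_of_finite hQ h
    have h1 : (derivedSeries (OrthCore.O Q) 1).map (OrthCore.O Q).subtype = OrthCore.E Q := by
      rw [derivedSeries_succ, derivedSeries_zero, Subgroup.map_commutator, ← MonoidHom.range_eq_map,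
        Subgroup.range_subtype, hG.commutator_eq_E]
    refine PS.mono (k := 1) ?_ (by norm_num)
    unfold PS
    apply Subgroup.map_injective (OrthCore.O Q).subtype_injective
    rw [derivedSeries_succ _ 1, Subgroup.map_commutator, h1, hG.E_perfect]
  · refine ps_small ?_ _
    rw [Module.natCard_eq_pow_finrank (K := ZMod 2), Nat.card_zmod]
    calc 2 ^ Module.finrank (ZMod 2) V ≤ 2 ^ 4 := Nat.pow_le_pow_right (by norm_num) (by omega)
      _ ≤ 24 := by norm_num

end Cfsg.Agent.DS.Cl.Ext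
end

-- part: DS/Cl/ExtG
section
/-!
# `BoxExt`, groups of symplectic type: the automorphisms fixing the centre (helper98)

`Sty.ps_fix`: the group of the automorphisms of `H` fixing the centre `U` pointwise is an extension of an abelian group
by a full symplectic or orthogonal group, so it has `PS 7`.
-/

set_option autoImplicit false

namespace Cfsg.Agent.DS.Cl.Ext

open Cfsg.Agent.H936 Cfsg.Agent.LieClassical
open scoped commutatorElement

universe u

variable {H : Type u} [Group H]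

theorem ps_one_of_comm {G : Type*} [Group G] (h : ∀ x y : G, x * y = y * x) : PS 1 G := by
  apply PS.of_bot
  rw [derivedSeries_succ, derivedSeries_zero, eq_bot_iff, Subgroup.commutator_le]
  intro x _ y _
  rw [Subgroup.mem_bot, commutatorElement_eq_one_iff_mul_comm]
  exact h x y

namespace Sty

variable {U : Subgroup H} {r : ℕ} (h : Sty U r)
include h

section vec

variable {V : Type*} [AddCommGroup V] [Module (ZMod r) V] {π : H → V} (hπ : Pr U π)
include hπ

omit h in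
theorem exists_rho : ∃ ρ : Fix U →* (V ≃ₗ[ZMod r] V), ∀ (φ : Fix U) x, ρ φ (π x) = π (φ.1 x) := by
  choose s hs using hπ.surj
  have key : ∀ (φ : Fix U) x y, π x = π y → π (φ.1 x) = π (φ.1 y) := by
    intro φ x y hxy
    obtain ⟨c, hc, rfl⟩ := hπ.exists_of_eq hxy
    rw [map_mul, φ.2 c hc, hπ.mul_mem _ hc]
  let f : Fix U → V →+ V := fun φ => AddMonoidHom.mk' (fun v => π (φ.1 (s v))) fun v w => by
    rw [← hπ.mul, ← map_mul]
    apply key
    rw [hπ.mul, hs, hs, hs]
  have hf : ∀ φ x, f φ (π x) = π (φ.1 x) := fun φ x => key φ _ _ (hs _)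
  let g : Fix U →* Module.End (ZMod r) V :=
    { toFun := fun φ => (f φ).toZModLinearMap r
      map_one' := by
        ext v
        obtain ⟨x, rfl⟩ := hπ.surj v
        exact hf 1 x
      map_mul' := fun φ ψ => by
        ext v
        obtain ⟨x, rfl⟩ := hπ.surj v
        change f (φ * ψ) (π x) = f φ (f ψ (π x))
        rw [hf, hf, hf]
        rfl }
  exact ⟨(LinearMap.GeneralLinearGroup.generalLinearEquiv (ZMod r) V).toMonoidHom.comp g.toHomUnits, hf⟩

theorem ps_of_range {ρ : Fix U →* (V ≃ₗ[ZMod r] V)} (hρ : ∀ (φ : Fix U) x, ρ φ (π x) = π (φ.1 x)) {k : ℕ}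
    (hk : PS k ρ.range) : PS (1 + k) (Fix U) := by
  refine PS.of_ker ρ.rangeRestrict_surjective ?_ hk
  rw [MonoidHom.ker_rangeRestrict]
  apply ps_one_of_comm
  have key : ∀ φ : ρ.ker, ∀ x, ∃ c ∈ U, φ.1.1 x = x * c := by
    intro φ x
    apply hπ.exists_of_eq
    rw [← hρ, φ.2]
    rfl
  intro φ ψ
  ext x
  change φ.1.1 (ψ.1.1 x) = ψ.1.1 (φ.1.1 x)
  obtain ⟨c, hc, h1⟩ := key φ x
  obtain ⟨d, hd, h2⟩ := key ψ x
  rw [h1, h2, map_mul, map_mul, h1, h2, φ.1.2 d hd, ψ.1.2 c hc, mul_assoc, mul_assoc, h.central d hd]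

end vec

/-- the elements of `U` of order dividing `r` -/
def W : Subgroup H where
  carrier := {c | c ∈ U ∧ c ^ r = 1}
  mul_mem' := fun {c d} hc hd => ⟨U.mul_mem hc.1 hd.1, by rw [h.mul_pow_of_mem _ hd.1, hc.2, hd.2, mul_one]⟩
  one_mem' := ⟨U.one_mem, one_pow _⟩
  inv_mem' := fun {c} hc => ⟨U.inv_mem hc.1, by rw [inv_pow, hc.2, inv_one]⟩

theorem comm_mem_W (x y : H) : ⁅x, y⁆ ∈ h.W := ⟨h.comm x y, h.comm_pow_r x y⟩

theorem card_W [Finite H] : Nat.card h.W = r := by
  classical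
  have := h.cyc
  let : Fintype U := Fintype.ofFinite U
  have h1 := IsCyclic.card_pow_eq_one_le (α := U) h.prime.pos
  have h2 : Nat.card h.W ≤ r := by
    refine le_trans ?_ h1
    rw [← Fintype.card_coe, ← Nat.card_eq_fintype_card]
    refine Nat.card_le_card_of_injective (fun c => ⟨⟨c.1, c.2.1⟩, ?_⟩) ?_
    · rw [Finset.mem_filter]
      exact ⟨Finset.mem_univ _, Subtype.ext c.2.2⟩
    · intro c d hcd
      exact Subtype.ext (congrArg (fun z => z.1.1) hcd)
  obtain ⟨x, y, hxy⟩ := h.exists_comm_ne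
  have : Fact r.Prime := ⟨h.prime⟩
  have h3 : orderOf (⟨⁅x, y⁆, h.comm_mem_W x y⟩ : h.W) = r :=
    orderOf_eq_prime (Subtype.ext (h.comm_pow_r x y)) fun he => hxy (congrArg Subtype.val he)
  have h4 := orderOf_dvd_natCard (⟨⁅x, y⁆, h.comm_mem_W x y⟩ : h.W)
  rw [h3] at h4
  exact le_antisymm h2 (Nat.le_of_dvd Nat.card_pos h4)

theorem exists_log [Finite H] : ∃ lg : H → ZMod r, (∀ c ∈ h.W, ∀ d ∈ h.W, lg (c * d) = lg c + lg d) ∧
    ∀ c ∈ h.W, ∀ d ∈ h.W, lg c = lg d → c = d := by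
  classical
  have : Fact r.Prime := ⟨h.prime⟩
  let e : h.W ≃* Multiplicative (ZMod r) := mulEquivOfPrimeCardEq h.card_W (by simp)
  refine ⟨fun c => if hc : c ∈ h.W then Multiplicative.toAdd (e ⟨c, hc⟩) else 0, fun c hc d hd => ?_,
    fun c hc d hd hcd => ?_⟩
  · simp only [dif_pos hc, dif_pos hd, dif_pos (h.W.mul_mem hc hd)]
    rw [← toAdd_mul, ← map_mul]
    rfl
  · simp only [dif_pos hc, dif_pos hd] at hcd
    exact congrArg Subtype.val (e.injective (Multiplicative.toAdd.injective hcd))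

section form

variable {V : Type*} [AddCommGroup V] [Module (ZMod r) V] {π : H → V} (hπ : Pr U π) {lg : H → ZMod r}
  (hl : ∀ c ∈ h.W, ∀ d ∈ h.W, lg (c * d) = lg c + lg d) (hl' : ∀ c ∈ h.W, ∀ d ∈ h.W, lg c = lg d → c = d)

include hl in
theorem lg_one : lg 1 = 0 := by
  have := hl 1 h.W.one_mem 1 h.W.one_mem
  rw [mul_one] at this
  simpa using this

include hπ hl in
theorem exists_form : ∃ B : LinearMap.BilinForm (ZMod r) V, ∀ x y, B (π x) (π y) = lg ⁅x, y⁆ := by
  choose s hs using hπ.surj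
  have key : ∀ x y x' y', π x = π x' → π y = π y' → ⁅x, y⁆ = ⁅x', y'⁆ := by
    intro x y x' y' hx hy
    obtain ⟨c, hc, rfl⟩ := hπ.exists_of_eq hx
    obtain ⟨d, hd, rfl⟩ := hπ.exists_of_eq hy
    rw [h.comm_mul_left, h.comm_eq_one_left hc, mul_one, h.comm_mul_right, h.comm_eq_one_right _ hd, mul_one]
  have a1 : ∀ v v' w, lg ⁅s (v + v'), s w⁆ = lg ⁅s v, s w⁆ + lg ⁅s v', s w⁆ := by
    intro v v' w
    rw [← hl _ (h.comm_mem_W _ _) _ (h.comm_mem_W _ _), ← h.comm_mul_left,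
      key _ _ (s v * s v') (s w) (by rw [hπ.mul, hs, hs, hs]) rfl]
  have a2 : ∀ v w w', lg ⁅s v, s (w + w')⁆ = lg ⁅s v, s w⁆ + lg ⁅s v, s w'⁆ := by
    intro v w w'
    rw [← hl _ (h.comm_mem_W _ _) _ (h.comm_mem_W _ _), ← h.comm_mul_right,
      key _ _ (s v) (s w * s w') rfl (by rw [hπ.mul, hs, hs, hs])]
  refine ⟨LinearMap.mk₂ (ZMod r) (fun v w => lg ⁅s v, s w⁆) a1 (fun c v w => ?_) a2 (fun c v w => ?_), fun x y => ?_⟩
  · exact ZMod.map_smul (AddMonoidHom.mk' (fun v => lg ⁅s v, s w⁆) fun v v' => a1 v v' w) c v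
  · exact ZMod.map_smul (AddMonoidHom.mk' (fun w => lg ⁅s v, s w⁆) fun w w' => a2 v w w') c w
  · exact congrArg lg (key _ _ x y (hs _) (hs _))

include hπ hl hl' in
theorem form_nd {B : LinearMap.BilinForm (ZMod r) V} (hB : ∀ x y, B (π x) (π y) = lg ⁅x, y⁆) (v : V)
    (hv : ∀ w, B v w = 0) : v = 0 := by
  obtain ⟨x, rfl⟩ := hπ.surj v
  rw [hπ.ker]
  refine h.nd x fun y => commutatorElement_eq_one_iff_mul_comm.1 (hl' _ (h.comm_mem_W _ _) _ h.W.one_mem ?_)
  rw [← hB, hv, h.lg_one hl]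

end form

theorem exists_pr [Finite H] : ∃ (V : Type u) (_ : AddCommGroup V) (_ : Module (ZMod r) V) (_ : Finite V)
    (π : H → V), Pr U π := by
  have : U.Normal := ⟨fun c hc x => by rwa [h.central c hc, mul_inv_cancel_right]⟩
  let : CommGroup (H ⧸ U) :=
    { (inferInstance : Group (H ⧸ U)) with
      mul_comm := fun a b => by
        obtain ⟨x, rfl⟩ := QuotientGroup.mk_surjective a
        obtain ⟨y, rfl⟩ := QuotientGroup.mk_surjective b
        rw [← commutatorElement_eq_one_iff_mul_comm]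
        change QuotientGroup.mk' U x * QuotientGroup.mk' U y * (QuotientGroup.mk' U x)⁻¹ *
          (QuotientGroup.mk' U y)⁻¹ = 1
        rw [← map_inv, ← map_inv, ← map_mul, ← map_mul, ← map_mul]
        exact (QuotientGroup.eq_one_iff _).2 (h.comm x y) }
  refine ⟨Additive (H ⧸ U), inferInstance, AddCommGroup.zmodModule fun a => ?_, inferInstance,
    fun x => Additive.ofMul (QuotientGroup.mk x), fun x y => rfl, fun a => ?_, fun x => ?_⟩
  · obtain ⟨x, hx⟩ := QuotientGroup.mk_surjective (Additive.toMul a)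
    apply Additive.toMul.injective
    rw [toMul_nsmul, ← hx, ← QuotientGroup.mk_pow]
    exact (QuotientGroup.eq_one_iff _).2 (h.pow x)
  · obtain ⟨x, hx⟩ := QuotientGroup.mk_surjective (Additive.toMul a)
    exact ⟨x, congrArg Additive.ofMul hx⟩
  · exact QuotientGroup.eq_one_iff x

/-- The symplectic case. -/
theorem ps_fix_sp [Finite H] (hT : ∀ x, ∃ c ∈ U, x ^ r = c ^ r) : PS 7 (Fix U) := by
  have : Fact r.Prime := ⟨h.prime⟩
  obtain ⟨V, _, _, _, π, hπ⟩ := h.exists_pr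
  obtain ⟨lg, hl, hl'⟩ := h.exists_log
  obtain ⟨B, hB⟩ := h.exists_form hπ hl
  obtain ⟨ρ, hρ⟩ := exists_rho (r := r) hπ
  refine h.ps_of_range (k := 6) hπ hρ ?_
  have hr : ρ.range = Isom B := by
    ext α
    constructor
    · rintro ⟨φ, rfl⟩ v w
      obtain ⟨x, rfl⟩ := hπ.surj v
      obtain ⟨y, rfl⟩ := hπ.surj w
      rw [hρ, hρ, hB, hB, ← map_commutatorElement, φ.2 _ (h.comm x y)]
    · intro hα
      obtain ⟨φ, hφ, hφ'⟩ := h.exists_lift hπ α.toAddEquiv (fun x y x' y' hx hy => by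
        refine hl' _ (h.comm_mem_W _ _) _ (h.comm_mem_W _ _) ?_
        rw [← hB, ← hB, hx, hy]
        exact hα _ _) (fun x x' _ => by
        obtain ⟨c, hc, e⟩ := hT x
        obtain ⟨c', hc', e'⟩ := hT x'
        refine ⟨c⁻¹ * c', U.mul_mem (U.inv_mem hc) hc', ?_⟩
        rw [e, e', h.mul_pow_of_mem _ hc', inv_pow, mul_inv_cancel_left])
      refine ⟨⟨φ, hφ⟩, ?_⟩
      ext v
      obtain ⟨x, rfl⟩ := hπ.surj v
      rw [hρ]
      exact hφ' x
  rw [hr]
  refine ps_sp B (fun v => ?_) (h.form_nd hπ hl hl' hB)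
  obtain ⟨x, rfl⟩ := hπ.surj v
  rw [hB, commutatorElement_self, h.lg_one hl]

end Sty

/-- The orthogonal case. -/
theorem Sty.ps_fix_o [Finite H] {U : Subgroup H} (h : Sty U 2) (h4 : ¬ 4 ∣ Nat.card U) : PS 7 (Fix U) := by
  obtain ⟨V, _, _, _, π, hπ⟩ := h.exists_pr
  obtain ⟨lg, hl, hl'⟩ := h.exists_log
  obtain ⟨B, hB⟩ := h.exists_form hπ hl
  obtain ⟨ρ, hρ⟩ := Sty.exists_rho (r := 2) hπ
  refine h.ps_of_range (k := 6) hπ hρ ?_
  obtain ⟨m, hm⟩ : 2 ∣ Nat.card U := by
    rw [← h.card_W]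
    exact Subgroup.card_dvd_of_le fun c hc => hc.1
  obtain ⟨j, hj⟩ : Odd m := by
    rw [← Nat.not_even_iff_odd]
    rintro ⟨j, rfl⟩
    exact h4 ⟨j, by omega⟩
  have hW : ∀ c ∈ U, c ^ m ∈ h.W := by
    intro c hc
    refine ⟨U.pow_mem hc m, ?_⟩
    rw [← pow_mul, mul_comm, ← hm]
    exact congrArg Subtype.val (pow_card_eq_one' (x := (⟨c, hc⟩ : U)))
  have hWm : ∀ w ∈ h.W, w ^ m = w := by
    intro w hw
    rw [hj, pow_succ, pow_mul, hw.2, one_pow, one_mul]
  have hq1 : ∀ x y, π x = π y → (x ^ 2) ^ m = (y ^ 2) ^ m := by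
    intro x y hxy
    obtain ⟨c, hc, rfl⟩ := hπ.exists_of_eq hxy
    rw [h.mul_pow_of_mem _ hc, h.mul_pow_of_mem _ (U.pow_mem hc 2), ← pow_mul c, mul_comm 2, pow_mul c, (hW c hc).2,
      mul_one]
  have hq2 : ∀ x y, lg (((x * y) ^ 2) ^ m) = lg ((x ^ 2) ^ m) + lg ((y ^ 2) ^ m) + lg ⁅y, x⁆ := by
    intro x y
    rw [h.mul_pow, Nat.choose_self, pow_one, h.mul_pow_of_mem _ (h.comm y x), h.mul_pow_of_mem _ (h.pow y),
      hWm _ (h.comm_mem_W y x), hl _ (h.W.mul_mem (hW _ (h.pow x)) (hW _ (h.pow y))) _ (h.comm_mem_W y x),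
      hl _ (hW _ (h.pow x)) _ (hW _ (h.pow y))]
  choose s hs using hπ.surj
  have hs0 : lg ((s 0 ^ 2) ^ m) = 0 := by
    rw [hq1 (s 0) 1 (by rw [hs, hπ.one]), one_pow, one_pow, h.lg_one hl]
  let Q : QuadraticForm (ZMod 2) V :=
    { toFun := fun v => lg ((s v ^ 2) ^ m)
      toFun_smul := fun a v => by
        have ha : a = 0 ∨ a = 1 := by revert a; decide
        rcases ha with rfl | rfl
        · rw [zero_smul, hs0, zero_mul, zero_smul]
        · rw [one_smul, one_mul, one_smul]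
      exists_companion' := ⟨B.flip, fun v w => by
        rw [hq1 (s (v + w)) (s v * s w) (by rw [hπ.mul, hs, hs, hs]), hq2, ← hB, hs, hs]
        rfl⟩ }
  have hQ : ∀ x, Q (π x) = lg ((x ^ 2) ^ m) := fun x => congrArg lg (hq1 _ _ (hs _))
  have hpol : ∀ x y, QuadraticMap.polar Q (π x) (π y) = lg ⁅y, x⁆ := by
    intro x y
    rw [QuadraticMap.polar, ← hπ.mul, hQ, hQ, hQ, hq2]
    ring
  have hr : ρ.range = OrthCore.O Q := by
    ext α
    constructor
    · rintro ⟨φ, rfl⟩ v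
      obtain ⟨x, rfl⟩ := hπ.surj v
      rw [hρ, hQ, hQ, ← map_pow, φ.2 _ (h.pow x)]
    · intro hα
      obtain ⟨φ, hφ, hφ'⟩ := h.exists_lift hπ α.toAddEquiv (fun x y x' y' hx hy => by
        refine hl' _ (h.comm_mem_W _ _) _ (h.comm_mem_W _ _) ?_
        rw [← hpol, ← hpol, hx, hy]
        exact OrthCore.polar_map hα _ _) (fun x x' hx => by
        have e : (x' ^ 2) ^ m = (x ^ 2) ^ m := by
          refine hl' _ (hW _ (h.pow _)) _ (hW _ (h.pow _)) ?_
          rw [← hQ, ← hQ, hx]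
          exact hα _
        have hd : (x ^ 2)⁻¹ * x' ^ 2 ∈ U := U.mul_mem (U.inv_mem (h.pow x)) (h.pow x')
        have e2 : ((x ^ 2)⁻¹ * x' ^ 2) ^ m = 1 := by
          rw [h.mul_pow_of_mem _ (h.pow x'), inv_pow, e, inv_mul_cancel]
        refine ⟨((x ^ 2)⁻¹ * x' ^ 2) ^ (j + 1), U.pow_mem hd _, ?_⟩
        rw [← pow_mul, show (j + 1) * 2 = m + 1 by (clear * - hj; omega), pow_succ _ m, e2, one_mul, mul_inv_cancel_left])
      refine ⟨⟨φ, hφ⟩, ?_⟩
      ext v
      obtain ⟨x, rfl⟩ := hπ.surj v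
      rw [hρ]
      exact hφ' x
  rw [hr]
  refine ps_o Q fun v hv => ?_
  obtain ⟨x, rfl⟩ := hπ.surj v
  rw [hπ.ker]
  refine h.nd x fun y => (commutatorElement_eq_one_iff_mul_comm.1
    (hl' _ (h.comm_mem_W y x) _ h.W.one_mem ?_)).symm
  rw [← hpol, hv, h.lg_one hl]

namespace Sty

variable {U : Subgroup H} {r : ℕ} (h : Sty U r)
include h

theorem ps_fix [Finite H] (hT : (∀ x, ∃ c ∈ U, x ^ r = c ^ r) ∨ (r = 2 ∧ ¬ 4 ∣ Nat.card U)) : PS 7 (Fix U) := by
  rcases hT with hT | ⟨rfl, hT⟩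
  · exact h.ps_fix_sp hT
  · exact h.ps_fix_o hT

/-- Outside the orthogonal case the power map is a homomorphism modulo `U ^ r`. -/
theorem mul_pow_mod [Finite H] (hQ : ¬ (r = 2 ∧ ¬ 4 ∣ Nat.card U)) (x y : H) :
    ∃ c ∈ U, (x * y) ^ r = x ^ r * y ^ r * c ^ r := by
  rw [h.mul_pow]
  rcases h.prime.eq_two_or_odd' with rfl | ⟨j, hj⟩
  · have h4 : 4 ∣ Nat.card U := by
      by_contra h4
      exact hQ ⟨rfl, h4⟩
    by_cases h1 : ⁅y, x⁆ = 1
    · exact ⟨1, U.one_mem, by rw [h1, one_pow, one_pow]⟩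
    have := h.cyc
    obtain ⟨g, hg⟩ := IsCyclic.exists_ofOrder_eq_natCard (α := U)
    obtain ⟨k, hk⟩ := h4
    have hk0 : k ≠ 0 := by
      rintro rfl
      exact (Nat.card_pos (α := U)).ne' hk
    have h2 : ((g : H) ^ k) ^ 2 ∈ h.W := by
      refine ⟨U.pow_mem (U.pow_mem g.2 k) 2, ?_⟩
      rw [← pow_mul, ← pow_mul, mul_comm k, ← show Nat.card U = 2 * 2 * k from hk, ← hg]
      exact congrArg Subtype.val (pow_orderOf_eq_one g)
    have h3 : ((g : H) ^ k) ^ 2 ≠ 1 := by
      intro he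
      have h5 : orderOf g ∣ k * 2 := by
        apply orderOf_dvd_of_pow_eq_one
        rw [pow_mul]
        exact Subtype.ext he
      rw [hg, hk] at h5
      have := Nat.le_of_dvd (by omega) h5
      omega
    obtain ⟨lg, hl, hl'⟩ := h.exists_log
    have key : ∀ w ∈ h.W, w ≠ 1 → lg w = 1 := by
      intro w hw hw1
      have h5 : lg w ≠ 0 := fun h0 => hw1 (hl' _ hw _ h.W.one_mem (by rw [h0, h.lg_one hl]))
      revert h5
      generalize lg w = a
      revert a
      decide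
    refine ⟨(g : H) ^ k, U.pow_mem g.2 k, ?_⟩
    rw [Nat.choose_self, pow_one, hl' _ (h.comm_mem_W y x) _ h2 (by rw [key _ (h.comm_mem_W y x) h1, key _ h2 h3])]
  · refine ⟨1, U.one_mem, ?_⟩
    have e : r.choose 2 = r * j := by
      rw [Nat.choose_two_right, hj, Nat.add_sub_cancel, mul_comm 2 j, ← mul_assoc, Nat.mul_div_cancel _ two_pos]
    rw [e, pow_mul, h.comm_pow_r, one_pow, one_pow]

theorem exists_powSub [Finite H] (hQ : ¬ (r = 2 ∧ ¬ 4 ∣ Nat.card U)) :
    ∃ K : Subgroup H, (∀ x, x ∈ K ↔ ∃ c ∈ U, x ^ r = c ^ r) ∧ ¬ K ≤ U := by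
  let K : Subgroup H :=
    { carrier := {x | ∃ c ∈ U, x ^ r = c ^ r}
      mul_mem' := by
        rintro x y ⟨c, hc, e⟩ ⟨d, hd, e'⟩
        obtain ⟨f, hf, e''⟩ := h.mul_pow_mod hQ x y
        refine ⟨c * d * f, U.mul_mem (U.mul_mem hc hd) hf, ?_⟩
        rw [e'', e, e', h.mul_pow_of_mem _ hf, h.mul_pow_of_mem _ hd]
      one_mem' := ⟨1, U.one_mem, rfl⟩
      inv_mem' := by
        rintro x ⟨c, hc, e⟩
        exact ⟨c⁻¹, U.inv_mem hc, by rw [inv_pow, inv_pow, e]⟩ }
  refine ⟨K, fun _ => Iff.rfl, fun hK => ?_⟩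
  obtain ⟨x, y, hxy⟩ := h.exists_comm_ne
  have := h.cyc
  obtain ⟨g, hg⟩ := IsCyclic.exists_generator (α := U)
  obtain ⟨a, ha⟩ := Subgroup.mem_zpowers_iff.1 (hg ⟨_, h.pow x⟩)
  obtain ⟨b, hb⟩ := Subgroup.mem_zpowers_iff.1 (hg ⟨_, h.pow y⟩)
  have ha' : (g : H) ^ a = x ^ r := by simpa using congrArg Subtype.val ha
  have hb' : (g : H) ^ b = y ^ r := by simpa using congrArg Subtype.val hb
  by_cases hr : (r : ℤ) ∣ a
  · obtain ⟨j, rfl⟩ := hr
    refine hxy (h.comm_eq_one_left (hK ⟨(g : H) ^ j, U.zpow_mem g.2 j, ?_⟩) y)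
    rw [← ha', mul_comm, zpow_mul, zpow_natCast]
  · obtain ⟨u, v, huv⟩ : IsCoprime (r : ℤ) a :=
      (Nat.prime_iff_prime_int.1 h.prime).irreducible.coprime_iff_not_dvd.2 hr
    obtain ⟨c, hc, e⟩ := h.mul_pow_mod hQ y (x ^ (-(v * b)))
    have h1 : y * x ^ (-(v * b)) ∈ U := by
      refine hK ⟨(g : H) ^ (u * b) * c, U.mul_mem (U.zpow_mem g.2 _) hc, ?_⟩
      rw [e, h.mul_pow_of_mem _ hc, ← zpow_natCast (x ^ _), ← zpow_mul, mul_comm _ (r : ℤ), zpow_mul, zpow_natCast,
        ← ha', ← hb', ← zpow_mul, ← zpow_add, ← zpow_natCast (_ ^ (u * b)), ← zpow_mul]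
      congr 2
      linear_combination (-b) * huv
    apply hxy
    have h2 : y = y * x ^ (-(v * b)) * x ^ (v * b) := by group
    rw [h2, h.comm_mul_right, h.comm_eq_one_right _ h1, one_mul, commutatorElement_eq_one_iff_mul_comm]
    exact (Commute.zpow_right (Commute.refl x) _).eq

end Sty

end Cfsg.Agent.DS.Cl.Ext
end

-- part: DS/Cl/Ext
section
/-!
# `BoxExt`: normalizers of groups of symplectic type (helper98)
-/

set_option autoImplicit false

namespace Cfsg.Agent.DS.Cl.Ext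

open Cfsg.Agent.DS.Cl Cfsg.Agent.H936
open scoped commutatorElement

theorem ps_of_commutator_le {G : Type*} [Group G] (K : Subgroup G) (hK : ∀ x y : G, ⁅x, y⁆ ∈ K) {k : ℕ}
    (h : PS k K) : PS (k + 1) G := by
  have : K.Normal := ⟨fun x hx g => by
    have e : g * x * g⁻¹ = ⁅g, x⁆ * x := by rw [commutatorElement_def]; group
    rw [e]
    exact K.mul_mem (hK g x) hx⟩
  refine PS.of_normal K h (ps_one_of_comm fun a b => ?_)
  obtain ⟨x, rfl⟩ := QuotientGroup.mk'_surjective K a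
  obtain ⟨y, rfl⟩ := QuotientGroup.mk'_surjective K b
  rw [← commutatorElement_eq_one_iff_mul_comm, ← map_commutatorElement]
  exact (QuotientGroup.eq_one_iff _).2 (hK x y)

variable {A : Type} [Ring A] [StarRing A] {F : FR A} {M N : Subgroup (RingAut A)}

omit [StarRing A] in
theorem exists_exp [Finite A] (hne : N ≠ ⊥) (hc : ∀ x ∈ N, ∀ y ∈ N, x * y = y * x)
    (hinv : ∀ γ ∈ M, ∀ x ∈ N, γ * x * γ⁻¹ ∈ N)
    (hmin : ∀ N' : Subgroup (RingAut A), N' ≤ N → (∀ γ ∈ M, ∀ x ∈ N', γ * x * γ⁻¹ ∈ N') → N' = ⊥ ∨ N' = N) :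
    ∃ r : ℕ, r.Prime ∧ ∀ x ∈ N, x ^ r = 1 := by
  have : Finite (RingAut A) := Finite.of_injective (fun γ : RingAut A => (γ : A → A)) DFunLike.coe_injective
  obtain ⟨r, hr, hd⟩ := Nat.exists_prime_and_dvd (n := Nat.card N) fun h1 => hne (Subgroup.card_eq_one.1 h1)
  have : Fact r.Prime := ⟨hr⟩
  obtain ⟨z, hz⟩ := exists_prime_orderOf_dvd_card' r hd
  let N' : Subgroup (RingAut A) :=
    { carrier := {x | x ∈ N ∧ x ^ r = 1}
      mul_mem' := fun {x y} hx hy => ⟨N.mul_mem hx.1 hy.1, by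
        rw [Commute.mul_pow (hc x hx.1 y hy.1), hx.2, hy.2, mul_one]⟩
      one_mem' := ⟨N.one_mem, one_pow _⟩
      inv_mem' := fun {x} hx => ⟨N.inv_mem hx.1, by rw [inv_pow, hx.2, inv_one]⟩ }
  refine ⟨r, hr, ?_⟩
  rcases hmin N' (fun x hx => hx.1) (fun γ hγ x hx => ⟨hinv γ hγ x hx.1, by
    rw [conj_pow, hx.2, mul_one, mul_inv_cancel]⟩) with h1 | h1
  · exfalso
    have h2 : (z : RingAut A) ∈ N' := ⟨z.2, by
      rw [← hz]
      exact congrArg Subtype.val (pow_orderOf_eq_one z)⟩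
    rw [h1, Subgroup.mem_bot] at h2
    rw [show z = 1 from Subtype.ext h2, orderOf_one] at hz
    exact hr.one_lt.ne hz
  · intro x hx
    rw [← h1] at hx
    exact hx.2

theorem map_mem_Nh (hM : M ≤ F.Aut) (hinv : ∀ γ ∈ M, ∀ x ∈ N, γ * x * γ⁻¹ ∈ N) (γ : M) (u : Nh F N) :
    Units.map ((γ : RingAut A) : A →* A) u ∈ Nh F N := by
  have hγ := hM γ.2
  have h1 : (γ : RingAut A) (u : Aˣ) * star ((γ : RingAut A) (u : Aˣ)) = 1 := by
    rw [← hγ.1, ← map_mul, mul_star, map_one]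
  refine ⟨?_, h1, ?_⟩
  · change cj A _ ∈ N
    rw [← conj_cj]
    exact hinv _ γ.2 _ u.2.1
  · change (γ : RingAut A) (u : Aˣ) * F.l * star ((γ : RingAut A) (u : Aˣ)) - F.l ∈ F.L
    have h2 := F.map_mem hγ.1 u.2.2.2
    have h3 := F.conj_mem hγ.2 ((γ : RingAut A) (u : Aˣ))
    have h4 := F.L.add_mem (F.L.sub_mem h2 h3) hγ.2
    rw [map_sub, map_mul, map_mul, hγ.1] at h4
    convert h4 using 1
    noncomm_ring

theorem exists_res (hM : M ≤ F.Aut) (hinv : ∀ γ ∈ M, ∀ x ∈ N, γ * x * γ⁻¹ ∈ N) :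
    ∃ f : M →* MulAut (Nh F N), ∀ (γ : M) (u : Nh F N), ((f γ u : Aˣ) : A) = (γ : RingAut A) (u : Aˣ) :=
  ⟨{ toFun := fun γ =>
      { toFun := fun u => ⟨_, map_mem_Nh hM hinv γ u⟩
        invFun := fun u => ⟨_, map_mem_Nh hM hinv γ⁻¹ u⟩
        left_inv := fun _ => Subtype.ext (Units.ext ((γ : RingAut A).symm_apply_apply _))
        right_inv := fun _ => Subtype.ext (Units.ext ((γ : RingAut A).apply_symm_apply _))
        map_mul' := fun _ _ => Subtype.ext (Units.ext (map_mul (γ : RingAut A) _ _)) }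
     map_one' := rfl
     map_mul' := fun _ _ => rfl }, fun _ _ => rfl⟩

theorem boxExt : BoxExt := by
  intro A _ _ _ F M N hA hM hNM hN hne hc hnorm hmin hsp
  have hsp' : Sp F N := hsp
  have hinv : ∀ γ ∈ M, ∀ x ∈ N, γ * x * γ⁻¹ ∈ N := fun γ hγ => (hnorm γ (hM hγ)).1 hγ
  obtain ⟨r, hr, hp⟩ := exists_exp hne hc hinv hmin
  have h := sty_of hA hN hne hc hr hp hsp'
  have : Finite (Nh F N) := Finite.of_injective (fun u : Nh F N => ((u : Aˣ) : A))
    (Units.val_injective.comp Subtype.val_injective)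
  obtain ⟨f, hf⟩ := exists_res hM hinv
  have hcj : ∀ (γ : RingAut A) (u v : Nh F N), γ (u : Aˣ) = (v : Aˣ) → γ * cj A u * γ⁻¹ = cj A v := by
    intro γ u v huv
    rw [conj_cj]
    exact congrArg (cj A) (Units.ext huv)
  have hT : (∀ x, ∃ c ∈ Uh F N, x ^ r = c ^ r) ∨ (r = 2 ∧ ¬ 4 ∣ Nat.card (Uh F N)) := by
    refine or_iff_not_imp_right.2 fun hQ => ?_
    obtain ⟨K, hK, hKU⟩ := h.exists_powSub hQ
    rcases hmin (K.map ((cj A).comp (Nh F N).subtype)) (by rintro _ ⟨u, -, rfl⟩; exact u.2.1) (by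
      rintro γ hγ _ ⟨u, hu, rfl⟩
      refine ⟨f ⟨γ, hγ⟩ u, ?_, (hcj γ u _ (hf ⟨γ, hγ⟩ u).symm).symm⟩
      obtain ⟨c, hc, e⟩ := (hK u).1 hu
      refine (hK _).2 ⟨f ⟨γ, hγ⟩ c, ?_, by rw [← map_pow, e, map_pow]⟩
      rw [mem_Uh, hf]
      exact map_cen γ hc) with h1 | h1
    · refine absurd (fun u hu => ?_) hKU
      have h2 : cj A u ∈ K.map ((cj A).comp (Nh F N).subtype) := ⟨u, hu, rfl⟩
      rw [h1, Subgroup.mem_bot] at h2
      exact cj_eq_one_iff.1 h2
    · intro x
      have h2 : cj A x ∈ K.map ((cj A).comp (Nh F N).subtype) := by rw [h1]; exact x.2.1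
      obtain ⟨k, hk, hkx⟩ := h2
      have h3 : k⁻¹ * x ∈ Uh F N := by
        rw [mem_Uh, ← cj_eq_one_iff, Subgroup.coe_mul, map_mul, Subgroup.coe_inv, map_inv, inv_mul_eq_one]
        exact hkx
      have h4 := K.mul_mem hk ((hK _).2 ⟨_, h3, rfl⟩)
      rw [mul_inv_cancel_left] at h4
      exact (hK x).1 h4
  have h7 := h.ps_fix hT
  let g : (Lin A).subgroupOf M →* Fix (Uh F N) := (f.comp ((Lin A).subgroupOf M).subtype).codRestrict _
    fun γ c hc => Subtype.ext (Units.ext ((hf γ.1 c).trans (γ.2 _ hc)))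
  have hg : Function.Bijective g := by
    constructor
    · rw [injective_iff_map_eq_one]
      intro γ hγ
      ext a
      change (γ.1 : RingAut A) a = a
      refine hsp'.ind (P := fun a => (γ.1 : RingAut A) a = a) (fun c hc u => ?_)
        (fun a b ha hb => by rw [map_add, ha, hb]) a
      have h1 : f γ.1 = 1 := congrArg Subtype.val hγ
      have h2 : (γ.1 : RingAut A) c = c := γ.2 c hc
      rw [map_mul, h2, ← hf, h1]
      rfl
    · intro φ
      obtain ⟨γ, hγ, hγ', hγu⟩ := exists_ext hA h hsp' φ.2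
      have hγM : γ ∈ M := by
        rw [hnorm γ hγ]
        intro x hx
        obtain ⟨u, hu, rfl⟩ := hN hx
        rw [hcj γ ⟨u, hx, hu⟩ _ (hγu _)]
        exact (φ.1 ⟨u, hx, hu⟩).2.1
      refine ⟨⟨⟨γ, hγM⟩, hγ'⟩, Subtype.ext (MulEquiv.ext fun u => Subtype.ext (Units.ext ?_))⟩
      exact (hf ⟨γ, hγM⟩ u).trans (hγu u)
  refine (ps_of_commutator_le ((Lin A).subgroupOf M) (fun γ δ c hc => ?_)
    (PS.of_equiv (MulEquiv.ofBijective g hg).symm h7)).mono (by norm_num)
  change (γ : RingAut A) ((δ : RingAut A) ((γ : RingAut A)⁻¹ ((δ : RingAut A)⁻¹ c))) = c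
  rw [comm_on_center hA (hM γ.2).1 (hM δ.2).1 (map_cen _ (map_cen _ hc))]
  change (δ : RingAut A) ((γ : RingAut A) ((γ : RingAut A).symm ((δ : RingAut A).symm c))) = c
  rw [RingEquiv.apply_symm_apply, RingEquiv.apply_symm_apply]

end Cfsg.Agent.DS.Cl.Ext
end

private theorem dce_b0a4b9da1a42 : _root_.True := by
  try have : _root_.True := by simp only [_root_.Cfsg.Agent.DS.Cl.Ext.Sty.W.congr_simp]
  exact _root_.True.intro
end

-- part: DS/Cl/MainG
section
set_option linter.all false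
open scoped Cfsg.Agent.FastGrp

/-!
# Minimal invariant subgroups (helper54)
-/

set_option autoImplicit false

namespace Cfsg.Agent.DS.Cl.Main

open Cfsg Cfsg.Agent.H936 Cfsg.Agent.DS

variable {G : Type} [Group G]

/-- `M` normalizes `K` -/
def Nrm (M K : Subgroup G) : Prop := ∀ γ ∈ M, ∀ x ∈ K, γ * x * γ⁻¹ ∈ K

/-- `N` is a minimal non-trivial subgroup normalized by `M` -/
structure MinN (M N : Subgroup G) : Prop where
  nrm : Nrm M N
  ne : N ≠ ⊥
  min : ∀ N' : Subgroup G, N' ≤ N → Nrm M N' → N' = ⊥ ∨ N' = N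

theorem exists_minN [Finite G] {M K : Subgroup G} (hK : Nrm M K) (h0 : K ≠ ⊥) : ∃ N, N ≤ K ∧ MinN M N := by
  obtain ⟨N, ⟨h1, h2, h3⟩, hmin⟩ := WellFounded.has_min (wellFounded_lt (α := Subgroup G))
    {N : Subgroup G | N ≤ K ∧ Nrm M N ∧ N ≠ ⊥} ⟨K, le_rfl, hK, h0⟩
  refine ⟨N, h1, h2, h3, fun N' h4 h5 => ?_⟩
  by_cases h6 : N' = ⊥
  · exact Or.inl h6
  · exact Or.inr (eq_of_le_of_not_lt h4 (hmin N' ⟨h4.trans h1, h5, h6⟩))

theorem nrm_self (N : Subgroup G) : Nrm N N := fun _ hγ _ hx => mul_mem (mul_mem hγ hx) (inv_mem hγ)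

theorem Nrm.inf {M K K' : Subgroup G} (h : Nrm M K) (h' : Nrm M K') : Nrm M (K ⊓ K') := fun γ hγ x hx =>
  ⟨h γ hγ x hx.1, h' γ hγ x hx.2⟩

theorem Nrm.inv {M K : Subgroup G} (h : Nrm M K) {γ x : G} (hγ : γ ∈ M) (hx : x ∈ K) : γ⁻¹ * x * γ ∈ K := by
  simpa only [inv_inv] using h _ (inv_mem hγ) x hx

/-- the elements normalizing `K` -/
def nz (K : Subgroup G) : Subgroup G := Subgroup.normalizer (K : Set G)

theorem mem_nz {K : Subgroup G} {γ : G} : γ ∈ nz K ↔ ∀ x, x ∈ K ↔ γ * x * γ⁻¹ ∈ K := Subgroup.mem_normalizer_iff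

theorem Nrm.le_nz {M K : Subgroup G} (h : Nrm M K) : M ≤ nz K := fun γ hγ => mem_nz.2 fun x =>
  ⟨h γ hγ x, fun hx => by simpa [mul_assoc] using h.inv hγ hx⟩

theorem nrm_of_le {M K : Subgroup G} (h : M ≤ nz K) : Nrm M K := fun _ hγ x hx => (mem_nz.1 (h hγ) x).1 hx

theorem mem_nz_of [Finite G] {K : Subgroup G} {γ : G} (h : ∀ x ∈ K, γ * x * γ⁻¹ ∈ K) : γ ∈ nz K :=
  Subgroup.mem_normalizer_fintype h

/-- the conjugate subgroup -/
def cT (γ : G) (T : Subgroup G) : Subgroup G := T.comap (MulAut.conj γ⁻¹).toMonoidHom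

theorem mem_cT {γ x : G} {T : Subgroup G} : x ∈ cT γ T ↔ γ⁻¹ * x * γ ∈ T := by
  change γ⁻¹ * x * γ⁻¹⁻¹ ∈ T ↔ _
  rw [inv_inv]

theorem conj_mem_cT {γ x : G} {T : Subgroup G} : γ * x * γ⁻¹ ∈ cT γ T ↔ x ∈ T := by
  rw [mem_cT]
  simp [mul_assoc]

theorem cT_cT (γ : G) (T : Subgroup G) : cT γ (cT γ⁻¹ T) = T := by
  ext x
  rw [mem_cT, mem_cT]
  simp [mul_assoc]

theorem cT_bot (γ : G) : cT γ (⊥ : Subgroup G) = ⊥ := by
  ext x
  rw [mem_cT, Subgroup.mem_bot, Subgroup.mem_bot, mul_assoc, inv_mul_eq_one, eq_comm, mul_eq_right]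

theorem MinN.conj {N T : Subgroup G} (h : MinN N T) {γ : G} (hγ : γ ∈ nz N) : MinN N (cT γ T) := by
  have key : ∀ {T : Subgroup G} {γ : G}, γ ∈ nz N → Nrm N T → Nrm N (cT γ T) := by
    intro T γ hγ h n hn x hx
    have h1 := h _ ((nrm_of_le (le_refl (nz N))).inv hγ hn) _ (mem_cT.1 hx)
    rw [mem_cT]
    simpa [mul_assoc] using h1
  refine ⟨key hγ h.nrm, fun h0 => h.ne ?_, fun N' h1 h2 => ?_⟩
  · have h1 := cT_cT γ⁻¹ T
    rw [inv_inv, h0, cT_bot] at h1
    exact h1.symm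
  · rcases h.min (cT γ⁻¹ N') (fun x hx => conj_mem_cT.1 (h1 (by simpa using mem_cT.1 hx))) (key (inv_mem hγ) h2)
      with h3 | h3
    · left
      rw [← cT_cT γ N', h3, cT_bot]
    · right
      rw [← cT_cT γ N', h3]

theorem MinN.comm {N T T' : Subgroup G} (h : MinN N T) (h' : MinN N T') (h1 : T ≤ N) (h1' : T' ≤ N) (hne : T ≠ T') :
    ∀ x ∈ T, ∀ y ∈ T', x * y = y * x := by
  intro x hx y hy
  have h2 : T ⊓ T' = ⊥ := by
    rcases h.min _ inf_le_left (h.nrm.inf h'.nrm) with h2 | h2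
    · exact h2
    · rcases h'.min T (h2 ▸ inf_le_right) h.nrm with h3 | h3
      · exact absurd h3 h.ne
      · exact absurd h3 hne
  have h3 : x * y * x⁻¹ * y⁻¹ ∈ T ⊓ T' := by
    refine ⟨?_, T'.mul_mem (h'.nrm x (h1 hx) y hy) (T'.inv_mem hy)⟩
    have h4 := mul_mem hx (h.nrm y (h1' hy) _ (inv_mem hx))
    simpa [mul_assoc] using h4
  rw [h2, Subgroup.mem_bot, mul_inv_eq_one, mul_inv_eq_iff_eq_mul] at h3
  exact h3

/-- the components of a non-abelian minimal invariant subgroup -/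
structure Comp (M N : Subgroup G) (𝓣 : Set (Subgroup G)) : Prop where
  le : ∀ T ∈ 𝓣, T ≤ N
  simple : ∀ T ∈ 𝓣, IsSimpleGroup T
  noncomm : ∀ T ∈ 𝓣, ¬ IsMulCommutative T
  comm : ∀ T ∈ 𝓣, ∀ T' ∈ 𝓣, T ≠ T' → ∀ x ∈ T, ∀ y ∈ T', x * y = y * x
  gen : ∀ P : Subgroup G, (∀ T ∈ 𝓣, T ≤ P) → N ≤ P
  inv : ∀ γ ∈ M, ∀ T ∈ 𝓣, cT γ T ∈ 𝓣

theorem MinN.exists_comp [Finite G] {M N : Subgroup G} (h : MinN M N) (hc : ¬ ∀ x ∈ N, ∀ y ∈ N, x * y = y * x) :
    ∃ 𝓣, Comp M N 𝓣 := by
  let 𝓣 : Set (Subgroup G) := {T | T ≤ N ∧ MinN N T}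
  have hinv : ∀ γ ∈ M, ∀ T ∈ 𝓣, cT γ T ∈ 𝓣 := fun γ hγ T hT =>
    ⟨fun x hx => by simpa [mul_assoc] using h.nrm γ hγ _ (hT.1 (mem_cT.1 hx)), hT.2.conj (h.nrm.le_nz hγ)⟩
  have hcomm : ∀ T ∈ 𝓣, ∀ T' ∈ 𝓣, T ≠ T' → ∀ x ∈ T, ∀ y ∈ T', x * y = y * x := fun T hT T' hT' =>
    hT.2.comm hT'.2 hT.1 hT'.1
  have hgen : ∀ P : Subgroup G, (∀ T ∈ 𝓣, T ≤ P) → N ≤ P := by
    intro P hP
    have h1 : Nrm M (sSup 𝓣) := by
      intro γ hγ x hx
      have h2 : sSup 𝓣 ≤ cT γ⁻¹ (sSup 𝓣) := sSup_le fun T hT y hy => by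
        rw [mem_cT, inv_inv]
        exact le_sSup (hinv γ hγ T hT) (conj_mem_cT.2 hy)
      simpa using mem_cT.1 (h2 hx)
    rcases h.min _ (sSup_le fun T hT => hT.1) h1 with h2 | h2
    · obtain ⟨T, hT, hT'⟩ := exists_minN (nrm_self N) h.ne
      exact absurd (eq_bot_iff.2 (h2 ▸ le_sSup (show T ∈ 𝓣 from ⟨hT, hT'⟩))) hT'.ne
    · rw [← h2]
      exact sSup_le hP
  have hZ : N ⊓ Subgroup.centralizer (N : Set G) = ⊥ := by
    have h0 : Nrm M (Subgroup.centralizer (N : Set G)) := by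
      intro γ hγ x hx y hy
      have h1 := hx _ (h.nrm.inv hγ hy)
      calc y * (γ * x * γ⁻¹) = γ * (γ⁻¹ * y * γ * x) * γ⁻¹ := by group
        _ = γ * x * γ⁻¹ * y := by rw [h1]; group
    exact (h.min _ inf_le_left (h.nrm.inf h0)).resolve_right fun h1 => hc fun x hx y hy => (h1.ge hy).2 x hx
  refine ⟨𝓣, fun T hT => hT.1, fun T hT => ?_, fun T hT hT' => hT.2.ne ?_, hcomm, hgen, hinv⟩
  · have : Nontrivial T := (Subgroup.nontrivial_iff_ne_bot T).2 hT.2.ne
    refine ⟨fun K hK => ?_⟩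
    have h1 : N ≤ nz (K.map T.subtype) := by
      refine hgen _ fun T' hT' γ hγ => mem_nz_of ?_
      rintro _ ⟨x, hx, rfl⟩
      by_cases e : T' = T
      · exact ⟨_, hK.conj_mem x hx ⟨γ, e ▸ hγ⟩, rfl⟩
      · refine ⟨x, hx, ?_⟩
        rw [Subgroup.coe_subtype, hcomm T' hT' T hT e γ hγ _ x.2, mul_inv_cancel_right]
    rcases hT.2.min _ (Subgroup.map_subtype_le K) (nrm_of_le h1) with h2 | h2
    · exact Or.inl ((Subgroup.map_eq_bot_iff_of_injective K T.subtype_injective).1 h2)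
    · right
      apply Subgroup.map_injective T.subtype_injective
      rw [h2, ← MonoidHom.range_eq_map, Subgroup.range_subtype]
  · rw [eq_bot_iff, ← hZ]
    refine le_inf hT.1 fun x hx y hy => ?_
    have h1 : N ≤ Subgroup.centralizer {x} := by
      refine hgen _ fun T' hT'' z hz w hw => ?_
      rw [Set.mem_singleton_iff.1 hw]
      by_cases e : T' = T
      · exact congrArg Subtype.val (hT'.is_comm.comm (⟨x, hx⟩ : T) ⟨z, e ▸ hz⟩)
      · exact (hcomm T' hT'' T hT e z hz x hx).symm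
    exact (h1 hy x rfl).symm

/-- a simple normal subgroup with trivial centralizer -/
theorem ps_three (big : Big) [Finite G] {X T : Subgroup G} (hT : T ≤ X) (hn : Nrm X T) (hs : IsSimpleGroup T)
    (hc : ¬ IsMulCommutative T) (hC : ∀ γ ∈ X, (∀ t ∈ T, γ * t = t * γ) → γ = 1) : PS 3 X := by
  let e := Subgroup.subgroupOfEquivOfLe hT
  rw [← ps_top]
  refine Gen.boxTop big X (T.subgroupOf X) ⟨fun t ht g => hn g g.2 t ht⟩ e.isSimpleGroup (fun h => hc ⟨⟨fun a b => ?_⟩⟩)
    ?_ ⊤ le_top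
  · apply e.symm.injective
    rw [map_mul, map_mul]
    exact h.is_comm.comm _ _
  · rw [eq_bot_iff]
    intro γ hγ
    rw [Subgroup.mem_bot]
    exact Subtype.ext (hC γ γ.2 fun t ht => (congrArg Subtype.val (hγ ⟨t, hT ht⟩ ht)).symm)

end Cfsg.Agent.DS.Cl.Main
end

-- part: DS/Cl/Ten
section
prune_inst 0xe0003e445862000000180512300004447e000192004b84009cc00e4407cfd64028450e21f7f0181310ba0d5460340008101800804020000000000800011900a0900040049208ad04b60001807883180c00000000000000000000000000041004000000000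
set_option linter.all false
open scoped Cfsg.Agent.FastGrp

/-!
# Tensor decompositions
-/

set_option autoImplicit false

namespace Cfsg.Agent.DS.Cl

open Cfsg Cfsg.Agent.H936 Cfsg.Agent.DS
open scoped Pointwise

variable {A : Type} [Ring A] [StarRing A]

/-- a tensor decomposition -/
structure Tens (𝓑 : Set (Subring A)) : Prop where
  two : 𝓑.Nontrivial
  cen_le : ∀ B ∈ 𝓑, Subring.center A ≤ B
  not_le : ∀ B ∈ 𝓑, ¬ B ≤ Subring.center A
  star_mem : ∀ B ∈ 𝓑, ∀ x ∈ B, star x ∈ B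
  comm : ∀ B ∈ 𝓑, ∀ B' ∈ 𝓑, B ≠ B' → ∀ x ∈ B, ∀ y ∈ B', x * y = y * x
  gen : Subring.closure (⋃ B ∈ 𝓑, (B : Set A)) = ⊤

omit [StarRing A] in
theorem mem_smul_subring {γ : RingAut A} {B : Subring A} {x : A} : x ∈ γ • B ↔ γ⁻¹ x ∈ B :=
  Subring.mem_pointwise_smul_iff_inv_smul_mem

omit [StarRing A] in
theorem apply_mem_smul {γ : RingAut A} {B : Subring A} {x : A} : γ x ∈ γ • B ↔ x ∈ B := by
  rw [mem_smul_subring, ra_inv_apply]

omit [StarRing A] in
theorem coef_mem {n : ℕ} {E : Fin n → Fin n → A} {B : Subring A} (hE : ∀ i j, E i j ∈ B) {b : A} (hb : b ∈ B)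
    (i j : Fin n) : coef E b i j ∈ B :=
  B.sum_mem fun k _ => B.mul_mem (B.mul_mem (hE k i) hb) (hE j k)

/-- matrix units in a star-simple subring -/
theorem exists_mu_sub [Finite A] {B : Subring A} {hs : ∀ x ∈ B, star x ∈ B} (h : SS (Blk.ofSubring B hs).T) :
    ∃ (n : ℕ) (E : Fin n → Fin n → A), MU0 E ∧ (∀ i j, E i j ∈ B) ∧
      ∀ a ∈ B, (∀ i j, a * E i j = E i j * a) → ∀ b ∈ B, b * a = a * b := by
  obtain ⟨n, E, hE⟩ := h.exists_mu
  refine ⟨n, fun i j => (Blk.ofSubring B hs).val (E i j), ⟨fun i j k l => ?_, ?_⟩,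
    fun i j => (Blk.ofSubring B hs).val_mem _, fun a ha h1 => ?_⟩
  · have h1 := congrArg (Blk.ofSubring B hs).val (hE.mul i j k l)
    split_ifs at h1 ⊢ <;> exact h1
  · have h1 := congrArg (Blk.ofSubring B hs).val hE.sum
    rwa [map_sum] at h1
  · exact (Blk.ofSubring B hs).mem_center_iff.1
      (hE.cen ((Blk.ofSubring B hs).mk' a ha) fun i j => (Blk.ofSubring B hs).val_inj (h1 i j))

namespace Tens

variable {𝓑 : Set (Subring A)} (h : Tens 𝓑)
include h

theorem ind {T : Subring A} (hT : ∀ B ∈ 𝓑, B ≤ T) (a : A) : a ∈ T := by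
  have h1 : ⊤ ≤ T := by
    rw [← h.gen, Subring.closure_le]
    intro x hx
    simp only [Set.mem_iUnion] at hx
    obtain ⟨B, hB, hx⟩ := hx
    exact hT B hB hx
  exact h1 (Subring.mem_top a)

theorem cen_of {z : A} (hz : ∀ B ∈ 𝓑, ∀ y ∈ B, y * z = z * y) : z ∈ Subring.center A := by
  rw [Subring.mem_center_iff]
  intro g
  have h1 := h.ind (T := Subring.centralizer {z}) (fun B hB y hy w hw => by
    rw [Set.mem_singleton_iff.1 hw]; exact (hz B hB y hy).symm) g
  exact (h1 z rfl).symm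

theorem cen_blk {B : Subring A} (hB : B ∈ 𝓑) {z : A} (hz : z ∈ B) (hc : ∀ y ∈ B, y * z = z * y) :
    z ∈ Subring.center A := by
  refine h.cen_of fun B' hB' y hy => ?_
  by_cases e : B' = B
  · exact hc y (e ▸ hy)
  · exact h.comm B' hB' B hB e y hy z hz

/-- the member as a block -/
abbrev blk {B : Subring A} (hB : B ∈ 𝓑) : Blk A := Blk.ofSubring B (h.star_mem B hB)

theorem cen_iff {B : Subring A} (hB : B ∈ 𝓑) {z : (h.blk hB).T} :
    z ∈ Subring.center (h.blk hB).T ↔ (h.blk hB).val z ∈ Subring.center A := by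
  rw [Blk.mem_center_iff]
  exact ⟨h.cen_blk hB ((h.blk hB).val_mem z), fun hz y _ => cen_comm hz y⟩

theorem exists_ne {B : Subring A} (_ : B ∈ 𝓑) : ∃ B' ∈ 𝓑, B' ≠ B := h.two.exists_ne B

variable [Finite A]

theorem ss (hA : SS A) {B : Subring A} (hB : B ∈ 𝓑) : SS (h.blk hB).T := by
  have := hA.nontrivial
  set B' := h.blk hB
  have h1 : IsSemisimpleRing B'.T := by
    refine semisimple_of_two hA _ ?_
    set I := Ideal.span (B'.val '' (Ring.jacobson B'.T))
    let T : Subring A :=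
      { carrier := {a | ∀ x ∈ I, x * a ∈ I}
        mul_mem' := fun ha hb x hx => by rw [← mul_assoc]; exact hb _ (ha x hx)
        one_mem' := fun x hx => by rwa [mul_one]
        add_mem' := fun ha hb x hx => by rw [mul_add]; exact I.add_mem (ha x hx) (hb x hx)
        zero_mem' := fun x _ => by rw [mul_zero]; exact I.zero_mem
        neg_mem' := fun ha x hx => by rw [mul_neg]; exact I.neg_mem (ha x hx) }
    refine fun x hx a => h.ind (T := T) (fun B₁ hB₁ a ha x hx => ?_) a x hx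
    induction hx using Submodule.span_induction with
    | mem x hx =>
      obtain ⟨y, hy, rfl⟩ := hx
      by_cases e : B₁ = B
      · exact Ideal.subset_span ⟨y * B'.mk' a (show a ∈ B from e ▸ ha), Ideal.mul_mem_right _ _ hy, rfl⟩
      · rw [← h.comm B₁ hB₁ B hB e a ha _ (B'.val_mem y)]
        exact I.mul_mem_left _ (Ideal.subset_span ⟨y, hy, rfl⟩)
    | zero => rw [zero_mul]; exact I.zero_mem
    | add x y _ _ hx hy => rw [add_mul]; exact I.add_mem hx hy
    | smul b x _ hx => rw [smul_eq_mul, mul_assoc]; exact I.mul_mem_left _ hx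
  have hnt : Nontrivial B'.T := ⟨⟨1, 0, fun h1 => one_ne_zero (congrArg B'.val h1)⟩⟩
  refine ss_of_idem fun e hc h3 hee => ?_
  rcases hA.idem_symm ((h.cen_iff hB).1 hc) (congrArg B'.val h3) (congrArg B'.val hee) with h4 | h4
  · exact Or.inl (B'.val_inj h4)
  · exact Or.inr (B'.val_inj h4)

omit [Finite A] in
theorem noncomm {B : Subring A} (hB : B ∈ 𝓑) : ∃ a b : (h.blk hB).T, a * b ≠ b * a := by
  by_contra hcon
  push Not at hcon
  exact h.not_le B hB fun z hz => h.cen_blk hB hz fun y hy =>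
    congrArg (h.blk hB).val (hcon ((h.blk hB).mk' y hy) ((h.blk hB).mk' z hz))

/-- under an irreducible group every factor has an element of trace one -/
theorem exists_l (hA : SS A) {M : Subgroup (RingAut A)} (hM : M ≤ SAut A) (hI : Irr M)
    (hst : ∀ γ ∈ M, ∀ B ∈ 𝓑, γ • B ∈ 𝓑) {B₀ : Subring A} (hB₀ : B₀ ∈ 𝓑) : ∃ l ∈ B₀, l + star l = 1 := by
  classical
  have := hA.nontrivial
  by_cases hε : ∃ ε : A, Eps ε
  · obtain ⟨ε, hε⟩ := hε
    exact ⟨ε, h.cen_le _ hB₀ hε.cen, hε.add⟩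
  by_contra hcon
  let Tr : Subring A → A → Prop := fun B x => ∃ b ∈ B, x = b + star b
  let R : Subring A → A → Prop := fun B r => r ∈ B ∧ Tr B (r * star r)
  by_cases h2 : (2 : A) = 0
  swap
  · have h2c : (2 : A) ∈ Subring.center A := by
      rw [← one_add_one_eq_two]; exact Subring.add_mem _ (Subring.one_mem _) (Subring.one_mem _)
    obtain ⟨u, hu⟩ := hA.isUnit_of_not_eps hε h2c h2
    have h3 : ((u⁻¹ : Aˣ) : A) + (u⁻¹ : Aˣ) = 1 := by rw [← mul_two, ← hu, Units.inv_mul]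
    have h4 : star ((u⁻¹ : Aˣ) : A) = (u⁻¹ : Aˣ) := by
      have h5 := congrArg star h3
      rw [star_add, star_one, ← mul_two, ← hu] at h5
      rw [← mul_one (star _), ← u.mul_inv, ← mul_assoc, h5, one_mul]
    exact hcon ⟨_, h.cen_le _ hB₀ (inv_cen (hu ▸ h2c)), by rw [h4, h3]⟩
  have hneg : ∀ x : A, x + x = 0 := fun x => by rw [← two_mul, h2, zero_mul]
  have hTr : ∀ B x y, Tr B x → Tr B y → Tr B (x + y) := by
    rintro B _ _ ⟨a, ha, rfl⟩ ⟨b, hb, rfl⟩
    exact ⟨a + b, B.add_mem ha hb, by rw [star_add]; abel⟩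
  have hadd : ∀ B ∈ 𝓑, ∀ a ∈ B, ∀ b ∈ B, Tr B (a * star a + b * star b) → Tr B ((a + b) * star (a + b)) := by
    intro B hB a ha b hb h3
    have h4 := hTr B _ _ h3 ⟨a * star b, B.mul_mem ha (h.star_mem B hB b hb), rfl⟩
    convert h4 using 1
    rw [star_add, star_mul, star_star]
    noncomm_ring
  -- `R B` is non-zero
  have hR : ∀ B ∈ 𝓑, ∃ r, r ≠ 0 ∧ R B r := by
    intro B hB
    by_contra hcon'
    push Not at hcon'
    have h3 : Function.Injective fun a : (h.blk hB).T => a * star a := by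
      intro a b hab
      have hab' : (h.blk hB).val a * star ((h.blk hB).val a) = (h.blk hB).val b * star ((h.blk hB).val b) :=
        congrArg (h.blk hB).val hab
      have h4 : (h.blk hB).val a + (h.blk hB).val b = 0 := by
        by_contra h5
        refine hcon' _ h5 ⟨B.add_mem ((h.blk hB).val_mem a) ((h.blk hB).val_mem b),
          hadd B hB _ ((h.blk hB).val_mem a) _ ((h.blk hB).val_mem b) ⟨0, B.zero_mem, ?_⟩⟩
        rw [hab', hneg, star_zero, add_zero]
      apply (h.blk hB).val_inj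
      rw [← add_zero ((h.blk hB).val a), ← hneg ((h.blk hB).val b), ← add_assoc, h4, zero_add]
    have h4 : ∀ a : (h.blk hB).T, star a = a := fun a => by
      obtain ⟨b, rfl⟩ := Finite.surjective_of_injective h3 a
      simp only [star_mul, star_star]
    obtain ⟨a, b, hab⟩ := h.noncomm hB
    exact hab (by rw [← h4 (a * b), star_mul, h4, h4])
  -- a product of non-zero elements of different factors is non-zero
  have hmul : ∀ B ∈ 𝓑, ∀ r ∈ B, r ≠ 0 → ∀ y : A, (∀ b ∈ B, b * y = y * b) → r * y = 0 → y = 0 := by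
    intro B hB r hr hr0 y hy hry
    let J : Ideal (h.blk hB).T :=
      { carrier := {b | (h.blk hB).val b * y = 0}
        add_mem' := fun {a b} (ha : _ = _) (hb : _ = _) => by
          show (h.blk hB).val (a + b) * y = 0
          rw [map_add, add_mul, ha, hb, add_zero]
        zero_mem' := zero_mul y
        smul_mem' := fun c x (hx : _ = _) => by
          show (h.blk hB).val c * (h.blk hB).val x * y = 0
          rw [mul_assoc, hx, mul_zero] }
    have hε' : ¬ ∃ ε : (h.blk hB).T, Eps ε := by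
      rintro ⟨ε, h3⟩
      exact hε ⟨_, (h.cen_iff hB).1 h3.cen, congrArg (h.blk hB).val h3.idem, congrArg (h.blk hB).val h3.add⟩
    rcases (h.ss hA hB).two_of_not_eps hε' (I := J) (fun x (hx : _ = _) a => by
      show (h.blk hB).val x * (h.blk hB).val a * y = 0
      rw [mul_assoc, hy _ ((h.blk hB).val_mem a), ← mul_assoc, hx, zero_mul]) with h3 | h3
    · have h4 : (h.blk hB).mk' r hr ∈ J := hry
      rw [h3] at h4
      exact absurd (congrArg (h.blk hB).val h4) hr0
    · have h4 : (1 : (h.blk hB).T) ∈ J := by rw [h3]; trivial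
      have h5 : (1 : A) * y = 0 := h4
      rwa [one_mul] at h5
  have hy : ∀ s : Finset (Subring A), (∀ B ∈ s, B ∈ 𝓑) → ∃ y : A, y ≠ 0 ∧
      (∀ B ∈ 𝓑, B ∉ s → ∀ b ∈ B, b * y = y * b) ∧ ∀ B ∈ s, ∃ a r, R B r ∧ y = a * r := by
    intro s
    induction s using Finset.induction_on with
    | empty => exact fun _ => ⟨1, one_ne_zero, fun _ _ _ b _ => by simp, by simp⟩
    | insert B s hBs ih =>
      intro hs
      obtain ⟨y, y0, y1, y2⟩ := ih fun B' hB' => hs B' (Finset.mem_insert_of_mem hB')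
      have hB := hs B (Finset.mem_insert_self B s)
      obtain ⟨r, r0, hr⟩ := hR B hB
      refine ⟨r * y, fun e => y0 (hmul B hB r hr.1 r0 y (y1 B hB hBs) e), fun B' hB' hn b hb => ?_, fun B' hB' => ?_⟩
      · rw [Finset.mem_insert, not_or] at hn
        rw [← mul_assoc, h.comm B' hB' B hB hn.1 b hb r hr.1, mul_assoc, y1 B' hB' hn.2 b hb, mul_assoc]
      · rcases Finset.mem_insert.1 hB' with rfl | hB'
        · exact ⟨y, r, hr, y1 B' hB hBs r hr.1⟩
        · obtain ⟨a, r', hr', e⟩ := y2 B' hB'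
          exact ⟨r * a, r', hr', by rw [e, mul_assoc]⟩
  let Q : Ideal A :=
    { carrier := {a | ∀ B ∈ 𝓑, ∀ b, (∀ r, R B r → r * b = 0) → a * b = 0}
      add_mem' := fun ha hb B hB b h3 => by rw [add_mul, ha B hB b h3, hb B hB b h3, add_zero]
      zero_mem' := fun _ _ b _ => zero_mul b
      smul_mem' := fun c x hx B hB b h3 => by rw [smul_eq_mul, mul_assoc, hx B hB b h3, mul_zero] }
  have hQ : Two Q := by
    refine hI Q fun γ hγ a ha B hB b h3 => ?_
    have h4 := ha _ (hst _ (inv_mem hγ) B hB) (γ⁻¹ b) fun r hr => by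
      obtain ⟨r1, c, c1, c2⟩ := hr
      rw [mem_smul_subring, inv_inv] at r1 c1
      have h5 := h3 (γ r) ⟨r1, γ c, c1, by rw [← hM hγ, ← map_mul, c2, map_add, hM hγ]⟩
      apply γ.injective
      rw [map_mul, ra_apply_inv, h5, map_zero]
    rw [← ra_apply_inv γ b, ← map_mul, h4, map_zero]
  rcases hA.two_of_not_eps hε hQ with h3 | h3
  · obtain ⟨y, y0, -, y2⟩ := hy (Set.toFinite 𝓑).toFinset (by simp)
    have h4 : y ∈ Q := fun B hB b hb => by
      obtain ⟨a, r, hr, rfl⟩ := y2 B (by simpa using hB)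
      rw [mul_assoc, hb r hr, mul_zero]
    rw [h3] at h4
    exact y0 h4
  · let J : Ideal (h.blk hB₀).T :=
      { carrier := {r | R B₀ ((h.blk hB₀).val r)}
        add_mem' := fun {a b} ha hb => ⟨B₀.add_mem ha.1 hb.1, hadd B₀ hB₀ _ ha.1 _ hb.1 (hTr _ _ _ ha.2 hb.2)⟩
        zero_mem' := ⟨B₀.zero_mem, 0, B₀.zero_mem, by simp⟩
        smul_mem' := by
          rintro c x ⟨x1, b, hb, e⟩
          have hc := (h.blk hB₀).val_mem c
          refine ⟨B₀.mul_mem hc x1, (h.blk hB₀).val c * b * star ((h.blk hB₀).val c),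
            B₀.mul_mem (B₀.mul_mem hc hb) (h.star_mem _ hB₀ _ hc), ?_⟩
          change (h.blk hB₀).val c * (h.blk hB₀).val x * star ((h.blk hB₀).val c * (h.blk hB₀).val x) = _
          rw [star_mul, star_mul, star_mul, star_star, mul_assoc, ← mul_assoc ((h.blk hB₀).val x), e]
          noncomm_ring }
    obtain ⟨f, hf, -, hf2⟩ := (h.ss hA hB₀).exists_idem J
    have h4 : (1 : A) ∈ Q := by rw [h3]; trivial
    have h5 := h4 B₀ hB₀ (1 - (h.blk hB₀).val f) fun r hr => by
      have h6 := congrArg (h.blk hB₀).val (hf2 ((h.blk hB₀).mk' r hr.1) hr)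
      rw [mul_sub, mul_one, sub_eq_zero]
      exact h6.symm
    rw [one_mul, sub_eq_zero] at h5
    obtain ⟨-, b, hb, e⟩ := hf
    rw [← h5, star_one, mul_one] at e
    exact hcon ⟨b, hb, e.symm⟩

omit [Finite A] in
theorem l_sub_l (F : FR A) (hl : ∀ B ∈ 𝓑, ∃ l ∈ B, l + star l = 1) {B B' : Subring A} (hB : B ∈ 𝓑) (hB' : B' ∈ 𝓑)
    {x y : A} (hx : x ∈ B) (hy : y ∈ B') (hx' : x + star x = 1) (hy' : y + star y = 1) : x - y ∈ F.L := by
  have key : ∀ B ∈ 𝓑, ∀ B' ∈ 𝓑, B ≠ B' → ∀ x ∈ B, ∀ y ∈ B', x + star x = 1 → y + star y = 1 → x - y ∈ F.L := by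
    intro B hB B' hB' hne x hx y hy hx' hy'
    have h1 := F.sub_star_mem (x * star y)
    rw [star_mul, star_star, ← h.comm B hB B' hB' hne _ (h.star_mem B hB x hx) y hy] at h1
    convert h1 using 1
    have h2 : star x = 1 - x := by rw [← hx']; abel
    have h3 : star y = 1 - y := by rw [← hy']; abel
    rw [h2, h3]
    noncomm_ring
  by_cases e : B = B'
  · subst e
    obtain ⟨B'', hB'', hne⟩ := h.exists_ne hB
    obtain ⟨z, hz, hz'⟩ := hl B'' hB''
    have h1 := F.L.sub_mem (key B hB B'' hB'' hne.symm x hx z hz hx' hz') (key B hB B'' hB'' hne.symm y hy z hz hy' hz')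
    rwa [sub_sub_sub_cancel_right] at h1
  · exact key B hB B' hB' e x hx y hy hx' hy'

theorem l_cong (hA : SS A) (F : FR A) {M : Subgroup (RingAut A)} (hM : M ≤ F.Aut) (hI : Irr M)
    (hst : ∀ γ ∈ M, ∀ B ∈ 𝓑, γ • B ∈ 𝓑) {B : Subring A} (hB : B ∈ 𝓑) {x : A} (hx : x ∈ B) (hx' : x + star x = 1) :
    F.l - x ∈ F.L := by
  have hM' : M ≤ SAut A := hM.trans F.Aut_le_SAut
  have hl : ∀ B ∈ 𝓑, ∃ l ∈ B, l + star l = 1 := fun B hB => h.exists_l hA hM' hI hst hB
  refine FR.mem_L_of_inv hA hM' hI ?_ fun γ hγ => ?_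
  · have h1 : star F.l = 1 - F.l := by rw [← F.l_add]; abel
    have h2 : star x = 1 - x := by rw [← hx']; abel
    rw [star_sub, h1, h2]; abel
  · have h1 := h.l_sub_l F hl (hst γ hγ B hB) hB (apply_mem_smul.2 hx) hx
      (by rw [← hM' hγ, ← map_add, hx', map_one]) hx'
    convert F.L.sub_mem (hM hγ).2 h1 using 1
    rw [map_sub]
    abel

/-- the flip interchanging two factors -/
theorem exists_flip (hA : SS A) {γ : RingAut A} (hl : γ ∈ Lin A) {B : Subring A} (hB : B ∈ 𝓑) (hB' : γ • B ∈ 𝓑)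
    (hne : γ • B ≠ B) : ∃ w : Aˣ, (∀ b ∈ B, cj A w b = γ b) ∧ (∀ b ∈ B, cj A w (γ b) = b) ∧
      ∀ B'' ∈ 𝓑, B'' ≠ B → B'' ≠ γ • B → ∀ b ∈ B'', cj A w b = b := by
  obtain ⟨n, E, hE, hEm, hEc⟩ := exists_mu_sub (h.ss hA hB)
  have hE' : MU0 fun i j => γ (E i j) := hE.map (γ : A →+* A)
  have hc : ∀ i j k l, γ (E i j) * E k l = E k l * γ (E i j) := fun i j k l =>
    h.comm _ hB' _ hB hne _ (apply_mem_smul.2 (hEm i j)) _ (hEm k l)
  let w : A := ∑ a, ∑ b, E a b * γ (E b a)
  have h1 : ∀ i j, w * E i j = ∑ a, E a j * γ (E i a) := by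
    intro i j
    rw [Finset.sum_mul]
    refine Finset.sum_congr rfl fun a _ => ?_
    rw [Finset.sum_mul, Finset.sum_eq_single i]
    · rw [mul_assoc, hc, ← mul_assoc, hE.mul_eq]
    · intro b _ hb
      rw [mul_assoc, hc, ← mul_assoc, hE.mul, if_neg hb, zero_mul]
    · intro hi; exact absurd (Finset.mem_univ i) hi
  have h2 : ∀ i j, γ (E i j) * w = ∑ a, E a j * γ (E i a) := by
    intro i j
    rw [Finset.mul_sum]
    refine Finset.sum_congr rfl fun a _ => ?_
    rw [Finset.mul_sum, Finset.sum_eq_single j]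
    · rw [← mul_assoc, hc, mul_assoc, hE'.mul_eq]
    · intro b _ hb
      rw [← mul_assoc, hc, mul_assoc, hE'.mul, if_neg (Ne.symm hb), mul_zero]
    · intro hi; exact absurd (Finset.mem_univ j) hi
  have h3 : w * w = 1 := by
    have e1 : w * w = ∑ c, ∑ d, w * E c d * γ (E d c) := by
      conv_lhs => rw [show w * w = w * ∑ a, ∑ b, E a b * γ (E b a) from rfl]
      simp only [Finset.mul_sum, mul_assoc]
    have e2 : ∀ c d, w * E c d * γ (E d c) = E d d * γ (E c c) := by
      intro c d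
      rw [h1, Finset.sum_mul, Finset.sum_eq_single d]
      · rw [mul_assoc, hE'.mul_eq]
      · intro b _ hb
        rw [mul_assoc, hE'.mul, if_neg hb, mul_zero]
      · intro hi; exact absurd (Finset.mem_univ d) hi
    rw [e1]
    simp only [e2]
    simp only [← Finset.sum_mul, hE.sum, one_mul]
    exact hE'.sum
  let u : Aˣ := ⟨w, w, h3, h3⟩
  have h4 : ∀ b ∈ B, cj A u b = γ b := by
    intro b hb
    have h6 : ∀ i j, coef E b i j ∈ Subring.center A := fun i j =>
      h.cen_blk hB (coef_mem hEm hb i j) (hEc _ (coef_mem hEm hb i j) (hE.coef_comm b i j))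
    rw [hE.expand b]
    simp only [map_sum, map_mul, hl _ (h6 _ _), cj_mem_Lin u _ (h6 _ _)]
    refine Finset.sum_congr rfl fun i _ => Finset.sum_congr rfl fun j _ => ?_
    rw [cj_eq_of_mul (u := u) ((h1 i j).trans (h2 i j).symm)]
  refine ⟨u, h4, fun b hb => ?_, fun B'' hB'' n1 n2 b hb => cj_eq_of_mul ?_⟩
  · rw [← h4 b hb, ← ra_mul, ← map_mul, show u * u = 1 from Units.ext h3, map_one, ra_one]
  · change w * b = b * w
    simp only [w, Finset.sum_mul, Finset.mul_sum]
    refine Finset.sum_congr rfl fun i _ => Finset.sum_congr rfl fun j _ => ?_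
    rw [mul_assoc, ← h.comm _ hB'' _ hB' n2 b hb _ (apply_mem_smul.2 (hEm j i)), ← mul_assoc,
      ← h.comm _ hB'' _ hB n1 b hb _ (hEm i j), mul_assoc]

end Tens

omit [StarRing A] in
theorem smul_eq_of_inv {γ : RingAut A} {B B' : Subring A} (h1 : ∀ x ∈ B, γ x ∈ B') (h2 : ∀ x ∈ B', γ⁻¹ x ∈ B) :
    γ • B = B' := by
  ext x
  rw [mem_smul_subring]
  exact ⟨fun hx => by simpa only [ra_apply_inv] using h1 _ hx, h2 x⟩

omit [StarRing A] in
theorem smul_eq_of_fix {γ : RingAut A} {B : Subring A} (h : ∀ x ∈ B, γ x = x) : γ • B = B :=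
  smul_eq_of_inv (fun x hx => by rwa [h x hx]) fun x hx => by
    rwa [show γ⁻¹ x = x from inv_mem (show γ ∈ Fix (B : Set A) from h) x hx]

theorem boxTen (hP5 : BoxP5) (hNC : BoxNC) : BoxTen := by
  intro A _ _ _ F M h hI 𝓑 t1 t2 t3 t4 t5 t6 hst
  have hT : Tens 𝓑 := ⟨t1, t2, t3, t4, t5, t6⟩
  replace hst : ∀ γ ∈ M, ∀ B ∈ 𝓑, γ • B ∈ 𝓑 := hst
  have hl : ∀ B ∈ 𝓑, ∃ l ∈ B, l + star l = 1 := fun B hB => hT.exists_l h.ss h.le_SAut hI hst hB
  have hcong : ∀ B ∈ 𝓑, ∀ x ∈ B, x + star x = 1 → F.l - x ∈ F.L := fun B hB x hx =>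
    hT.l_cong h.ss F h.le hI hst hB hx
  -- automorphisms permuting the factors preserve the form
  have hAut : ∀ δ ∈ SAut A, ∀ B ∈ 𝓑, ∀ B' ∈ 𝓑, (∀ x ∈ B, δ x ∈ B') → δ ∈ F.Aut := by
    intro δ hδ B hB B' hB' hBB
    obtain ⟨x, hx, hx'⟩ := hl B hB
    refine ⟨hδ, ?_⟩
    have h1 := F.L.sub_mem (F.map_mem hδ (hcong B hB x hx hx'))
      (hcong B' hB' _ (hBB x hx) (by rw [← hδ, ← map_add, hx', map_one]))
    rwa [map_sub, sub_sub_sub_cancel_right] at h1
  have hup : ∀ B ∈ 𝓑, ∀ u ∈ B, ∀ hu : u * star u = 1, cj A (mkU u hu) ∈ F.Aut ∧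
      (∀ x, cj A (mkU u hu) x = u * x * star u) ∧ (∀ B' ∈ 𝓑, B' ≠ B → ∀ x ∈ B', cj A (mkU u hu) x = x) ∧
      cj A (mkU u hu) ∈ ptStab (RingAut A) 𝓑 := by
    intro B hB u huB hu
    have h1 : ∀ B' ∈ 𝓑, B' ≠ B → ∀ x ∈ B', cj A (mkU u hu) x = x := fun B' hB' hne x hx =>
      cj_eq_of_mul (t5 B' hB' B hB hne x hx u huB).symm
    obtain ⟨B', hB', hne⟩ := hT.exists_ne hB
    refine ⟨hAut _ (cj_SAut_of_cen (by rw [mkU_val, mul_eq_one_comm.1 hu]; exact Subring.one_mem _)) B' hB' B' hB'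
      (fun x hx => by rwa [h1 B' hB' hne x hx]), fun _ => rfl, h1, fun B'' hB'' => ?_⟩
    by_cases e : B'' = B
    · subst e
      exact smul_eq_of_inv (fun x hx => B''.mul_mem (B''.mul_mem huB hx) (t4 _ hB u huB))
        fun x hx => B''.mul_mem (B''.mul_mem (t4 _ hB u huB) hx) huB
    · exact smul_eq_of_fix (h1 B'' hB'' e)
  let P := F.Aut ⊓ setStab (RingAut A) 𝓑
  have hpt : ptStab (RingAut A) 𝓑 ≤ setStab (RingAut A) 𝓑 := le_setStab fun g hg B hB => by rwa [hg B hB]
  have hS : ¬ F.S ≤ P := by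
    intro hS
    obtain ⟨B, hB⟩ := t1.nonempty
    obtain ⟨B', hB', hne⟩ := hT.exists_ne hB
    obtain ⟨x, hx, hx'⟩ := hl B hB
    obtain ⟨u, hu, huc⟩ := hNC _ (hT.ss h.ss hB) ⟨(hT.blk hB).mk' x hx, Lmax _, (hT.blk hB).val_inj hx', Or.inr rfl⟩
      (hT.noncomm hB)
    obtain ⟨u1, -, u3, u4⟩ := hup B hB _ ((hT.blk hB).val_mem u) (congrArg (hT.blk hB).val hu.1)
    apply huc
    rw [hT.cen_iff hB]
    refine (cj_eq_one_iff (u := mkU _ (congrArg (hT.blk hB).val hu.1))).1 ?_
    by_cases hK : F.S ≤ ptStab (RingAut A) 𝓑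
    · refine h.eq_one_of_norm (K := F.Aut ⊓ Lin A ⊓ Fix (B' : Set A)) inf_le_left (fun s hs k hk => ?_) (fun hle => ?_) _
        ⟨⟨u1, cj_mem_Lin _⟩, u3 B' hB' hne⟩
      · refine ⟨⟨F.Aut.mul_mem (F.Aut.mul_mem (F.S_le_Aut hs) hk.1.1) (F.Aut.inv_mem (F.S_le_Aut hs)), Lin_conj hk.1.2 s⟩,
          fun y hy => ?_⟩
        rw [ra_mul, ra_mul, hk.2 _ (mem_smul_subring.1 ((hK hs B' hB').symm ▸ hy)), ra_apply_inv]
      · exact t3 B' hB' fun z hz => FR.cen_of_S h.span fun s hs => (hle hs).2 z hz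
    · refine h.eq_one_of_norm (K := F.Aut ⊓ Lin A ⊓ ptStab (RingAut A) 𝓑) inf_le_left (fun s hs k hk => ?_)
        (fun hle => hK fun s hs => (hle hs).2) _ ⟨⟨u1, cj_mem_Lin _⟩, u4⟩
      exact ⟨⟨F.Aut.mul_mem (F.Aut.mul_mem (F.S_le_Aut hs) hk.1.1) (F.Aut.inv_mem (F.S_le_Aut hs)), Lin_conj hk.1.2 s⟩,
        conj_mem_ptStab (hS hs).2 hk.2⟩
  rw [h.eq_of_le (P := P) (le_inf h.le (le_setStab hst)) inf_le_left hS]
  refine ps_up (a := 1) (b := 5 + 3) (Q := P ⊓ Lin A)
    (le_inf (dS_le _ _) ((dS_mono inf_le_left 1).trans (FR.dS_one_le h.ss))) inf_le_left ?_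
  refine ps_of_flip (s := 𝓑) (inf_le_left.trans inf_le_right) ?_ ?_
  · choose! l hl1 hl2 using hl
    let B : 𝓑 → BD F.max := fun B =>
      ⟨hT.blk B.2, l B, hl1 B B.2, hl2 B B.2, Or.inl rfl, Or.inr (hT.ss h.ss B.2)⟩
    refine transfer hP5 B (a := 0) (K := P ⊓ Lin A ⊓ ptStab (RingAut A) 𝓑) (fun γ hγ => hγ.1.1.1.1) (fun i γ hγ x hx => ?_) (fun γ hγ i => ?_)
      (fun i u hu h1 _ _ => ?_) (ps_of_bot ?_)
    · have h1 : γ x ∈ γ • i.1 := apply_mem_smul.2 hx
      rwa [hγ.2 i i.2] at h1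
    · have h1 : star (l i) = 1 - l i := by rw [← hl2 i i.2]; abel
      show star (γ (l i) - l i) = -(γ (l i) - l i)
      rw [star_sub, ← hγ.1.1.1.1, h1, map_sub, map_one]
      abel
    · obtain ⟨u1, u2, u3, u4⟩ := hup i i.2 u hu h1
      exact ⟨_, ⟨⟨⟨u1, hpt u4⟩, cj_mem_Lin _⟩, u4⟩, fun x _ => u2 x,
        fun j hj x hx => u3 j j.2 (fun e => hj (Subtype.ext e)) x hx⟩
    · rw [dS_zero, eq_bot_iff]
      intro γ hγ
      rw [Subgroup.mem_bot]
      ext a
      exact hT.ind (T := (γ : A →+* A).eqLocus (RingHom.id A))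
        (fun B' hB' x hx => hγ.2 x (Set.mem_iUnion.2 ⟨⟨B', hB'⟩, hx⟩)) a
  · intro γ hγ B hB hne
    have hB' : γ • B ∈ 𝓑 := (hγ.1.2 B).1 hB
    obtain ⟨w, w1, w2, w3⟩ := hT.exists_flip h.ss hγ.2 hB hB' hne
    have w1' : ∀ b ∈ B, (cj A w)⁻¹ b = γ b := fun b hb => by
      apply (cj A w).injective
      rw [ra_apply_inv, w2 b hb]
    have e1 : cj A w • B = γ • B := smul_eq_of_inv (fun x hx => by rw [w1 x hx]; exact apply_mem_smul.2 hx)
      fun x hx => by
        rw [← ra_apply_inv γ x, ← w1 _ (mem_smul_subring.1 hx), ra_inv_apply]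
        exact mem_smul_subring.1 hx
    have e2 : cj A w • γ • B = B := smul_eq_of_inv
      (fun x hx => by rw [← ra_apply_inv γ x, w2 _ (mem_smul_subring.1 hx)]; exact mem_smul_subring.1 hx)
      fun x hx => by rw [w1' x hx]; exact apply_mem_smul.2 hx
    have e3 : ∀ B'' ∈ 𝓑, B'' ≠ B → B'' ≠ γ • B → cj A w • B'' = B'' := fun B'' hB'' n1 n2 =>
      smul_eq_of_fix (w3 B'' hB'' n1 n2)
    have hw : cj A w ∈ SAut A := by
      let T : Subring A :=
        { carrier := {a | cj A w (star a) = star (cj A w a)}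
          mul_mem' := fun {a b} (ha : _ = _) (hb : _ = _) => by
            show cj A w (star (a * b)) = star (cj A w (a * b))
            rw [star_mul, map_mul, map_mul, star_mul, ha, hb]
          one_mem' := by simp only [_root_.Set.mem_ofPred_eq, _root_.star_one, _root_.map_one]
          add_mem' := fun {a b} (ha : _ = _) (hb : _ = _) => by
            show cj A w (star (a + b)) = star (cj A w (a + b))
            rw [star_add, map_add, map_add, star_add, ha, hb]
          zero_mem' := by simp only [_root_.Set.mem_ofPred_eq, _root_.star_zero, _root_.map_zero]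
          neg_mem' := fun {a} (ha : _ = _) => by
            show cj A w (star (-a)) = star (cj A w (-a))
            rw [star_neg, map_neg, map_neg, star_neg, ha] }
      refine hT.ind (T := T) fun B'' hB'' x hx => ?_
      show cj A w (star x) = star (cj A w x)
      by_cases n1 : B'' = B
      · subst n1
        rw [w1 _ (t4 _ hB x hx), w1 x hx, hγ.1.1.1]
      by_cases n2 : B'' = γ • B
      · subst n2
        have hx' := mem_smul_subring.1 hx
        rw [← ra_apply_inv γ x, ← hγ.1.1.1, w2 _ (t4 _ hB _ hx'), w2 _ hx']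
      · rw [w3 _ hB'' n1 n2 _ (t4 _ hB'' x hx), w3 _ hB'' n1 n2 x hx]
    refine ⟨cj A w, ⟨⟨hAut _ hw B hB _ hB' fun x hx => by rw [w1 x hx]; exact apply_mem_smul.2 hx, fun B'' => ?_⟩,
      cj_mem_Lin _⟩, e1, e2, e3⟩
    by_cases n1 : B'' = B
    · rw [n1, e1]; exact iff_of_true hB hB'
    by_cases n2 : B'' = γ • B
    · rw [n2, e2]; exact iff_of_true hB' hB
    refine ⟨fun h1 => by rwa [e3 _ h1 n1 n2], fun h1 => ?_⟩
    have n3 : cj A w • B'' ≠ B := fun e => n2 (smul_left_cancel (cj A w) (e.trans e2.symm))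
    have n4 : cj A w • B'' ≠ γ • B := fun e => n1 (smul_left_cancel (cj A w) (e.trans e1.symm))
    exact smul_left_cancel (cj A w) (e3 _ h1 n3 n4) ▸ h1

end Cfsg.Agent.DS.Cl
end
end

-- part: DS/Cl/Main
section
set_option linter.all false
open scoped Cfsg.Agent.FastGrp

-- part: DS/Cl/Fld
section
/-!
# Field extension subgroups and the stabilizers of a pair of totally singular subspaces of half dimension
-/

set_option autoImplicit false

namespace Cfsg.Agent.DS.Cl

open Cfsg Cfsg.Agent.H936 Cfsg.Agent.DS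

variable {A : Type} [Ring A] [StarRing A] [Finite A]

/-- averaging over the units of a subfield on which `star` is trivial -/
theorem exists_avg (Z : Subring A) (hs : ∀ x ∈ Z, star x = x)
    (hu : ∀ x ∈ Z, x ≠ 0 → ∃ y ∈ Z, x * y = 1 ∧ y * x = 1) [Nontrivial A] :
    ∃ π : A →+ A, (∀ a, π a ∈ Subring.centralizer (Z : Set A)) ∧ (∀ a ∈ Subring.centralizer (Z : Set A), π a = a) ∧
      (∀ a, π (star a) = star (π a)) ∧
      ∀ γ : RingAut A, (∀ x, x ∈ Z ↔ γ x ∈ Z) → ∀ a, γ (π a) = π (γ a) := by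
  classical
  have := Fintype.ofFinite A
  let T : Finset Aˣ := Finset.univ.filter fun u => (u : A) ∈ Z
  have hT : ∀ u, u ∈ T ↔ (u : A) ∈ Z := fun u => by simp [T]
  have hinv : ∀ u : Aˣ, (u : A) ∈ Z → ((u⁻¹ : Aˣ) : A) ∈ Z := by
    intro u hu'
    obtain ⟨y, hy, h1, -⟩ := hu _ hu' u.ne_zero
    have : ((u⁻¹ : Aˣ) : A) = y := by rw [← mul_one ((u⁻¹ : Aˣ) : A), ← h1, ← mul_assoc, Units.inv_mul, one_mul]
    exact this ▸ hy
  have hcard : (T.card : A) = -1 := by
    let T' : Finset A := Finset.univ.filter fun x => x ∈ Z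
    have h1 : T.card = (T'.erase 0).card := by
      refine Finset.card_bij (fun u _ => (u : A)) (fun u hu' => ?_) (fun u _ v _ huv => Units.ext huv) fun x hx => ?_
      · simp only [T', Finset.mem_erase, Finset.mem_filter, Finset.mem_univ, true_and]
        exact ⟨u.ne_zero, (hT u).1 hu'⟩
      · simp only [T', Finset.mem_erase, Finset.mem_filter, Finset.mem_univ, true_and] at hx
        obtain ⟨y, -, h2, h3⟩ := hu x hx.2 hx.1
        exact ⟨⟨x, y, h2, h3⟩, (hT _).2 hx.2, rfl⟩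
    have h2 : (T'.erase 0).card + 1 = T'.card := Finset.card_erase_add_one (by simp [T'])
    have h3 : T'.card = Nat.card Z := by
      rw [Nat.card_eq_fintype_card, Fintype.card_subtype]
    have h4 : (Nat.card Z : Z) = 0 := by
      rw [← nsmul_one]
      exact card_nsmul_eq_zero'
    have h5 : (Nat.card Z : A) = 0 := by
      have h6 := congrArg Z.subtype h4
      rwa [map_natCast, map_zero] at h6
    rw [← h3, ← h2, ← h1, Nat.cast_add, Nat.cast_one] at h5
    exact eq_neg_of_add_eq_zero_left h5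
  let π : A →+ A :=
    { toFun := fun a => -∑ u ∈ T, cj A u a
      map_zero' := by simp
      map_add' := fun a b => by simp only [map_add, Finset.sum_add_distrib, neg_add] }
  have hπ : ∀ a, π a = -∑ u ∈ T, cj A u a := fun _ => rfl
  refine ⟨π, fun a z hz => ?_, fun a ha => ?_, fun a => ?_, fun γ hγ a => ?_⟩
  · by_cases h0 : z = 0
    · simp [h0]
    obtain ⟨y, -, h2, h3⟩ := hu z hz h0
    let v : Aˣ := ⟨z, y, h2, h3⟩
    have h4 : cj A v (π a) = π a := by
      rw [hπ, map_neg, map_sum]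
      congr 1
      refine Finset.sum_equiv (Equiv.mulLeft v) (fun u => ?_) fun u _ => ?_
      · rw [hT, hT]
        refine ⟨fun h5 => Z.mul_mem hz h5, fun h5 => ?_⟩
        have h6 := Z.mul_mem (hinv v hz) h5
        simpa using h6
      · rw [Equiv.coe_mulLeft, map_mul, ra_mul]
    have h5 := cj_mul_eq v (π a)
    rw [h4] at h5
    exact h5.symm
  · rw [hπ, Finset.sum_congr rfl fun u hu' => cj_eq_of_mul (b := a) (ha _ ((hT u).1 hu')), Finset.sum_const,
      nsmul_eq_mul, hcard]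
    simp
  · rw [hπ, hπ, star_neg, star_sum]
    congr 1
    refine Finset.sum_equiv (Equiv.inv Aˣ) (fun u => ?_) fun u hu' => ?_
    · rw [hT, hT]
      exact ⟨hinv u, fun h5 => by simpa using hinv _ h5⟩
    · have h5 := (hT u).1 hu'
      rw [Equiv.inv_apply, cj_apply, cj_apply, star_mul, star_mul, inv_inv, hs _ h5, hs _ (hinv u h5), mul_assoc]
  · rw [hπ, hπ, map_neg, map_sum]
    congr 1
    refine Finset.sum_equiv (Units.mapEquiv γ.toMulEquiv).toEquiv (fun u => ?_) fun u _ => ?_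
    · rw [hT, hT]
      exact hγ _
    · rw [cj_apply, cj_apply, map_mul, map_mul]
      rfl

/-- the centralizer of an invariant commutative subring carries a compatible form -/
theorem exists_bd_fld (h : SS A) (F : FR A) {M : Subgroup (RingAut A)} (hM : M ≤ F.Aut) (hI : Irr M)
    (hD : ∀ D : Finset A, Fr D → ¬ Inv M D) {Z : Subring A} (hs : ∀ x ∈ Z, star x ∈ Z)
    (hc : ∀ x ∈ Z, ∀ y ∈ Z, x * y = y * x) (hZ : Inv M Z) :
    ∃ B : BD F, B.e = 1 ∧ (∀ x, x ∈ B.car ↔ x ∈ Subring.centralizer (Z : Set A)) ∧ F.l - B.l ∈ F.L := by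
  have := h.nontrivial
  have hM' : M ≤ SAut A := hM.trans F.Aut_le_SAut
  have hsZ := ss_of_inv h hM' hI hD hs hZ
  have hsA := ss_of_inv h hM' hI hD (star_centralizer hs) (inv_centralizer hZ)
  have hcZ : ∀ x : (Blk.ofSubring Z hs).T, x ∈ Subring.center (Blk.ofSubring Z hs).T := fun x =>
    (Blk.ofSubring Z hs).mem_center_iff.2 fun y hy => hc y hy _ ((Blk.ofSubring Z hs).val_mem x)
  have hl : ∀ l' : A, l' + star l' = 1 → star (F.l - l') = -(F.l - l') := fun l' hl' => by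
    have h1 : star F.l = 1 - F.l := by rw [← F.l_add]; abel
    have h2 : star l' = 1 - l' := by rw [← hl']; abel
    rw [star_sub, h1, h2]; abel
  by_cases htr : ∀ x ∈ Z, star x = x
  · obtain ⟨π, p1, p2, p3, p4⟩ := exists_avg Z htr fun x hx h0 =>
      Blk.isUnit_val (hsZ.isUnit_of_cen (hcZ ((Blk.ofSubring Z hs).mk' x hx))
        ((Blk.ofSubring Z hs).val_inj (htr x hx)) fun h1 => h0 (congrArg (Blk.ofSubring Z hs).val h1))
    have h1 : π F.l + star (π F.l) = 1 := by rw [← p3, ← map_add, F.l_add, p2 _ (Subring.one_mem _)]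
    have hπL : ∀ x ∈ F.L, π x ∈ F.L := by
      intro x hx
      rcases F.par with h2 | h2 <;> rw [h2] at hx ⊢
      · obtain ⟨a, rfl⟩ := hx
        exact ⟨π a, by rw [map_sub, p3]⟩
      · have hx' : star x = -x := hx
        show star (π x) = -π x
        rw [← p3, hx', map_neg]
    refine ⟨⟨Blk.ofSubring _ (star_centralizer hs), π F.l, p1 _, h1, Or.inr fun a ha => ⟨π a, p1 _, ?_⟩,
      Or.inr hsA⟩, rfl, fun _ => Iff.rfl, ?_⟩
    · rw [← p3, ← map_sub, p2 _ ha]
    · refine FR.mem_L_of_inv h hM' hI (hl _ h1) fun γ hγ => ?_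
      have h2 := F.L.sub_mem (hM hγ).2 (hπL _ (hM hγ).2)
      convert h2 using 1
      rw [map_sub, map_sub, p4 γ (Blk.mem_stab (B := Blk.ofSubring Z hs) hZ hγ)]
      abel
  · push Not at htr
    obtain ⟨z, hz, hz'⟩ := htr
    obtain ⟨c', -, hc'⟩ := hsZ.exists_trace_one (hcZ ((Blk.ofSubring Z hs).mk' z hz))
      fun h1 => hz' (congrArg (Blk.ofSubring Z hs).val h1)
    obtain ⟨c, hcm, h1⟩ : ∃ c ∈ Z, c + star c = 1 :=
      ⟨_, (Blk.ofSubring Z hs).val_mem c', congrArg (Blk.ofSubring Z hs).val hc'⟩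
    have h2 : ∀ x ∈ Subring.centralizer (Z : Set A), star x = -x → x = c * x - star (c * x) := by
      intro x hx hx'
      rw [star_mul, hx', neg_mul, sub_neg_eq_add, ← hx _ (hs c hcm), ← add_mul, h1, one_mul]
    have h3 : ∀ x ∈ Z, x ∈ Subring.centralizer (Z : Set A) := fun x hx y hy => hc y hy x hx
    refine ⟨⟨Blk.ofSubring _ (star_centralizer hs), c, h3 c hcm, h1, Or.inr fun a ha =>
      ⟨c * (a - star a), Subring.mul_mem _ (h3 c hcm) ha, h2 _ ha (by rw [star_sub, star_star, neg_sub])⟩,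
      Or.inr hsA⟩, rfl, fun _ => Iff.rfl, ?_⟩
    refine FR.mem_L_of_inv h hM' hI (hl _ h1) fun γ hγ => ?_
    have h4 : γ c - c ∈ F.L := by
      have h5 : star (γ c) = 1 - γ c := by rw [← hM' hγ, ← map_one γ, ← h1, map_add]; abel
      have h6 : star c = 1 - c := by rw [← h1]; abel
      rw [h2 (γ c - c) (h3 _ (Z.sub_mem (hZ γ hγ c hcm) hcm)) (by rw [star_sub, h5, h6]; abel)]
      exact F.sub_star_mem _
    convert F.L.sub_mem (hM hγ).2 h4 using 1
    rw [map_sub]
    abel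

theorem boxFld (hP5 : BoxP5) : BoxFld := by
  intro A _ _ _ F M h hI hD Z _ hZC hs hc hZ
  obtain ⟨B, he, hB, hl⟩ := exists_bd_fld h.ss F h.le hI hD hs hc hZ
  have hsZ := ss_of_inv h.ss h.le_SAut hI hD hs hZ
  set Z' := Blk.ofSubring Z hs
  let K := F.Aut ⊓ Z'.stab
  have hKZ : Inv K Z := fun γ hγ x hx => (hγ.2 x).1 hx
  have hS : ¬ F.S ≤ K := by
    intro hS
    apply hZC
    intro z hz
    have h1 : ⁅K, K⁆ ≤ Fix (Z : Set A) := by
      rw [Subgroup.commutator_le]
      intro γ hγ δ hδ x hx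
      have h2 : ∀ y ∈ Z, γ (δ y) = δ (γ y) := fun y hy =>
        congrArg Z'.val (hsZ.comm_cen (Z'.res_SAut (γ := ⟨γ, hγ.2⟩) hγ.1.1) (Z'.res_SAut (γ := ⟨δ, hδ.2⟩) hδ.1.1)
          (c := Z'.mk' y hy) (Z'.mem_center_iff.2 fun w hw => hc w hw y hy))
      rw [commutatorElement_def, ra_mul, ra_mul, ra_mul, h2 _ (hKZ _ (inv_mem hγ) _ (hKZ _ (inv_mem hδ) x hx)),
        ra_apply_inv, ra_apply_inv]
    exact FR.cen_of_S h.span fun s hs' => h1 (Subgroup.commutator_mono hS hS (h.perfect hs')) z hz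
  rw [h.eq_of_le (P := K) (le_inf h.le (Blk.mem_stab hZ)) inf_le_left hS]
  have hL : Levi (fun _ : Unit => B) :=
    ⟨fun i j hij => absurd rfl hij, by simp [he], by simpa using hl, fun _ g hg => by
      rw [he, mul_one, hB]
      exact fun z hz => (hg z ((hB z).2 fun y hy => hc y hy z hz)).symm⟩
  refine (hL.ps hP5 h.ss inf_le_left (fun _ γ hγ x hx => ?_) fun u hu _ hu' => ⟨FR.cj_mem_Aut hu, fun x => ?_⟩).mono
    (by norm_num)
  · exact (hB _).2 (inv_centralizer hKZ γ hγ x ((hB x).1 hx))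
  · rw [he, sub_self, sub_zero, hB] at hu'
    have h1 : ∀ y ∈ Z, cj A u y = y := fun y hy => cj_eq_of_mul (hu' y hy).symm
    refine ⟨fun hx => by rwa [h1 x hx], fun hx => ?_⟩
    have h2 := (cj A u).injective (h1 _ hx)
    exact h2 ▸ hx

end Cfsg.Agent.DS.Cl
end

-- part: DS/Cl/Main
section
/-!
# The box `BoxMain` from `BoxPar` and `BoxNS` (helper54)
-/

set_option autoImplicit false

namespace Cfsg.Agent.DS.Cl.Main

open Cfsg Cfsg.Agent.H936 Cfsg.Agent.DS

variable {A : Type} [Ring A] [StarRing A]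

/-! ### The reducible case -/

/-- the orthogonal complement -/
def perp (R : Ideal A) : Ideal A where
  carrier := {y | ∀ x ∈ R, x * star y = 0}
  add_mem' := fun ha hb x hx => by rw [star_add, mul_add, ha x hx, hb x hx, add_zero]
  zero_mem' := fun x _ => by rw [star_zero, mul_zero]
  smul_mem' := fun c y hy x hx => by rw [smul_eq_mul, star_mul, ← mul_assoc, hy x hx, zero_mul]

theorem inv_perp {M : Subgroup (RingAut A)} (hM : M ≤ SAut A) {R : Ideal A} (hR : Inv M R) : Inv M (perp R) := by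
  intro γ hγ y hy x hx
  have h1 := congrArg γ (hy _ (hR _ (inv_mem hγ) x hx))
  rwa [map_mul, ra_apply_inv, hM hγ, map_zero] at h1

theorem exists_symm_idem [Finite A] (h : SS A) {R : Ideal A} (hR : R ⊓ perp R = ⊥) :
    ∃ f ∈ R, star f = f ∧ f * f = f ∧ ∀ x ∈ R, x * f = x := by
  obtain ⟨e, he, -, h1⟩ := h.exists_idem R
  obtain ⟨k, hk⟩ := h.regular (e * star e)
  have h2 : e * star e * k * e = e := by
    have h3 : e * star e * k * e - e ∈ R ⊓ perp R := by
      refine ⟨R.sub_mem (R.mul_mem_left _ he) he, fun y hy => ?_⟩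
      have h4 : e * star (e * star e * k * e - e) = star ((e * star e * k * e - e) * star e) := by
        rw [star_mul (_ - _), star_star]
      rw [← h1 y hy, mul_assoc, h4, sub_mul, mul_assoc _ e, hk, sub_self, star_zero, mul_zero]
    rwa [hR, Ideal.mem_bot, sub_eq_zero] at h3
  have h3 := congrArg star h2
  simp only [star_mul, star_star] at h3
  have h4 : e * (star e * k * e) = e := by simpa only [mul_assoc] using h2
  refine ⟨star e * k * e, R.mul_mem_left _ he, ?_, by rw [mul_assoc _ e, h4], fun x hx => by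
    rw [← h1 x hx, mul_assoc, h4]⟩
  calc star (star e * k * e) = star e * (star k * (e * (star e * k * e))) := by
        rw [h4, star_mul, star_mul, star_star]
    _ = star e * (star k * (e * star e)) * k * e := by simp only [mul_assoc]
    _ = star e * k * e := by rw [h3]

/-- the singular elements of a totally isotropic left ideal -/
def sing (F : FR A) (T : Ideal A) (hT : ∀ x ∈ T, ∀ y ∈ T, x * star y = 0) : Ideal A where
  carrier := {x | x ∈ T ∧ x * F.l * star x ∈ F.L}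
  add_mem' := by
    rintro x y ⟨hx, hx'⟩ ⟨hy, hy'⟩
    refine ⟨T.add_mem hx hy, ?_⟩
    have h1 : y * F.l * star x = -star (x * F.l * star y) := by
      rw [star_mul, star_mul, star_star, eq_neg_iff_add_eq_zero, mul_assoc, ← mul_add, ← add_mul, F.l_add, one_mul,
        hT y hy x hx]
    have h2 := F.L.add_mem (F.L.add_mem hx' hy') (F.sub_star_mem (x * F.l * star y))
    rw [sub_eq_add_neg, ← h1] at h2
    convert h2 using 1
    rw [star_add]
    noncomm_ring
  zero_mem' := ⟨T.zero_mem, by simp⟩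
  smul_mem' := by
    rintro c x ⟨hx, hx'⟩
    refine ⟨T.mul_mem_left c hx, ?_⟩
    have h1 := F.conj_mem hx' c
    simpa only [smul_eq_mul, star_mul, mul_assoc] using h1

theorem red [Finite A] (hPar : BoxPar) (hNS : BoxNS) {F : FR A} {M : Subgroup (RingAut A)} (h : Ctx F M)
    (hD : ∀ D : Finset A, Fr D → ¬ Inv M D) (hI : ¬ Irr M) : PS 9 M := by
  classical
  have := h.ss.nontrivial
  obtain ⟨R, hR, hR2⟩ : ∃ R : Ideal A, Inv M R ∧ ¬ Two R := by
    by_contra hcon
    exact hI fun R hR => not_not.1 fun h1 => hcon ⟨R, hR, h1⟩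
  have hT : ∀ x ∈ R ⊓ perp R, ∀ y ∈ R ⊓ perp R, x * star y = 0 := fun x hx y hy => hy.2 x hx.1
  have hTi : Inv M (R ⊓ perp R : Ideal A) := fun γ hγ x hx => ⟨hR γ hγ x hx.1, inv_perp h.le_SAut hR γ hγ x hx.2⟩
  by_cases h0 : R ⊓ perp R = ⊥
  · obtain ⟨f, hf, hs, hi, h1⟩ := exists_symm_idem h.ss h0
    have hf0 : f ≠ 0 := fun e => hR2 fun x hx a => by
      rw [← h1 x hx, e, mul_zero, zero_mul]
      exact R.zero_mem
    have hf1 : 1 - f ≠ 0 := fun e => hR2 fun x _ a => by
      rw [← mul_one (x * a), sub_eq_zero.1 e]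
      exact R.mul_mem_left _ hf
    have h2 : f * (1 - f) = 0 := by rw [mul_sub, mul_one, hi, sub_self]
    have h3 : (1 - f) * f = 0 := by rw [sub_mul, one_mul, hi, sub_self]
    have hne : f ≠ 1 - f := fun e => hf0 (by rw [← hi]; nth_rewrite 2 [e]; exact h2)
    have hfix : ∀ γ ∈ M, γ f = f := by
      intro γ hγ
      have h4 := congrArg γ (h1 _ (hR _ (inv_mem hγ) f hf))
      rw [map_mul, ra_apply_inv] at h4
      have h5 := congrArg star h4
      rw [star_mul, ← h.le_SAut hγ, hs, h1 _ (hR γ hγ f hf)] at h5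
      exact h5
    refine absurd ?_ (hD {f, 1 - f} ⟨by rw [Finset.card_pair hne], ?_, ?_, ?_, ?_, by
      rw [Finset.sum_pair hne, add_sub_cancel]⟩)
    · intro γ hγ x hx
      simp only [Finset.coe_insert, Finset.coe_singleton, Set.mem_insert_iff, Set.mem_singleton_iff] at hx ⊢
      rcases hx with rfl | rfl
      · exact Or.inl (hfix γ hγ)
      · exact Or.inr (by rw [map_sub, map_one, hfix γ hγ])
    · simp [hf0, hf1]
    · simp only [Finset.mem_insert, Finset.mem_singleton, forall_eq_or_imp, forall_eq]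
      exact ⟨hi, by rw [mul_sub, mul_one, h3, sub_zero]⟩
    · simp only [hs, _root_.Finset.mem_insert, _root_.Finset.mem_singleton, _root_.forall_eq_or_imp, _root_.forall_eq, _root_.star_sub, _root_.star_one, _root_.and_self]
    · simp only [h2, h3, _root_.Finset.mem_insert, _root_.Finset.mem_singleton, _root_.ne_eq, _root_.forall_eq_or_imp, _root_.forall_eq, _root_.not_true_eq_false, _root_.IsEmpty.forall_iff, _root_.implies_true, _root_.and_self]
  by_cases h1 : sing F _ hT = ⊥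
  · refine hNS A F M h _ h0 hTi hT fun x hx hx' => ?_
    have h2 : x ∈ sing F _ hT := ⟨hx, hx'⟩
    rwa [h1] at h2
  refine hPar A F M h _ h1 (fun γ hγ x hx => ⟨hTi γ hγ x hx.1, ?_⟩) (fun x hx y hy => hT x hx.1 y hy.1)
    (fun x hx => hx.2) fun h2 => ?_
  · have h2 := F.L.sub_mem (F.map_mem (h.le_SAut hγ) hx.2) (F.conj_mem (h.le hγ).2 (γ x))
    convert h2 using 1
    rw [map_mul, map_mul, h.le_SAut hγ]
    noncomm_ring
  · rcases h.ss.two_cases (I := sing F _ hT) h2 with h3 | h3 | ⟨ε, hε, h3⟩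
    · exact h1 h3
    · have h4 : (1 : A) ∈ sing F _ hT := by rw [h3]; trivial
      simpa using hT 1 h4.1 1 h4.1
    · have h4 := ((h3 ε).2 hε.idem).1
      refine hR2 fun x hx a => ?_
      have h5 := h4.2 x hx
      rw [hε.star_eq, mul_sub, mul_one, sub_eq_zero] at h5
      rw [h5, mul_assoc, ← hε.comm, ← mul_assoc]
      exact R.mul_mem_left _ h4.1

/-! ### The subring spanned by the lifts of a group -/

/-- the subring generated by the centre and the lifts of `T` -/
def alg (F : FR A) (T : Subgroup (RingAut A)) : Subring A :=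
  Subring.closure ((Subring.center A : Set A) ∪ {a | ∃ u ∈ F.Iso, cj A u ∈ T ∧ (u : A) = a})

variable {F : FR A} {M N T T' : Subgroup (RingAut A)}

theorem cen_le_alg : Subring.center A ≤ alg F T := fun _ hx => Subring.subset_closure (Or.inl hx)

theorem mem_alg {u : Aˣ} (hu : u ∈ F.Iso) (hT : cj A u ∈ T) : (u : A) ∈ alg F T :=
  Subring.subset_closure (Or.inr ⟨u, hu, hT, rfl⟩)

theorem alg_le {B : Subring A} (h1 : Subring.center A ≤ B) (h2 : ∀ u ∈ F.Iso, cj A u ∈ T → (u : A) ∈ B) :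
    alg F T ≤ B := by
  refine Subring.closure_le.2 ?_
  rintro x (hx | ⟨u, hu, hT, rfl⟩)
  · exact h1 hx
  · exact h2 u hu hT

theorem star_alg : ∀ x ∈ alg F T, star x ∈ alg F T := by
  intro x hx
  induction hx using Subring.closure_induction with
  | mem x hx =>
    rcases hx with hx | ⟨u, hu, hT, rfl⟩
    · exact cen_le_alg (star_cen hx)
    · rw [← FR.Iso.inv_eq hu]
      exact mem_alg (inv_mem hu) (by rw [map_inv]; exact inv_mem hT)
  | zero => rw [star_zero]; exact Subring.zero_mem _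
  | one => rw [star_one]; exact Subring.one_mem _
  | add x y _ _ hx hy => rw [star_add]; exact Subring.add_mem _ hx hy
  | neg x _ hx => rw [star_neg]; exact Subring.neg_mem _ hx
  | mul x y _ _ hx hy => rw [star_mul]; exact Subring.mul_mem _ hy hx

theorem apply_mem_alg {γ : RingAut A} (hγ : γ ∈ F.Aut) (h : ∀ t ∈ T, γ * t * γ⁻¹ ∈ T') :
    ∀ x ∈ alg F T, γ x ∈ alg F T' :=
  alg_le (B := (alg F T').comap (γ : A →+* A)) (fun _ hx => cen_le_alg (map_cen γ hx)) fun u hu hT =>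
    mem_alg (u := um γ u) (FR.um_mem_Iso hγ hu) (conj_cj γ u ▸ h _ hT)

omit [StarRing A] in
theorem map_eq_of {γ : RingAut A} {B B' : Subring A} (h1 : ∀ x ∈ B, γ x ∈ B') (h2 : ∀ x ∈ B', γ⁻¹ x ∈ B) :
    B.map (γ : A →+* A) = B' := smul_eq_of_inv h1 h2

theorem map_alg {γ : RingAut A} (hγ : γ ∈ F.Aut) : (alg F T).map (γ : A →+* A) = alg F (cT γ T) :=
  map_eq_of (apply_mem_alg hγ fun _ ht => conj_mem_cT.2 ht)
    (apply_mem_alg (inv_mem hγ) fun _ ht => by rw [inv_inv]; exact mem_cT.1 ht)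

theorem comm_of_alg (hT : T ≤ F.PI) (h : ∀ x ∈ alg F T, ∀ y ∈ alg F T, x * y = y * x) : IsMulCommutative T := by
  refine ⟨⟨fun s t => Subtype.ext ?_⟩⟩
  obtain ⟨u, hu, e⟩ := hT s.2
  obtain ⟨v, hv, e'⟩ := hT t.2
  rw [Subgroup.coe_mul, Subgroup.coe_mul, ← e, ← e', ← map_mul, ← map_mul,
    show u * v = v * u from Units.ext (h _ (mem_alg hu (e ▸ s.2)) _ (mem_alg hv (e' ▸ t.2)))]

theorem alg_not_le (hT : T ≤ F.PI) (h0 : T ≠ ⊥) : ¬ alg F T ≤ Subring.center A := fun h => h0 (eq_bot_iff.2 fun t ht => by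
  obtain ⟨u, hu, rfl⟩ := hT ht
  exact cj_eq_one_iff.2 (h (mem_alg hu ht)))

/-- a linear automorphism centralizing a perfect group fixes its lifts -/
theorem fix_lifts (hT : T ≤ F.PI) (hp : T ≤ ⁅T, T⁆) {γ : RingAut A} (hl : γ ∈ Lin A) (hγ : ∀ t ∈ T, γ * t = t * γ) :
    ∀ u ∈ F.Iso, cj A u ∈ T → γ u = u := by
  have h1 : (F.Iso ⊓ T.comap (cj A)).map (cj A) = T := by
    refine le_antisymm ?_ fun t ht => ?_
    · rintro _ ⟨u, hu, rfl⟩
      exact hu.2
    · obtain ⟨u, hu, rfl⟩ := hT ht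
      exact ⟨u, ⟨hu, ht⟩, rfl⟩
  exact fun u hu hu' => fix_of_comm (W := F.Iso ⊓ T.comap (cj A)) (by rwa [h1]) hl (fun w hw => hγ _ hw.2) u ⟨hu, hu'⟩

theorem alg_comm (hT : T ≤ F.PI) (hp : T ≤ ⁅T, T⁆) (h : ∀ s ∈ T', ∀ t ∈ T, s * t = t * s) :
    ∀ x ∈ alg F T', ∀ y ∈ alg F T, x * y = y * x := by
  have h1 : alg F T' ≤ Subring.centralizer (alg F T : Set A) := by
    refine alg_le (fun x hx y _ => cen_comm hx y) fun u _ hu y hy => ?_
    have h2 : alg F T ≤ Subring.centralizer {(u : A)} := by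
      refine alg_le (fun x hx y _ => cen_comm hx y) fun w hw hw' y hy => ?_
      rw [Set.mem_singleton_iff.1 hy, ← cj_mul_eq, fix_lifts hT hp (cj_mem_Lin u) (h _ hu) w hw hw']
    exact (h2 hy _ rfl).symm
  exact fun x hx y hy => (h1 hx y hy).symm

/-! ### The irreducible case -/

/-- a proper invariant subring with the same centre -/
theorem ps_central [Finite A] (h : Ctx F M) (hI : Irr M) (hD : ∀ D : Finset A, Fr D → ¬ Inv M D) {B : Subring A}
    (h1 : Subring.center A ≤ B) (h2 : ¬ B ≤ Subring.center A) (hs : ∀ x ∈ B, star x ∈ B) (hB : Inv M B)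
    (hZ : cenOf B ≤ Subring.center A) (hne : B ≠ ⊤) : PS 9 M := by
  obtain ⟨n, E, hE, hEm, hEc⟩ := exists_mu_sub (ss_of_inv h.ss h.le_SAut hI hD hs hB)
  let C := Subring.centralizer (B : Set A)
  have hcoef : ∀ a i j, coef E a i j ∈ C := by
    intro a i j b hb
    rw [hE.expand b, Finset.sum_mul, Finset.mul_sum]
    refine Finset.sum_congr rfl fun p _ => ?_
    rw [Finset.sum_mul, Finset.mul_sum]
    refine Finset.sum_congr rfl fun q _ => ?_
    have h3 : coef E b p q ∈ Subring.center A :=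
      hZ ⟨coef_mem hEm hb p q, hEc _ (coef_mem hEm hb p q) (hE.coef_comm b p q)⟩
    rw [mul_assoc, ← hE.coef_comm, ← mul_assoc, ← mul_assoc, cen_comm h3]
  have hgen : ∀ X : Subring A, B ≤ X → C ≤ X → X = ⊤ := fun X h3 h4 => eq_top_iff.2 fun a _ => by
    rw [hE.expand a]
    exact X.sum_mem fun i _ => X.sum_mem fun j _ => X.mul_mem (h4 (hcoef a i j)) (h3 (hEm i j))
  have hC := inv_centralizer hB
  refine boxTen P5.boxP5 NCTV.boxNC A F M h hI {B, C} ⟨B, Or.inl rfl, C, Or.inr rfl, fun e => h2 fun x hx =>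
    hZ ⟨hx, e.le hx⟩⟩ ?_ ?_ ?_ ?_ (hgen _ (fun x hx => Subring.subset_closure (Set.mem_biUnion (Or.inl rfl) hx))
      fun x hx => Subring.subset_closure (Set.mem_biUnion (Or.inr rfl) hx)) ?_
  · rintro _ (rfl | rfl)
    · exact h1
    · exact fun x hx y _ => cen_comm hx y
  · rintro _ (rfl | rfl)
    · exact h2
    · exact fun h3 => hne (hgen _ le_rfl (h3.trans h1))
  · rintro _ (rfl | rfl)
    · exact hs
    · exact star_centralizer hs
  · rintro _ (rfl | rfl) _ (rfl | rfl) e x hx y hy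
    · exact absurd rfl e
    · exact hy x hx
    · exact (hx y hy).symm
    · exact absurd rfl e
  · rintro γ hγ _ (rfl | rfl)
    · exact Or.inl (map_eq_of (hB γ hγ) (hB _ (inv_mem hγ)))
    · exact Or.inr (map_eq_of (hC γ hγ) (hC _ (inv_mem hγ)))

/-- an absolutely irreducible non-abelian minimal normal subgroup -/
theorem ps_comp [Finite A] (big : Big) (h : Ctx F M) (hI : Irr M) (hNM : N ≤ M) (hN : N ≤ F.PI) (hn : Nrm M N)
    (h0 : N ≠ ⊥) (htop : alg F N = ⊤) {𝓣 : Set (Subgroup (RingAut A))} (hT : Comp M N 𝓣) : PS 9 M := by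
  have : Finite (RingAut A) := Finite.of_injective (fun γ : RingAut A => (γ : A → A)) DFunLike.coe_injective
  have hp : ∀ T ∈ 𝓣, T ≤ ⁅T, T⁆ := fun T hT' => perfect_of_simple (hT.simple T hT') (hT.noncomm T hT')
  by_cases h1 : N ∈ 𝓣
  · have h2 : PS 3 ↥(M ⊓ Lin A) := by
      refine ps_three big (le_inf hNM (hN.trans F.PI_le_Lin)) (fun γ hγ => hn γ hγ.1) (hT.simple N h1)
        (hT.noncomm N h1) fun γ hγ hc => eq_one_of_fix htop hγ.2 ?_
      rintro _ ⟨u, hu, hu', rfl⟩
      exact fix_lifts hN (hp N h1) hγ.2 hc u hu hu'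
    exact (ps_up (a := 1) (b := 3) (le_inf (dS_le _ _) ((dS_mono h.le 1).trans (FR.dS_one_le h.ss))) inf_le_left
      h2).mono (by norm_num)
  have hcomm : ∀ T ∈ 𝓣, ∀ T' ∈ 𝓣, T ≠ T' → ∀ x ∈ alg F T, ∀ y ∈ alg F T', x * y = y * x := fun T h2 T' h3 e =>
    alg_comm ((hT.le T' h3).trans hN) (hp T' h3) (hT.comm T h2 T' h3 e)
  refine boxTen P5.boxP5 NCTV.boxNC A F M h hI (alg F '' 𝓣) ?_ ?_ ?_ ?_ ?_ ?_ ?_
  · obtain ⟨T, h2⟩ : 𝓣.Nonempty := by
      by_contra hcon
      exact h0 (eq_bot_iff.2 (hT.gen ⊥ fun T h2 => absurd ⟨T, h2⟩ hcon))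
    obtain ⟨T', h3, e⟩ : ∃ T' ∈ 𝓣, T' ≠ T := by
      by_contra hcon
      push Not at hcon
      exact h1 (le_antisymm (hT.le T h2) (hT.gen T fun T' h3 => (hcon T' h3).le) ▸ h2)
    refine ⟨_, ⟨T', h3, rfl⟩, _, ⟨T, h2, rfl⟩, fun e' => hT.noncomm T h2 (comm_of_alg ((hT.le T h2).trans hN) ?_)⟩
    exact fun x hx => hcomm T' h3 T h2 e x (e' ▸ hx)
  · rintro _ ⟨T, -, rfl⟩
    exact cen_le_alg
  · rintro _ ⟨T, h2, rfl⟩
    have := hT.simple T h2
    exact alg_not_le ((hT.le T h2).trans hN) ((Subgroup.nontrivial_iff_ne_bot T).1 inferInstance)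
  · rintro _ ⟨T, -, rfl⟩
    exact star_alg
  · rintro _ ⟨T, h2, rfl⟩ _ ⟨T', h3, rfl⟩ e
    exact hcomm T h2 T' h3 fun e' => e (by rw [e'])
  · set X := Subring.closure (⋃ B ∈ alg F '' 𝓣, (B : Set A))
    have hX : ∀ T ∈ 𝓣, alg F T ≤ X := fun T h2 x hx => Subring.subset_closure (Set.mem_biUnion ⟨T, h2, rfl⟩ hx)
    obtain ⟨T, h2⟩ : 𝓣.Nonempty := by
      by_contra hcon
      exact h0 (eq_bot_iff.2 (hT.gen ⊥ fun T h2 => absurd ⟨T, h2⟩ hcon))
    have hc : Subring.center A ≤ X := cen_le_alg.trans (hX T h2)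
    let W : Subgroup Aˣ :=
      { carrier := {u | (u : A) ∈ X ∧ ((u⁻¹ : Aˣ) : A) ∈ X}
        mul_mem' := fun ha hb => ⟨X.mul_mem ha.1 hb.1, by rw [mul_inv_rev]; exact X.mul_mem hb.2 ha.2⟩
        one_mem' := ⟨X.one_mem, X.one_mem⟩
        inv_mem' := fun ha => ⟨ha.2, ha.1⟩ }
    have h3 : N ≤ W.map (cj A) := hT.gen _ fun T h3 t ht => by
      obtain ⟨u, hu, rfl⟩ := hN (hT.le T h3 ht)
      exact ⟨u, ⟨hX T h3 (mem_alg hu ht), hX T h3 (mem_alg (inv_mem hu) (by rw [map_inv]; exact inv_mem ht))⟩, rfl⟩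
    rw [eq_top_iff, ← htop]
    refine alg_le hc fun u _ hu => ?_
    obtain ⟨w, hw, e⟩ := h3 hu
    obtain ⟨z, hz, rfl⟩ := cj_eq_iff.1 e.symm
    exact X.mul_mem hw.1 (hc hz)
  · rintro γ hγ _ ⟨T, h2, rfl⟩
    exact ⟨_, hT.inv γ hγ T h2, (map_alg (h.le hγ)).symm⟩

theorem boxMain (hPar : BoxPar) (hNS : BoxNS) : BoxMain := by
  intro big A _ _ _ F M h
  have : Finite (RingAut A) := Finite.of_injective (fun γ : RingAut A => (γ : A → A)) DFunLike.coe_injective
  by_cases hD : ∃ D : Finset A, Fr D ∧ Inv M D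
  · obtain ⟨D, h1, h2⟩ := hD
    exact boxIdem P5.boxP5 NCTV.boxNC A F M h D h1 h2
  replace hD : ∀ D : Finset A, Fr D → ¬ Inv M D := fun D h1 h2 => hD ⟨D, h1, h2⟩
  by_cases hI : ¬ Irr M
  · exact red hPar hNS h hD hI
  replace hI := not_not.1 hI
  by_cases h0 : M ⊓ F.S = ⊥
  · refine (ps_of_bot (k := 3) (eq_bot_iff.2 ?_)).mono (by norm_num)
    rw [← h0]
    exact le_inf (dS_le _ _) ((dS_mono h.le 3).trans (FR.dS_three_le h.ss))
  obtain ⟨N, hN, hmin⟩ := exists_minN (M := M) ((nrm_self M).inf fun γ hγ s hs => FR.conj_mem_S (h.le hγ) hs) h0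
  have hNM : N ≤ M := hN.trans inf_le_left
  have hNS : N ≤ F.S := hN.trans inf_le_right
  have hNP : N ≤ F.PI := hNS.trans F.S_le_PI
  have hB : Inv M (alg F N) := fun γ hγ => apply_mem_alg (h.le hγ) (hmin.nrm γ hγ)
  by_cases hZ : ¬ cenOf (alg F N) ≤ Subring.center A
  · exact boxFld P5.boxP5 A F M h hI hD (cenOf (alg F N)) (fun x hx => ⟨cen_le_alg hx, fun y _ => cen_comm hx y⟩) hZ
      (fun x hx => ⟨star_alg x hx.1, star_centralizer star_alg x hx.2⟩) (fun x hx y hy => hy.2 x hx.1) (inv_cenOf hB)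
  by_cases htop : alg F N ≠ ⊤
  · exact ps_central h hI hD cen_le_alg (alg_not_le hNP hmin.ne) star_alg hB (not_not.1 hZ) htop
  replace htop := not_not.1 htop
  by_cases hc : ∀ x ∈ N, ∀ y ∈ N, x * y = y * x
  · refine Ext.boxExt A F M N h.ss h.le hNM hNP hmin.ne hc (fun γ hγ => ⟨hmin.nrm γ, fun h1 => ?_⟩) hmin.min htop
    refine h.max (F.Aut ⊓ nz N) (le_inf h.le hmin.nrm.le_nz) inf_le_left (fun h2 => ?_) ⟨hγ, mem_nz_of h1⟩
    refine hmin.ne (eq_bot_iff.2 fun x hx => inf_eq_bot_of_simple h.simple (nrm_of_le (h2.trans inf_le_right))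
      (fun h3 => h.not_le (h3.trans hNM)) x (hNS hx) hx)
  · obtain ⟨𝓣, hT⟩ := hmin.exists_comp hc
    exact ps_comp big h hI hNM hNP hmin.nrm hmin.ne htop hT

end Cfsg.Agent.DS.Cl.Main
end
end
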