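import Cfsg.Agent.DS.Cl.Main
import Cfsg.Agent.FastGrp
import Cfsg.Agent.Prune
set_option linter.all false
prune_inst 0x7f00000000000000000000000000000000000000000000000000000000000000000000000000000000000000000000000000000000000000000000000000000000000000000000000000000000000000003fffffffffffffffffffffffffffbeffbdffffffff
open scoped Cfsg.Agent.FastGrp

/-!
# Parabolic subgroups
-/

set_option autoImplicit false

namespace Cfsg.Agent.DS.Cl

open Cfsg Cfsg.Agent.H936 Cfsg.Agent.DS

variable {A : Type} [Ring A] [StarRing A]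

/-- polarization of the quadratic form -/
theorem FR.polar_mem (F : FR A) (a b : A) : a * F.l * star b + b * F.l * star a - b * star a ∈ F.L := by
  have h1 := F.sub_star_mem (a * F.l * star b)
  rw [star_mul, star_mul, star_star, F.star_l] at h1
  convert h1 using 1
  noncomm_ring

theorem FR.sum_sub_mem' (F : FR A) {ι : Type} (s : Finset ι) (f : ι → A) (hs : ∀ i, star (f i) = f i)
    (ho : ∀ i j, i ≠ j → f i * f j = 0) :
    (∑ i ∈ s, f i) * F.l * (∑ i ∈ s, f i) - ∑ i ∈ s, f i * F.l * f i ∈ F.L := by
  classical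
  induction s using Finset.induction_on with
  | empty => simp
  | insert e s he ih =>
    have h2 : star (∑ i ∈ s, f i) = ∑ i ∈ s, f i := by
      rw [star_sum]
      exact Finset.sum_congr rfl fun x _ => hs x
    have h3 := F.cross_mem (a := f e) (b := ∑ i ∈ s, f i) (by
      rw [hs e, Finset.sum_mul]
      exact Finset.sum_eq_zero fun x hx => ho x e fun h => he (h ▸ hx))
    rw [h2, hs e] at h3
    rw [Finset.sum_insert he, Finset.sum_insert he]
    convert F.L.add_mem ih h3 using 1
    noncomm_ring

/-- the Levi lemma for a family of symmetric idempotents (some may vanish) -/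
theorem ps_corner [Finite A] (hP5 : BoxP5) (hA : SS A) {F : FR A} {ι : Type} [Fintype ι] (f : ι → A)
    (hi : ∀ i, f i * f i = f i) (hs : ∀ i, star (f i) = f i) (ho : ∀ i j, i ≠ j → f i * f j = 0) (h1 : ∑ i, f i = 1)
    {K : Subgroup (RingAut A)} (hK : K ≤ F.Aut) (hfix : ∀ γ ∈ K, ∀ i, γ (f i) = f i)
    (hup : ∀ u ∈ F.Iso, (∀ i, (u : A) * f i = f i * u) → cj A u ∈ K) : PS 6 K := by
  have hL : Levi fun i => BD.corner hA F (f i) (hi i) (hs i) :=
    ⟨ho, h1, by
      have h2 := F.sum_sub_mem' Finset.univ f hs ho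
      rwa [h1, one_mul, mul_one] at h2, fun i => BD.corner_cent hA F _ (hi i) (hs i)⟩
  refine hL.ps hP5 hA hK (fun i γ hγ x hx => ?_) fun u hu i he => hup u hu fun j => ?_
  · exact ⟨by rw [← hfix γ hγ i, ← map_mul, hx.1], by rw [← hfix γ hγ i, ← map_mul, hx.2]⟩
  · obtain ⟨v, hv⟩ : ∃ v, v = (u : A) - (1 - f i) := ⟨_, rfl⟩
    have h2 : f i * v = v := hv ▸ he.1
    have h3 : v * f i = v := hv ▸ he.2
    rw [show (u : A) = v + (1 - f i) by rw [hv, sub_add_cancel]]
    by_cases hij : j = i
    · subst hij
      rw [add_mul, mul_add, h2, h3, sub_mul, mul_sub, one_mul, mul_one]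
    · have h4 : v * f j = 0 := by rw [← h3, mul_assoc, ho i j (Ne.symm hij), mul_zero]
      have h5 : f j * v = 0 := by rw [← h2, ← mul_assoc, ho j i hij, zero_mul]
      rw [add_mul, mul_add, h4, h5, sub_mul, mul_sub, one_mul, mul_one, ho i j (Ne.symm hij), ho j i hij]

/-- an idempotent defining a pair of complementary totally singular subspaces -/
structure Hyp (F : FR A) (e : A) : Prop where
  idem : e * e = e
  ms : e * star e = 0
  sm : star e * e = 0
  q1 : e * F.l * star e ∈ F.L
  q2 : star e * F.l * e ∈ F.L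

theorem exists_hyp [Finite A] (hA : SS A) (F : FR A) {R : Ideal A} (h1 : ∀ x ∈ R, ∀ y ∈ R, x * star y = 0)
    (h2 : ∀ x ∈ R, x * F.l * star x ∈ F.L) : ∃ e ∈ R, Hyp F e ∧ ∀ x ∈ R, x * e = x := by
  obtain ⟨f, hf, ff, hf2⟩ := hA.exists_idem R
  have he : f - star f * F.l * f ∈ R := R.sub_mem hf (R.mul_mem_left _ hf)
  have h3 : ∀ x ∈ R, x * (f - star f * F.l * f) = x := fun x hx => by
    rw [mul_sub, hf2 x hx, ← mul_assoc, ← mul_assoc, h1 x hx f hf]; simp
  have sff : star f * star f = star f := by rw [← star_mul, ff]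
  have fs := h1 f hf f hf
  refine ⟨_, he, ⟨h3 _ he, h1 _ he _ he, ?_, h2 _ he, ?_⟩, h3⟩
  · have e1 : star (f - star f * F.l * f) = star f - star f * star F.l * f := by
      simp only [star_sub, star_mul, star_star, mul_assoc]
    have e2 : star f * star F.l * f * (f - star f * F.l * f) = star f * star F.l * f :=
      h3 _ (R.mul_mem_left _ hf)
    rw [e1, sub_mul, e2, mul_sub, ← mul_assoc, ← mul_assoc, sff, F.star_l]
    noncomm_ring
  · have e1 : star (f - star f * F.l * f) = star f - star f * star F.l * f := by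
      simp only [star_sub, star_mul, star_star, mul_assoc]
    have c1 := F.polar_mem (star f) (star f * star F.l * f)
    have c2 := F.conj_mem (h2 f hf) (star f * star F.l)
    have c3 := F.sub_star_mem (star f * F.l * f)
    simp only [star_mul, star_star] at c1 c2 c3
    rw [mul_assoc _ f f, ff] at c1
    rw [e1]
    convert F.L.sub_mem (F.L.add_mem c2 c3) c1 using 1
    noncomm_ring

namespace Hyp

variable {F : FR A} {e : A} (h : Hyp F e)
include h

theorem sidem : star e * star e = star e := by rw [← star_mul, h.idem]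

theorem map {γ : RingAut A} (hγ : γ ∈ F.Aut) : Hyp F (γ e) := by
  have key : ∀ x : A, x * F.l * star x ∈ F.L → γ x * F.l * star (γ x) ∈ F.L := fun x hx => by
    have h1 := F.map_mem hγ.1 hx
    rw [map_mul, map_mul, hγ.1] at h1
    convert F.L.sub_mem h1 (F.conj_mem hγ.2 (γ x)) using 1
    noncomm_ring
  refine ⟨by rw [← map_mul, h.idem], by rw [← hγ.1, ← map_mul, h.ms, map_zero],
    by rw [← hγ.1, ← map_mul, h.sm, map_zero], key e h.q1, ?_⟩
  have h1 := key (star e) (by rw [star_star]; exact h.q2)
  rwa [hγ.1, star_star] at h1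

theorem e0_idem : (1 - e - star e) * (1 - e - star e) = 1 - e - star e := by
  simp only [mul_sub, sub_mul, h.idem, h.ms, h.sm, h.sidem, _root_.mul_one, _root_.one_mul, _root_.sub_self, _root_.sub_zero]

omit h in
theorem e0_star : star (1 - e - star e) = 1 - e - star e := by
  rw [star_sub, star_sub, star_one, star_star]; abel

theorem l_sub : F.l - (e + (1 - e - star e) * F.l * (1 - e - star e)) ∈ F.L := by
  have c1 := F.polar_mem (star e) e
  have c2 := F.cross_mem (a := e) (b := 1 - e - star e) (by simp only [sub_mul, h.ms, h.sidem, _root_.one_mul, _root_.sub_zero, _root_.sub_self])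
  have c3 := F.cross_mem (a := star e) (b := 1 - e - star e) (by simp only [sub_mul, h.sm, h.idem, _root_.star_star, _root_.one_mul, _root_.sub_self])
  rw [star_star, h.idem] at c1
  rw [e0_star] at c2 c3
  rw [star_star] at c3
  convert F.L.add_mem (F.L.add_mem (F.L.add_mem (F.L.add_mem c1 c2) c3) h.q1) h.q2 using 1
  noncomm_ring

/-- the unipotent radical is transitive on the complements -/
theorem trans [Finite A] {e' : A} (h' : Hyp F e') (h1 : e * e' = e) (h2 : e' * e = e') :
    ∃ u ∈ F.Iso, cj A u e = e' ∧ e * u = e ∧ ∀ x, x * star e = 0 → (x * u - x) * e = x * u - x := by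
  obtain ⟨a, ha⟩ : ∃ a, a = (1 - e - star e) * e' := ⟨_, rfl⟩
  obtain ⟨b, hb⟩ : ∃ b, b = star e * e' := ⟨_, rfl⟩
  have he' : e' = e + a + b := by rw [ha, hb, sub_mul, sub_mul, one_mul, h1]; abel
  have ae : a * e = a := by rw [ha, mul_assoc, h2]
  have be : b * e = b := by rw [hb, mul_assoc, h2]
  have ea : e * a = 0 := by rw [ha, ← mul_assoc]; simp only [mul_sub, h.idem, h.ms, _root_.mul_one, _root_.sub_self, _root_.MulZeroClass.zero_mul]
  have sa : star e * a = 0 := by rw [ha, ← mul_assoc]; simp only [mul_sub, h.sidem, h.sm, _root_.mul_one, _root_.sub_zero, _root_.sub_self, _root_.MulZeroClass.zero_mul]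
  have eb : e * b = 0 := by rw [hb, ← mul_assoc, h.ms, zero_mul]
  have sb : star e * b = b := by rw [hb, ← mul_assoc, h.sidem]
  have as' : a * star e = 0 := by rw [← ae, mul_assoc, h.ms, mul_zero]
  have bs : b * star e = 0 := by rw [← be, mul_assoc, h.ms, mul_zero]
  have sc : star e * star a = star a := by rw [← star_mul, ae]
  have sd : star e * star b = star b := by rw [← star_mul, be]
  have cs : star a * star e = 0 := by rw [← star_mul, ea, star_zero]
  have ce : star a * e = 0 := by rw [← star_star e, ← star_mul, sa, star_zero]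
  have ds : star b * star e = 0 := by rw [← star_mul, eb, star_zero]
  have de : star b * e = star b := by rw [← star_star e, ← star_mul, sb]
  have ec : e * star a = 0 := by rw [← sc, ← mul_assoc, h.ms, zero_mul]
  have ed : e * star b = 0 := by rw [← sd, ← mul_assoc, h.ms, zero_mul]
  have aa : a * a = 0 := by nth_rewrite 1 [← ae]; rw [mul_assoc, ea, mul_zero]
  have ac : a * star a = 0 := by nth_rewrite 1 [← ae]; rw [mul_assoc, ec, mul_zero]
  have ad : a * star b = 0 := by rw [← ae, mul_assoc, ed, mul_zero]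
  have ba : b * a = 0 := by rw [← be, mul_assoc, ea, mul_zero]
  have bc : b * star a = 0 := by rw [← be, mul_assoc, ec, mul_zero]
  have bd : b * star b = 0 := by nth_rewrite 1 [← be]; rw [mul_assoc, ed, mul_zero]
  have cc : star a * star a = 0 := by rw [← star_mul, aa, star_zero]
  have cd : star a * star b = 0 := by rw [← star_mul, ba, star_zero]
  have cb : star a * b = 0 := by rw [← sb, ← mul_assoc, cs, zero_mul]
  have da : star b * a = 0 := by rw [← de, mul_assoc, ea, mul_zero]
  have db : star b * b = 0 := by nth_rewrite 1 [← de]; rw [mul_assoc, eb, mul_zero]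
  have rel : b + star b + star a * a = 0 := by
    have h3 := h'.sm
    rw [he'] at h3
    simp only [star_add, add_mul, mul_add, h.sm, sa, sb, ce, cb, de, da, db, zero_add, add_zero] at h3
    rw [← h3]; abel
  have hq : star a * F.l * a + b ∈ F.L := by
    have c0 := h'.q2
    have c1 := F.polar_mem (star e) (star a)
    have c2 := F.polar_mem (star e) (star b)
    have c3 := F.polar_mem (star a) (star b)
    have c4 := F.conj_mem h.q1 (star b)
    have c5 := F.sub_star_mem b
    simp only [star_star, ce, de, da, sub_zero] at c1 c2 c3 c4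
    rw [← mul_assoc, ← mul_assoc, de, mul_assoc _ (star e), sb] at c4
    rw [he', star_add, star_add] at c0
    convert F.L.add_mem (F.L.sub_mem (F.L.sub_mem (F.L.sub_mem (F.L.sub_mem (F.L.sub_mem c0 c1) c2) c3) c4) h.q2) c5
      using 1
    noncomm_ring
  obtain ⟨u, hu⟩ : ∃ u, u = 1 + a - star a + b := ⟨_, rfl⟩
  have su : star u = 1 + star a - a + star b := by rw [hu]; simp only [star_add, star_sub, star_one, star_star]
  have uu : u * star u = 1 := by
    rw [su, hu]
    simp only [add_mul, mul_add, sub_mul, mul_sub, one_mul, mul_one, aa, ac, ad, ba, bc, bd, cc, cd]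
    conv_rhs => rw [← add_zero 1, ← rel]
    abel
  have ue : u * e = e' := by rw [hu, he']; simp only [add_mul, sub_mul, one_mul, ae, be, ce, sub_zero]
  have eu : e * u = e := by rw [hu]; simp only [mul_add, mul_sub, mul_one, ea, eb, ec, sub_zero, add_zero]
  have e'u : e' * u = e' := by rw [← h2, mul_assoc, eu]
  have esu : e * star u = e := by rw [su]; simp only [mul_add, mul_sub, mul_one, ea, ed, ec, sub_zero, add_zero]
  have hI : mkU u uu ∈ F.Iso := by
    refine ⟨uu, ?_⟩
    rw [mkU_val]
    obtain ⟨r, hr⟩ : ∃ r, r = 1 - e - star e := ⟨_, rfl⟩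
    have hl := h.l_sub
    rw [← hr] at hl
    have sr : star r = r := by rw [hr, e0_star]
    have ur : u * r = r - star a := by
      rw [hu, hr]
      simp only [add_mul, mul_sub, sub_mul, one_mul, mul_one, ae, be, ce, as', bs, cs]
      abel
    have ru : r * star u = r - a := by rw [← sr, ← star_mul, ur, star_sub, star_star]
    have ra : r * a = a := by rw [hr]; simp only [sub_mul, one_mul, ea, sa, sub_zero]
    have d1 := F.conj_mem hl u
    have e1 : u * e * star u = e + a + b := by rw [mul_assoc, esu, ue, he']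
    have e2 : u * (r * F.l * r) * star u = (r - star a) * F.l * (r - a) := by
      rw [← mul_assoc, ← mul_assoc, ur, mul_assoc, ru]
    rw [mul_sub, mul_add, sub_mul, add_mul, e1, e2] at d1
    have d2 := F.polar_mem (star a) r
    rw [star_star, sr, ra] at d2
    convert F.L.sub_mem (F.L.sub_mem (F.L.add_mem d1 hq) d2) hl using 1
    noncomm_ring
  refine ⟨_, hI, cj_eq_of_mul (ue.trans e'u.symm), eu, fun x hx => ?_⟩
  have xc : x * star a = 0 := by rw [← sc, ← mul_assoc, hx, zero_mul]
  have xb : x * b = 0 := by rw [← sb, ← mul_assoc, hx, zero_mul]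
  have e3 : x * u - x = x * a := by rw [hu]; simp only [mul_add, mul_sub, mul_one, xc, xb]; abel
  rw [mkU_val, e3, mul_assoc, ae]

/-- the general linear block -/
def bd [Finite A] (hA : SS A) (hε : ¬ ∃ ε : A, Eps ε) : BD F where
  car :=
    { carrier := {x | (e + star e) * x = x ∧ x * (e + star e) = x ∧ e * x = x * e}
      add_mem' := by
        rintro a b ⟨a1, a2, a3⟩ ⟨b1, b2, b3⟩
        exact ⟨by rw [mul_add, a1, b1], by rw [add_mul, a2, b2], by rw [mul_add, add_mul, a3, b3]⟩
      zero_mem' := ⟨by simp only [_root_.MulZeroClass.mul_zero], by simp only [_root_.MulZeroClass.zero_mul], by simp⟩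
      mul_mem' := by
        rintro a b ⟨a1, -, a3⟩ ⟨-, b2, b3⟩
        exact ⟨by rw [← mul_assoc, a1], by rw [mul_assoc, b2], by rw [← mul_assoc, a3, mul_assoc, b3, mul_assoc]⟩
      neg_mem' := by
        rintro a ⟨a1, a2, a3⟩
        exact ⟨by rw [mul_neg, a1], by rw [neg_mul, a2], by rw [mul_neg, neg_mul, a3]⟩ }
  e := e + star e
  e_mem := ⟨by simp only [mul_add, add_mul, h.idem, h.ms, h.sm, h.sidem, _root_.add_zero, _root_.zero_add], by
    simp only [mul_add, add_mul, h.idem, h.ms, h.sm, h.sidem, _root_.add_zero, _root_.zero_add], by simp only [mul_add, add_mul, h.idem, h.ms, h.sm, _root_.add_zero]⟩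
  e_mul _ hx := hx.1
  mul_e _ hx := hx.2.1
  star_mem := by
    rintro x ⟨a1, a2, a3⟩
    have s1 : star (e + star e) = e + star e := by rw [star_add, star_star, add_comm]
    refine ⟨by rw [← s1, ← star_mul, a2], by rw [← s1, ← star_mul, a1], ?_⟩
    have a4 : star e * x = x * star e := by
      have a5 := a1.trans a2.symm
      rwa [add_mul, mul_add, a3, add_right_inj] at a5
    rw [← star_star e, ← star_mul, ← star_mul, a4]
  l := e
  l_mem := ⟨by simp only [add_mul, h.idem, h.sm, _root_.add_zero], by simp only [mul_add, h.idem, h.ms, _root_.add_zero], rfl⟩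
  l_add := rfl
  ret := Or.inr fun a ⟨a1, a2, a3⟩ => ⟨e * (a - star a), ⟨by
      rw [← mul_assoc]; simp only [add_mul, h.idem, h.sm, _root_.add_zero], by rw [mul_assoc, a2], by
      rw [mul_assoc, ← a3]⟩, by
    rw [star_mul, star_sub, star_star, a3]
    nth_rewrite 1 [← a2]
    noncomm_ring⟩
  ss := by
    by_cases h0 : e + star e = 0
    · exact Or.inl h0
    refine Or.inr (Blk.ss_of _ h0 fun I h1 h2 h3 => ?_)
    have hm : ∀ a, (e + star e) * (e * a * e) = e * a * e ∧ e * a * e * (e + star e) = e * a * e ∧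
        e * (e * a * e) = e * a * e * e := fun a =>
      ⟨by simp only [← mul_assoc, add_mul, h.idem, h.sm, _root_.add_zero], by simp only [mul_assoc, mul_add, h.idem, h.ms, _root_.MulZeroClass.mul_zero, _root_.add_zero], by
        rw [← mul_assoc, ← mul_assoc, h.idem, mul_assoc _ e e, h.idem]⟩
    have hm' : ∀ a, (e + star e) * star (e * a * e) = star (e * a * e) ∧
        star (e * a * e) * (e + star e) = star (e * a * e) ∧ e * star (e * a * e) = star (e * a * e) * e := fun a =>
      ⟨by simp only [← mul_assoc, add_mul, h.sidem, h.ms, _root_.StarMul.star_mul, _root_.zero_add], by simp only [mul_assoc, mul_add, h.sidem, h.sm, _root_.StarMul.star_mul, _root_.MulZeroClass.mul_zero, _root_.zero_add], by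
        simp only [← mul_assoc, h.ms, _root_.StarMul.star_mul, _root_.MulZeroClass.zero_mul]; simp only [mul_assoc, h.sm, _root_.MulZeroClass.mul_zero]⟩
    let J : Ideal A :=
      { carrier := {z | ∀ a b, e * a * z * b * e ∈ I}
        add_mem' := fun {x y} hx hy a b => by
          rw [mul_add, add_mul, add_mul]; exact I.add_mem (hx a b) (hy a b)
        zero_mem' := fun a b => by simp
        smul_mem' := fun c x hx a b => by
          have h4 := hx (a * c) b
          simpa only [smul_eq_mul, mul_assoc] using h4 }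
    rcases hA.two_of_not_eps hε (I := J) (fun x hx c a b => by
        have h4 := hx a (c * b)
        simpa only [mul_assoc] using h4) with h4 | h4
    · left
      have h5 : ∀ x ∈ I, e * x = 0 := by
        intro x hx
        have h6 : e * x ∈ J := fun a b => by
          have h7 := h3 _ (h2 _ (h3 _ (h2 _ hx _ (hm a))) _ (hm' b))
          rw [← star_mul, star_star] at h7
          have e1 : e * a * (e * x) * b * e = e * a * e * x * (e * b * e) := by
            rw [mul_assoc _ x (e * b * e), ← mul_assoc x, ← mul_assoc x, ← (h1 x hx).2.2]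
            simp only [mul_assoc]
            rw [← mul_assoc e e, h.idem]
          rwa [e1]
        rw [h4] at h6
        exact h6
      rw [eq_bot_iff]
      intro x hx
      have h6 := congrArg star (h5 _ (h3 x hx))
      rw [star_mul, star_star, star_zero] at h6
      have h7 := (h1 x hx).2.1
      rw [mul_add, h6, ← (h1 x hx).2.2, h5 x hx, add_zero] at h7
      exact h7.symm
    · right
      have h5 : (1 : A) ∈ J := by rw [h4]; trivial
      have h6 := h5 1 1
      simp only [mul_one, h.idem] at h6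
      exact I.add_mem h6 (h3 _ h6)

/-- the Levi complement -/
theorem ps_levi [Finite A] (hP5 : BoxP5) (hA : SS A) : PS 7 ↥(F.Aut ⊓ Fix {e}) := by
  by_cases hε : ∃ ε : A, Eps ε
  · obtain ⟨ε, hε⟩ := hε
    refine ps_up (a := 1) (b := 6) (Q := F.Aut ⊓ Fix {e} ⊓ Lin A)
      (le_inf (dS_le _ _) ((dS_mono inf_le_left 1).trans (FR.dS_one_le hA))) inf_le_left ?_
    have c1 := hε.comm
    have c2 := hε.st.comm
    have key : ∀ x y z w : A, (ε * x + star ε * y) * (ε * z + star ε * w) = ε * (x * z) + star ε * (y * w) := by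
      intro x y z w
      have e1 : ∀ p q a b : A, (∀ c, c * q = q * c) → p * a * (q * b) = p * q * (a * b) := fun p q a b hq => by
        rw [mul_assoc, ← mul_assoc a, hq a, mul_assoc, mul_assoc]
      rw [add_mul, mul_add, mul_add, e1 _ _ _ _ c1, e1 _ _ _ _ c2, e1 _ _ _ _ c1, e1 _ _ _ _ c2, hε.idem, hε.ms, hε.sm,
        hε.st.idem]
      simp only [_root_.MulZeroClass.zero_mul, _root_.add_zero, _root_.zero_add]
    have ks : ∀ x y : A, star (ε * x + star ε * y) = ε * star y + star ε * star x := fun x y => by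
      rw [star_add, star_mul, star_mul, star_star, c1, c2, add_comm]
    have e0 : 1 - e - star e = ε * (1 - e - star e) + star ε * (1 - e - star e) := hε.split _
    refine ps_corner hP5 hA ![ε * e + star ε * star e, ε * star e + star ε * e, 1 - e - star e] ?_ ?_ ?_ ?_
      (inf_le_left.trans inf_le_left) ?_ ?_
    · intro i
      fin_cases i
      · exact (key _ _ _ _).trans (by rw [h.idem, h.sidem]; rfl)
      · exact (key _ _ _ _).trans (by rw [h.idem, h.sidem]; rfl)
      · exact h.e0_idem
    · intro i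
      fin_cases i
      · exact (ks _ _).trans (by rw [star_star]; rfl)
      · exact (ks _ _).trans (by rw [star_star]; rfl)
      · exact e0_star
    · intro i j hij
      fin_cases i <;> fin_cases j <;> first | exact absurd rfl hij | skip
      · exact (key _ _ _ _).trans (by simp only [h.ms, h.sm, _root_.MulZeroClass.mul_zero, _root_.add_zero])
      · change _ * (1 - e - star e) = 0
        rw [e0]; exact (key _ _ _ _).trans (by simp only [mul_sub, h.ms, h.sm, h.idem, h.sidem, _root_.mul_one, _root_.sub_self, _root_.MulZeroClass.mul_zero, _root_.sub_zero, _root_.add_zero])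
      · exact (key _ _ _ _).trans (by simp only [h.ms, h.sm, _root_.MulZeroClass.mul_zero, _root_.add_zero])
      · change _ * (1 - e - star e) = 0
        rw [e0]; exact (key _ _ _ _).trans (by simp only [mul_sub, h.ms, h.sm, h.idem, h.sidem, _root_.mul_one, _root_.sub_zero, _root_.sub_self, _root_.MulZeroClass.mul_zero, _root_.add_zero])
      · change (1 - e - star e) * _ = 0
        rw [e0]; exact (key _ _ _ _).trans (by simp only [sub_mul, h.ms, h.sm, h.idem, h.sidem, _root_.one_mul, _root_.sub_self, _root_.MulZeroClass.mul_zero, _root_.sub_zero, _root_.add_zero])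
      · change (1 - e - star e) * _ = 0
        rw [e0]; exact (key _ _ _ _).trans (by simp only [sub_mul, h.ms, h.sm, h.idem, h.sidem, _root_.one_mul, _root_.sub_zero, _root_.sub_self, _root_.MulZeroClass.mul_zero, _root_.add_zero])
    · rw [Fin.sum_univ_three]
      change ε * e + star ε * star e + (ε * star e + star ε * e) + (1 - e - star e) = 1
      rw [hε.star_eq]
      noncomm_ring
    · intro γ hγ i
      have a1 : γ e = e := hγ.1.2 e rfl
      have a2 : γ (star e) = star e := by rw [hγ.1.1.1, a1]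
      have a3 : γ ε = ε := hγ.2 ε hε.cen
      have a4 : γ (star ε) = star ε := hγ.2 _ hε.st.cen
      (revert i; simp only [a1, a2, a3, a4, _root_.Fin.forall_fin_succ, _root_.Nat.succ_eq_add_one, Nat.reduceAdd, Fin.isValue, _root_.Matrix.cons_val_zero, _root_.map_add, _root_.map_mul, _root_.Matrix.cons_val_succ, _root_.Matrix.cons_val_fin_one, _root_.map_sub, _root_.map_one, _root_.implies_true, _root_.and_self])
    · intro u hu hc
      refine ⟨⟨FR.cj_mem_Aut hu, fun x hx => ?_⟩, cj_mem_Lin u⟩
      rw [Set.mem_singleton_iff.1 hx]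
      have a1 : (u : A) * (ε * e + star ε * star e) = (ε * e + star ε * star e) * u := hc 0
      have a2 : (u : A) * (ε * star e + star ε * e) = (ε * star e + star ε * e) * u := hc 1
      have a3 : e = ε * (ε * e + star ε * star e) + star ε * (ε * star e + star ε * e) := by
        simp only [mul_add, ← mul_assoc, hε.idem, hε.ms, hε.sm, hε.st.idem, zero_mul, zero_add, add_zero]
        exact hε.split e
      refine cj_eq_of_mul ?_
      rw [a3, mul_add, add_mul, ← mul_assoc, ← mul_assoc, c1, c2, mul_assoc, mul_assoc, a1, a2, mul_assoc, mul_assoc]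
  · let B : Bool → BD F := fun b => cond b (h.bd hA hε) (BD.corner hA F _ h.e0_idem e0_star)
    have hL : Levi B := by
      refine ⟨?_, ?_, ?_, ?_⟩
      · rintro (_ | _) (_ | _) hij
        · exact absurd rfl hij
        · change (1 - e - star e) * (e + star e) = 0
          simp only [mul_add, sub_mul, h.ms, h.sm, h.idem, h.sidem, _root_.one_mul, _root_.sub_self, _root_.sub_zero, _root_.add_zero]
        · change (e + star e) * (1 - e - star e) = 0
          simp only [add_mul, mul_sub, h.ms, h.sm, h.idem, h.sidem, _root_.mul_one, _root_.add_zero, _root_.add_sub_cancel_left, _root_.zero_add, _root_.sub_self]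
        · exact absurd rfl hij
      · rw [Fintype.sum_bool]
        change e + star e + (1 - e - star e) = 1
        abel
      · rw [Fintype.sum_bool]
        exact h.l_sub
      · rintro (_ | _) g hg
        · exact BD.corner_cent hA F _ h.e0_idem e0_star g hg
        · have a1 : g * e = e * g := hg e (h.bd hA hε).l_mem
          have a2 : g * (e + star e) = (e + star e) * g := hg _ (h.bd hA hε).e_mem
          have a3 : (e + star e) * (e + star e) = e + star e := (h.bd hA hε).idem
          change (e + star e) * (g * (e + star e)) = g * (e + star e) ∧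
            g * (e + star e) * (e + star e) = g * (e + star e) ∧ e * (g * (e + star e)) = g * (e + star e) * e
          refine ⟨by rw [a2, ← mul_assoc, a3], by rw [mul_assoc, a3], ?_⟩
          rw [← mul_assoc, ← a1, mul_assoc, mul_assoc]
          simp only [mul_add, add_mul, h.idem, h.ms, h.sm, _root_.add_zero]
    refine (hL.ps hP5 hA inf_le_left ?_ ?_).mono (by norm_num)
    · rintro i γ hγ x hx
      have a1 : γ e = e := hγ.2 e rfl
      have a2 : γ (star e) = star e := by rw [hγ.1.1, a1]
      rcases i with _ | _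
      · have a3 : γ (1 - e - star e) = 1 - e - star e := by rw [map_sub, map_sub, map_one, a1, a2]
        exact ⟨by rw [← a3, ← map_mul, hx.1], by rw [← a3, ← map_mul, hx.2]⟩
      · have a3 : γ (e + star e) = e + star e := by rw [map_add, a1, a2]
        exact ⟨by rw [← a3, ← map_mul, hx.1], by rw [← a3, ← map_mul, hx.2.1], by
          rw [← a1, ← map_mul, ← map_mul, hx.2.2]⟩
    · intro u hu i hi
      refine ⟨FR.cj_mem_Aut hu, fun x hx => ?_⟩
      rw [Set.mem_singleton_iff.1 hx]
      refine cj_eq_of_mul ?_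
      rcases i with _ | _
      · obtain ⟨v, hv⟩ : ∃ v, v = (u : A) - (1 - (1 - e - star e)) := ⟨_, rfl⟩
        have a1 : (1 - e - star e) * v = v := hv ▸ hi.1
        have a2 : v * (1 - e - star e) = v := hv ▸ hi.2
        have a3 : e * v = 0 := by rw [← a1, ← mul_assoc]; simp only [mul_sub, h.idem, h.ms, _root_.mul_one, _root_.sub_self, _root_.MulZeroClass.zero_mul]
        have a4 : v * e = 0 := by rw [← a2, mul_assoc]; simp only [sub_mul, h.idem, h.sm, _root_.one_mul, _root_.sub_self, _root_.MulZeroClass.mul_zero]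
        rw [show (u : A) = v + (e + star e) by rw [hv]; abel]
        simp only [mul_add, add_mul, a3, a4, h.ms, h.sm, _root_.add_zero, _root_.zero_add]
      · have a1 : e * ((u : A) - (1 - (e + star e))) = ((u : A) - (1 - (e + star e))) * e := hi.2.2
        simpa only [mul_sub, sub_mul, mul_add, add_mul, h.idem, h.ms, h.sm, eq_comm, _root_.mul_one, _root_.add_zero, _root_.sub_self, _root_.sub_zero, _root_.one_mul] using a1

end Hyp

/-- the unipotent radical of the stabilizer of a totally isotropic left ideal -/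
def UR (F : FR A) (R : Ideal A) : Subgroup Aˣ where
  carrier := {u | u ∈ F.Iso ∧ (∀ r ∈ R, r * u = r) ∧ ∀ x, (∀ r ∈ R, x * star r = 0) → x * u - x ∈ R}
  mul_mem' := by
    rintro u v ⟨u1, u2, u3⟩ ⟨v1, v2, v3⟩
    refine ⟨mul_mem u1 v1, fun r hr => by rw [Units.val_mul, ← mul_assoc, u2 r hr, v2 r hr], fun x hx => ?_⟩
    have h1 := v2 _ (u3 x hx)
    convert R.add_mem (u3 x hx) (v3 x hx) using 1
    rw [← h1, Units.val_mul]
    noncomm_ring
  one_mem' := ⟨one_mem _, fun r _ => by simp, fun x _ => by simp⟩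
  inv_mem' := by
    rintro u ⟨u1, u2, u3⟩
    have h1 : ∀ r ∈ R, r * ((u⁻¹ : Aˣ) : A) = r := fun r hr => by
      nth_rewrite 1 [← u2 r hr]
      rw [mul_assoc, Units.mul_inv, mul_one]
    refine ⟨inv_mem u1, h1, fun x hx => ?_⟩
    have h2 := h1 _ (u3 x hx)
    rw [sub_mul, mul_assoc, Units.mul_inv, mul_one] at h2
    rw [← neg_sub, h2]
    exact R.neg_mem (u3 x hx)

theorem UR_dS (F : FR A) (R : Ideal A) : dS (UR F R) 2 = ⊥ := by
  let U2 : Subgroup Aˣ :=
    { carrier := {u | ∀ x, (∀ r ∈ R, x * star r = 0) → x * u = x}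
      mul_mem' := fun {u v} hu hv x hx => by rw [Units.val_mul, ← mul_assoc, hu x hx, hv x hx]
      one_mem' := fun x _ => by simp
      inv_mem' := fun {u} hu x hx => by
        nth_rewrite 1 [← hu x hx]
        rw [mul_assoc, Units.mul_inv, mul_one] }
  have h1 : dS (UR F R) 1 ≤ U2 := by
    rw [dS_one, Subgroup.commutator_le]
    rintro u ⟨-, u2, u3⟩ v ⟨-, v2, v3⟩ x hx
    have h2 : x * u * v = x * v * u := by
      have a1 := v2 _ (u3 x hx)
      have a2 := u2 _ (v3 x hx)
      rw [sub_mul, sub_eq_iff_eq_add] at a1 a2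
      rw [a1, a2]
      abel
    rw [commutatorElement_def]
    simp only [Units.val_mul, ← mul_assoc]
    rw [h2]
    simp [mul_assoc]
  rw [show 2 = 1 + 1 from rfl, ← dS_add]
  refine dS_one_eq_bot fun u hu v hv => Units.ext ?_
  have h2 : ∀ w ∈ UR F R, ∀ r ∈ R, ((w : A) - 1) * star r = 0 := fun w hw r hr => by
    have h3 := congrArg star ((inv_mem hw).2.1 r hr)
    rw [FR.Iso.inv_eq hw.1, star_mul, star_star] at h3
    rw [sub_mul, h3, one_mul, sub_self]
  have a1 := h1 hv _ (h2 u (dS_le _ _ hu))
  have a2 := h1 hu _ (h2 v (dS_le _ _ hv))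
  rw [sub_mul, one_mul, sub_eq_iff_eq_add] at a1 a2
  rw [Units.val_mul, Units.val_mul, a1, a2]
  abel

theorem um_mem_UR {F : FR A} {R : Ideal A} {γ : RingAut A} (hγ : γ ∈ F.Aut) (h1 : ∀ x, x ∈ R ↔ γ x ∈ R) {u : Aˣ}
    (hu : u ∈ UR F R) : um γ u ∈ UR F R := by
  have h2 : ∀ x ∈ R, γ⁻¹ x ∈ R := fun x hx => (h1 _).2 (by rwa [ra_apply_inv])
  refine ⟨FR.um_mem_Iso hγ hu.1, fun r hr => ?_, fun x hx => ?_⟩
  · rw [um_val, ← ra_apply_inv γ r, ← map_mul, hu.2.1 _ (h2 r hr)]
  · rw [um_val, ← ra_apply_inv γ x, ← map_mul, ← map_sub]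
    refine (h1 _).1 (hu.2.2 _ fun r hr => γ.injective ?_)
    rw [map_mul, ra_apply_inv, hγ.1, hx _ ((h1 r).1 hr), map_zero]

theorem conj_mem_UR {F : FR A} {R : Ideal A} {γ : RingAut A} (hγ : γ ∈ F.Aut)
    (h1 : γ ∈ setStab (RingAut A) (R : Set A)) {n : RingAut A} (hn : n ∈ (UR F R).map (cj A)) :
    γ * n * γ⁻¹ ∈ (UR F R).map (cj A) := by
  obtain ⟨u, hu, rfl⟩ := hn
  exact ⟨_, um_mem_UR hγ h1 hu, (conj_cj γ u).symm⟩

theorem cj_UR_stab {F : FR A} {R : Ideal A} : (UR F R).map (cj A) ≤ setStab (RingAut A) (R : Set A) := by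
  refine le_setStab ?_
  rintro _ ⟨u, hu, rfl⟩ x hx
  change cj A u x ∈ R
  rw [cj_apply, mul_assoc, (inv_mem hu).2.1 x hx]
  exact R.mul_mem_left _ hx

/-- the stabilizer of `R` is the product of the unipotent radical and the stabilizer of `e` -/
theorem Hyp.exists_UR [Finite A] {F : FR A} {R : Ideal A} {e : A} (h : Hyp F e) (heR : e ∈ R) (hR : ∀ x ∈ R, x * e = x)
    {γ : RingAut A} (hγ : γ ∈ F.Aut) (h1 : γ ∈ setStab (RingAut A) (R : Set A)) :
    ∃ u ∈ UR F R, cj A u e = γ e := by
  have h2 : e * γ e = e := by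
    have h3 := congrArg γ (hR _ (((inv_mem h1) e).1 heR))
    rwa [map_mul, show γ (γ⁻¹ • e) = e from ra_apply_inv γ e] at h3
  obtain ⟨u, hu, u1, u2, u3⟩ := h.trans (h.map hγ) h2 (hR _ ((h1 e).1 heR))
  refine ⟨u, ⟨hu, fun r hr => by rw [← hR r hr, mul_assoc, u2], fun x hx => ?_⟩, u1⟩
  rw [← u3 x (hx e heR)]
  exact R.mul_mem_left _ heR

omit [StarRing A] in
theorem fix_le_setStab {R : Ideal A} {e : A} (heR : e ∈ R) (hR : ∀ x ∈ R, x * e = x) :
    Fix {e} ≤ setStab (RingAut A) (R : Set A) := le_setStab fun γ hγ x hx => by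
  change γ x ∈ R
  rw [← hR x hx, map_mul, hγ e rfl]
  exact R.mul_mem_left _ heR

theorem boxPar (hP5 : BoxP5) : BoxPar := by
  intro A _ _ _ F M h R _ hinv h1 h2 h3
  obtain ⟨e, heR, he, hR⟩ := exists_hyp h.ss F h1 h2
  rw [h.eq_of_le (P := F.Aut ⊓ setStab (RingAut A) (R : Set A)) (le_inf h.le (le_setStab hinv)) inf_le_left
    fun hS => h3 (FR.two_of_S h.span fun s hs x hx => ((hS hs).2 x).1 hx)]
  refine ps_sup (a := 2) (b := 7) (X := F.Aut ⊓ Fix {e}) (N := (UR F R).map (cj A))
    (fun m hm n hn => conj_mem_UR hm.1 hm.2 hn) (fun m hm n hn => conj_mem_UR hm.1 (fix_le_setStab heR hR hm.2) hn)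
    (fun m hm => ?_) (fun x hx => ⟨x, ⟨hx.1, fix_le_setStab heR hR hx.2⟩, by rw [mul_inv_cancel]; exact one_mem _⟩)
    (by rw [← dS_map, UR_dS, Subgroup.map_bot]) (he.ps_levi hP5 h.ss)
  obtain ⟨u, hu, hue⟩ := he.exists_UR heR hR hm.1 hm.2
  refine ⟨(cj A u)⁻¹ * m, ⟨F.Aut.mul_mem (F.Aut.inv_mem (FR.cj_mem_Aut hu.1)) hm.1, fun x hx => ?_⟩, u, hu, by group⟩
  rw [Set.mem_singleton_iff.1 hx, ra_mul, ← hue, ra_inv_apply]

end Cfsg.Agent.DS.Cl
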